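import Cfsg.Agent.Mrg.Omega.NO3S.NotFF.Basic
import Cfsg.Agent.Mrg.Omega.NO3b.EZeroBase
import Cfsg.Agent.ZN.ChoiceBase
import Cfsg.Agent.ZN.ChoiceSit
import Cfsg.Agent.MinSimple.MinParabolic


/-!
# THEOREM TOR (bb OMEGA #25011, helper474; #25169, helper491; nonsplit: #25344, helper602): the frame

* `Cx S B Q M X L V z` : the case (L): `L = ∏ V i = Ω₁Z(Q)`, `|V i| = 4`, `B = C_S(z_i : i)`, `M ≥ S` local, `X` its module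
  (`X = Ω₁Z(D)`), `C_X(Q) = L`;
* `Off S Q M X L 𝓦` : the family of the `W_F` (707's `(*)`);
* `TY S B Q M X V z 𝓦 j Y W F` : (TOR) / (TOR') : `Y ∈ P(B)`, `Y ≤ C_M(z_i : i ≠ j)`, `W = ⟨z_j^Y⟩`, `F = C_W(O²(Y))`, `W / F`
  natural `SL₂(4)`-module, `C_W(Q) = V_j F`.
-/

set_option autoImplicit false
set_option linter.unusedSectionVars false

namespace Cfsg.Agent.Omega.NO3S.WY.Tor

open Subgroup Cfsg Cfsg.Agent.ZN Cfsg.Agent.ZN.ChoiceBase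
open Cfsg.Agent.ZN.ChoiceSit (Syl)
open Cfsg.Agent.MinSimple.MinParabolic (IsMinPar)
open Cfsg.Agent.MinSimple.VModule (oddGen)

universe u

variable {G : Type u} [Group G] {ι : Type}

/-- `Λ_j = ⟨z_i : i ≠ j⟩` -/
def Lam (z : ι → G) (j : ι) : Subgroup G := ⨆ i, ⨆ (_ : i ≠ j), zpowers (z i)

/-- `V_(j) = ∏_{i ≠ j} V_i` -/
def VV (V : ι → Subgroup G) (j : ι) : Subgroup G := ⨆ i, ⨆ (_ : i ≠ j), V i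

/-- **The case (L).** -/
structure Cx (S B Q M X L : Subgroup G) (V : ι → Subgroup G) (z : ι → G) : Prop where
  char2 : IsCharacteristicTwoType G
  S2 : IsPGroup 2 S
  Sidx : ¬ 2 ∣ S.index
  SM : S ≤ M
  MX : M ≤ normalizer (X : Set G)
  XS : X ≤ S
  Xc : ∀ x ∈ X, ∀ y ∈ X, x * y = y * x
  Xs : ∀ x ∈ X, x * x = 1
  LX : L ≤ X
  QB : Q ≤ B
  BS : B ≤ S
  cXQ : ∀ x ∈ X, (∀ q ∈ Q, q * x = x * q) → x ∈ L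
  cQL : ∀ q ∈ Q, ∀ l ∈ L, q * l = l * q
  cSL : ∀ s ∈ S, (∀ l ∈ L, s * l = l * s) → s ∈ Q
  /-- `Q` is weakly closed in `S` -/
  wc : ∀ g : G, cj g Q ≤ S → cj g Q = Q
  perm : ∀ g ∈ normalizer (Q : Set G), ∀ i, ∃ j, cj g (V i) = V j
  eL : L = ⨆ i, V i
  ind : ∀ i, V i ⊓ VV V i = ⊥
  cV : ∀ i, Nat.card (V i) = 4
  zV : ∀ i, z i ∈ V i
  z1 : ∀ i, z i ≠ 1
  zS : ∀ s ∈ S, ∀ i, ∃ j, s * z i * s⁻¹ = z j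
  Bz : ∀ b ∈ B, ∀ i, b * z i = z i * b
  memB : ∀ s ∈ S, (∀ i, s * z i = z i * s) → s ∈ B
  /-- `t_i` -/
  t : ∀ i, ∃ t ∈ B, (∀ j, j ≠ i → ∀ v ∈ V j, t * v = v * t) ∧ ∃ v ∈ V i, t * v ≠ v * t
  /-- `d_i ∈ P`, of order 3 on `V_i` -/
  d : ∀ i, ∃ d ∈ M, d ∈ normalizer (Q : Set G) ∧ Odd (orderOf d) ∧ (∀ j, j ≠ i → ∀ v ∈ V j, d * v = v * d) ∧
    d * z i * d⁻¹ ≠ z i
  tr : ∀ i j, ∃ s ∈ S, cj s (V i) = V j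
  /-- `V_P ≤ O₂(C_G(z_i))` (`Bg.V_le`) -/
  LO : ∀ i, L ≤ o2 (centralizer ({z i} : Set G))
  /-- `B` is a Sylow 2-subgroup of `C_G(Λ_j)` -/
  sylB : ∀ j, ∀ T : Subgroup G, IsPGroup 2 T → B ≤ T → (∀ i, i ≠ j → ∀ x ∈ T, x * z i = z i * x) → T ≤ B

/-- **The family of the `W_F`**: closed under `M`; `(*)` of helper707 #23773 (form of helper922 #25781: `D ≤ V_P^g`);
all `W_F ≤ S` are in `Q`. -/
structure Off (S Q M X L : Subgroup G) (𝓦 : Set (Subgroup G)) : Prop where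
  cj : ∀ A ∈ 𝓦, ∀ g ∈ M, cj g A ∈ 𝓦
  AM : ∀ A ∈ 𝓦, A ≤ M
  A2 : ∀ A ∈ 𝓦, IsPGroup 2 A
  AQ : ∀ A ∈ 𝓦, A ≤ S → A ≤ Q
  quad : ∀ A ∈ 𝓦, A ≤ S → ∀ g ∈ M, ∀ D : Subgroup G, D ≠ ⊥ → D ≤ ChoiceBase.cj g L → ∀ x ∈ X,
    x ∈ o2 (centralizer (D : Set G)) → ∀ a ∈ ChoiceBase.cj g A, ∀ b ∈ ChoiceBase.cj g A,
      b * (a * x * a⁻¹ * x⁻¹) = (a * x * a⁻¹ * x⁻¹) * b
  best : ∀ A ∈ 𝓦, A ≤ S → ∀ g ∈ M, ∀ D : Subgroup G, D ≠ ⊥ → D ≤ ChoiceBase.cj g L → ∀ U : Subgroup G, U ≤ X →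
    U ≤ o2 (centralizer (D : Set G)) → ∀ A' ≤ ChoiceBase.cj g A,
      Nat.card A' * Nat.card ↥(U ⊓ centralizer (A' : Set G)) ≤
        Nat.card (ChoiceBase.cj g A) * Nat.card ↥(U ⊓ centralizer (ChoiceBase.cj g A : Set G))

/-- **(TOR')** -/
structure TY (S B Q M X : Subgroup G) (V : ι → Subgroup G) (z : ι → G) (𝓦 : Set (Subgroup G)) (j : ι)
    (Y W F : Subgroup G) : Prop where
  min : IsMinPar B Y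
  YM : Y ≤ M
  Yz : ∀ y ∈ Y, ∀ i, i ≠ j → y * z i = z i * y
  WX : W ≤ X
  YW : Y ≤ normalizer (W : Set G)
  /-- `W = ⟨z_j^Y⟩` -/
  gen : ∀ U : Subgroup G, z j ∈ U → Y ≤ normalizer (U : Set G) → W ≤ U
  VW : V j ≤ W
  FW : F ≤ W
  FL : F ≤ Lam z j
  cW : Nat.card W = 16 * Nat.card F
  cWQ : ∀ w ∈ W, (∀ q ∈ Q, q * w = w * q) → w ∈ V j ⊔ F
  quad : ∀ q ∈ Q, ∀ w ∈ W, q * w * q⁻¹ * w⁻¹ ∈ V j ⊔ F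
  free : ∀ q ∈ Q, ∀ w ∈ W, w ∉ V j ⊔ F → q * w * q⁻¹ * w⁻¹ ∈ F → ∀ u ∈ W, q * u = u * q
  cardQ : Nat.card Q = 4 * Nat.card ↥(Q ⊓ centralizer (W : Set G))
  /-- the action on the five lines -/
  act : ∃ (ℓ : Fin 5 → Subgroup G) (π : ↥Y →* Equiv.Perm (Fin 5)), ℓ 0 = V j ⊔ F ∧ (∀ a, ℓ a ≤ W) ∧
    (∀ a b, a ≠ b → ℓ a ⊓ ℓ b = F) ∧ (∀ (y : Y) a, cj (y : G) (ℓ a) = ℓ (π y a)) ∧
    alternatingGroup (Fin 5) ≤ π.range ∧ ∀ y : Y, π y = 1 → ∀ w ∈ W, (y : G) * w * (y : G)⁻¹ * w⁻¹ ∈ F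
  /-- some `W_F ≤ S` moves `W` -/
  mv : ∃ A ∈ 𝓦, A ≤ S ∧ ¬ A ≤ centralizer (W : Set G)

/-- **The end**: `Z = ⟨z₀⟩`; the members of `P(S)` in `M` normalise `L` or centralise `z₀`. -/
structure Pr (S M L : Subgroup G) (V : ι → Subgroup G) (z : ι → G) (z₀ : G) : Prop where
  z0 : ∀ i, ∃ y ∈ VV V i, z₀ = z i * y
  par : ∀ R : Subgroup G, IsMinPar S R → R ≤ M → R ≤ normalizer (L : Set G) ∨ ∀ r ∈ R, r * z₀ * r⁻¹ = z₀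

end Cfsg.Agent.Omega.NO3S.WY.Tor
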