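import Cfsg.Agent.Mrg.Omega.NO3S.WY.Exact
import Cfsg.Agent.Mrg.Omega.Node.SymG
import Cfsg.Agent.Mrg.Omega.Node.MulXTwo
import Cfsg.Agent.Mrg.Omega.TC.Crit
import Cfsg.Agent.ZN.Block
import Cfsg.Agent.Mrg.Omega.OM.SWT.Base
import Cfsg.Agent.Mrg.Omega.OM.SwapL.Main

section


/-!
# (TOR'): the literal (output of (ii) of NoW, `q = 2`; input of THEOREM TOR)

`MulL S P B ZJ L W Z C A 2` (`Node/MulX.lean`; the `V_i` of the texts are the `W i`, `⟨z_i⟩ = Z i`), `Y` a weird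
minimal parabolic over `B` which centralises all `Z l`, `l ≠ j` (`WJ`).

* `FamT S P Y V 𝓕` : a `GX`-closed family of 2-groups; all members in `S` lie in `O₂(P)`, one of them is not in
  `O₂(Y)`; **(*)**: its members are hereditary and quadratic best offenders on the subgroups of
  `V ∩ O₂(C_G(D))`, `1 ≠ D ≤ V_P^g`;
* `famT_of_pasM`, `famT_of_pasW` : both passive cases of the cut give such a family;
* `TorP` : **(TOR')**: `Ω₁(Z(B))^Y / C` is ONE natural `SL₂(4)`-module for `Y`, `V_j` is the line fixed by `B`,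
  `O₂(P)` acts as (a subgroup of) the root group.
-/

set_option autoImplicit false
set_option linter.unusedSectionVars false
set_option linter.dupNamespace false

namespace Cfsg.Agent.Omega.NO3S.WY

open Subgroup Cfsg Cfsg.Agent.ZN Cfsg.Agent.ZN.ChoiceBase Cfsg.Agent.Omega.MinPar Cfsg.Agent.Omega.Frame
open Cfsg.Agent.ZN.ChoiceSit (Syl)
open Cfsg.Agent.MinSimple.MinParabolic (IsMinPar)
open Cfsg.Agent.Omega.NO3S.Level
open Cfsg.Agent.Omega.NO3S.RedC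
open Cfsg.Agent.Omega.FFThm (OffM ElemM NatKM ActsSL)
open Cfsg.Agent.Lib.SL2Mat (up)
open Cfsg.Agent.Omega.NO1.BestOff (Best)
open Cfsg.Agent.Omega.FrameFF (cv)
open Cfsg.Agent.Omega.Node.MulX (MulL)
open scoped Pointwise

universe u

variable {G : Type u} [Group G] [Finite G]

/-- A weird `Y` over `B` in position `j`. -/
structure WJ (S : Sylow 2 G) (P B : Subgroup G) {k : ℕ} (Z : Fin k → Subgroup G) (j : Fin k) (Y : Subgroup G) :
    Prop extends WY S P B Y where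
  cen : ∀ l, l ≠ j → Y ≤ centralizer (Z l : Set G)

/-- quadratic action of `A` on `U` -/
def Qd (U A : Subgroup G) : Prop :=
  ∀ a ∈ A, ∀ b ∈ A, ∀ u ∈ U, (a * u * a⁻¹ * u⁻¹) * b = b * (a * u * a⁻¹ * u⁻¹)

/-- **The passive family** at the weird `Y`, module `V`. -/
structure FamT (S : Sylow 2 G) (P Y V : Subgroup G) (𝓕 : Set (Subgroup G)) : Prop where
  md : Md S P Y V
  cj : ∀ A ∈ 𝓕, ∀ g ∈ GX (S : Subgroup G) P Y, cj g A ∈ 𝓕
  le : ∀ A ∈ 𝓕, A ≤ GX (S : Subgroup G) P Y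
  pas : ∀ A ∈ 𝓕, A ≤ (S : Subgroup G) → A ≤ o2 P
  act : ∃ A ∈ 𝓕, A ≤ o2 P ∧ ¬ A ≤ o2 Y
  /-- **(*)** -/
  her : ∀ A ∈ 𝓕, A ≤ (S : Subgroup G) → ∀ g ∈ GX (S : Subgroup G) P Y, ∀ D U : Subgroup G, D ≠ ⊥ →
    D ≤ ChoiceBase.cj g (zl (S : Subgroup G) P) → U ≤ V → U ≤ o2 (centralizer (D : Set G)) →
      Best U (ChoiceBase.cj g A) ∧ Qd U (ChoiceBase.cj g A)

theorem qd_mono {U U' A : Subgroup G} (h : Qd U A) (hU : U' ≤ U) : Qd U' A := fun a ha b hb u hu => h a ha b hb u (hU hu)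

/-- the case (W), passive -/
theorem famT_of_pasW {S : Sylow 2 G} {P T Y V F : Subgroup G} (h : WQ S P T Y) (hV : Md S P Y V)
    (hp : PasW S P Y V F) :
    FamT S P Y V {A | ∃ F₁, NOne.Flat.Hyp V F₁ ∧ NOne.Flat.WW V F₁ = A} where
  md := hV
  cj := by
    rintro _ ⟨F₁, hF, rfl⟩ g hg
    exact ⟨MulAut.conj g • F₁, hF.conj (hV.norm hg), WW_cj (hV.norm hg)⟩
  le := by
    rintro _ ⟨F₁, hF, rfl⟩
    exact h.W_le_GX hV hF
  pas := by
    rintro _ ⟨F₁, hF, rfl⟩ hS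
    exact hp.pas F₁ hF hS
  act := ⟨_, ⟨F, hp.hyp, rfl⟩, hp.WQ, hp.mv⟩
  her := by
    rintro _ ⟨F₁, hF, rfl⟩ hS g hg D U hD hDg hU hUO
    have hgV : g ∈ normalizer (V : Set G) := hV.norm hg
    have hF' := hF.conj hgV
    have hL : zl (S : Subgroup G) P ≤ F₁ := h.L_le_F hV hF (hp.pas F₁ hF hS)
    have hDF : D ≤ MulAut.conj g • F₁ := by
      intro d hd
      obtain ⟨x, hx, rfl⟩ := hDg hd
      exact ⟨x, hL hx, rfl⟩
    have hE : U ≤ NOne.Flat.EE V (MulAut.conj g • F₁) := BetaFF.le_EE_of_low hF' hU hDF hUO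
    rw [← WW_cj hgV]
    refine ⟨bestW hF' hE, fun a ha b hb u hu => ?_⟩
    have h1 := hF'.comm_EW (hE hu) ha
    have h2 : a * u * a⁻¹ * u⁻¹ = (NOne.NearFF.c u a)⁻¹ := by rw [NOne.NearFF.c_def]; group
    rw [h2]
    exact NOne.Flat.Hyp.F_comm (inv_mem h1) (NOne.Flat.Hyp.W_le_X hb)

/-- the case (V), passive -/
theorem famT_of_pasM {S : Sylow 2 G} {P T Y V : Subgroup G} (h : WQ S P T Y) (hV : Md S P Y V)
    (hp : PasM S P Y V) :
    FamT S P Y V {A | MaxMin V (GX (S : Subgroup G) P Y) A} where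
  md := hV
  cj := fun A hA g hg => MaxMin.cj hA hg hV.norm
  le := fun A hA => hA.le
  pas := fun A hA hS => hp.pas A hA hS
  act := by
    obtain ⟨A, hA, h1, h2⟩ := hp.act
    exact ⟨A, hA, h1, h2⟩
  her := by
    intro A hA hS g hg D U hD hDg hU hUO
    have hVc : V ≤ centralizer (V : Set G) := h.Vc hV
    have hgV : g ∈ normalizer (V : Set G) := hV.norm hg
    have hA' : MaxMin V (GX (S : Subgroup G) P Y) (ChoiceBase.cj g A) := MaxMin.cj hA hg hV.norm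
    refine ⟨best_mono hA'.best hU hVc, ?_⟩
    rintro _ ⟨a, ha, rfl⟩ _ ⟨b, hb, rfl⟩ u hu
    have hVS : V ≤ (S : Subgroup G) := hV.le.trans h.V_le_S
    have hu' : g⁻¹ * u * g ∈ V := by
      have := (mem_normalizer_iff.1 (inv_mem hgV) u).1 (hU hu)
      simpa using this
    have h1 := hA.quad hVc S.isPGroup' hVS hS hV.norm hu' ha
    have h2 := mem_centralizer_iff.1 h1 b hb
    have e1 : g * a * g⁻¹ * u * (g * a * g⁻¹)⁻¹ * u⁻¹ = g * (a * (g⁻¹ * u * g) * a⁻¹ * (g⁻¹ * u * g)⁻¹) * g⁻¹ := by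
      group
    simp only [MulEquiv.coe_toMonoidHom, MulAut.conj_apply]
    rw [e1]
    calc g * (a * (g⁻¹ * u * g) * a⁻¹ * (g⁻¹ * u * g)⁻¹) * g⁻¹ * (g * b * g⁻¹)
        = g * ((a * (g⁻¹ * u * g) * a⁻¹ * (g⁻¹ * u * g)⁻¹) * b) * g⁻¹ := by group
      _ = g * (b * (a * (g⁻¹ * u * g) * a⁻¹ * (g⁻¹ * u * g)⁻¹)) * g⁻¹ := by rw [h2]
      _ = g * b * g⁻¹ * (g * (a * (g⁻¹ * u * g) * a⁻¹ * (g⁻¹ * u * g)⁻¹) * g⁻¹) := by group

/-- **(TOR')** -/
structure TorP (S : Sylow 2 G) (P B ZJ : Subgroup G) {k : ℕ} (L W Z C A : Fin k → Subgroup G) (j : Fin k)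
    (Y : Subgroup G) : Prop where
  mul : MulL S P B ZJ L W Z C A 2
  wj : WJ S P B Z j Y
  fam : ∃ (V : Subgroup G) (𝓕 : Set (Subgroup G)), FamT S P Y V 𝓕
  /-- one natural `SL₂(4)`-block; `V_j` = the line fixed by `B`; `O₂(P)` acts inside the root group -/
  nat : ∃ (F : Type) (_ : Field F) (_ : Finite F) (_ : CharP F 2) (N : NatKM F B Y (zl B Y) (cv B Y) 1),
    Nat.card F = 4 ∧ (∀ v ∈ zl B Y, N.e v 0 1 = 0 ↔ v ∈ W j ⊔ cv B Y) ∧
      ∀ q ∈ o2 P, ∃ b : F, ActsSL N.e (zl B Y) (cv B Y) q fun _ => up b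

end Cfsg.Agent.Omega.NO3S.WY

end

section


/-!
# The master glue of `MulXTwo.NoW`

`MulL S P B ZJ L W Z C A 2`, `2 ≤ k`, `NLoc (KX B ZJ V_P)`.

* `Wd S P B ZJ Z j Y` : a weird `Y` over `B` in position `j` (any stage): the hypotheses of `NoW` and `[ZJ, Y] ≠ 1`;
* `Mx S P B ZJ Z Y` : `|D_Y|` is maximal among **all** weird `(Y', j')`; `exists_mx`;
* `Wd.toWJ`, `Wd.of_wj`, `Mx.wj` : if `J(S) ≤ O₂(Y)`, `Y` is in the frame `WJ`; the maximality among the `WJ`;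
* the sockets: `FinP K` (`J(S) ≤ O₂(Y)` for the maximal `Y`), `InfP K` (`J(S) ≤ O₂(Y)`: all sorts of the infinite
  stage);
* **`noW_of : FinP K → InfP K → NoW K`**.
-/

set_option autoImplicit false
set_option linter.unusedSectionVars false
set_option linter.dupNamespace false

namespace Cfsg.Agent.Omega.NO3S.WY.Sel

open Subgroup Cfsg Cfsg.Agent.ZN Cfsg.Agent.ZN.ChoiceBase Cfsg.Agent.Omega.MinPar Cfsg.Agent.Omega.Frame
open Cfsg.Agent.ZN.ChoiceSit (Syl)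
open Cfsg.Agent.MinSimple.MinParabolic (IsMinPar)
open Cfsg.Agent.Omega.NO3S.Level
open Cfsg.Agent.Omega.NO3S.RedC
open Cfsg.Agent.Omega.Frame (Cls)
open Cfsg.Agent.Omega.OM
open Cfsg.Agent.Omega.Node.MultiOf Cfsg.Agent.Omega.Node.MulG
open Cfsg.Agent.Omega.Node.MulX (MulL KX)
open Cfsg.Agent.Omega.Node.MulXTwo (NoW)

universe u

section

variable {G : Type u} [Group G] [Finite G]

/-- A weird `Y` over `B` in position `j`, any stage. -/
structure Wd (S : Sylow 2 G) (P B ZJ : Subgroup G) {ι : Type} (Z : ι → Subgroup G) (j : ι) (Y : Subgroup G) :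
    Prop where
  par : IsMinPar B Y
  syl : Syl B Y
  c2 : Y ⊓ centralizer (o2 Y : Set G) ≤ o2 Y
  cen : ∀ l, l ≠ j → Y ≤ centralizer (Z l : Set G)
  nQ : ¬ o2 P ≤ o2 Y
  mv : ¬ Y ≤ centralizer (ZJ : Set G)

/-- `|D_Y|` is maximal among all weird `(Y', j')`. -/
def Mx (S : Sylow 2 G) (P B ZJ : Subgroup G) {ι : Type} (Z : ι → Subgroup G) (Y : Subgroup G) : Prop :=
  ∀ (j' : ι) (Y' : Subgroup G), Wd S P B ZJ Z j' Y' →
    Nat.card ↥(DX (S : Subgroup G) P Y') ≤ Nat.card ↥(DX (S : Subgroup G) P Y)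

variable {S : Sylow 2 G} {P B ZJ : Subgroup G} {k : ℕ} {L W Z C A : Fin k → Subgroup G} {q : ℕ}

theorem exists_mx {ι : Type} [Finite ι] {Z : ι → Subgroup G} {j : ι} {Y : Subgroup G} (h : Wd S P B ZJ Z j Y) :
    ∃ (j' : ι) (Y' : Subgroup G), Wd S P B ZJ Z j' Y' ∧ Mx S P B ZJ Z Y' := by
  classical
  obtain ⟨⟨j', Y'⟩, h1, h2⟩ := Set.exists_max_image {p : ι × Subgroup G | Wd S P B ZJ Z p.1 p.2}
    (fun p => Nat.card ↥(DX (S : Subgroup G) P p.2)) (Set.toFinite _) ⟨(j, Y), h⟩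
  exact ⟨j', Y', h1, fun j'' Y'' h3 => h2 (j'', Y'') h3⟩

/-- `Ω₁(Z(B)) = ZJ` -/
theorem zc_B (h : MulL S P B ZJ L W Z C A q) : zc B = ZJ := by
  have hwl : SwapK.WL S (o2 P) := SwapK.WL.of_top (top_caseL h.cl)
  have hBK : SwapK.BK (S : Subgroup G) (o2 P) = B := h.eqB.symm
  have hZK : SwapK.ZK (S : Subgroup G) (o2 P) = ZJ := h.eZ.symm
  have hzB := hwl.zc_B
  rw [hBK, hZK] at hzB
  exact hzB

/-- The weird `Y` with `J(S) ≤ O₂(Y)`. -/
theorem Wd.toWJ {j : Fin k} {Y : Subgroup G} (h : Wd S P B ZJ Z j Y) (hM : MulL S P B ZJ L W Z C A q)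
    (hj : jj (S : Subgroup G) ≤ o2 Y) : WJ S P B Z j Y where
  toWY := WY.of_mv hM.cl (hM.eB.trans_le inf_le_left) hM.fr.QB h.syl h.par h.c2
    (fun hc => h.mv (by rwa [zc_B hM] at hc)) h.nQ hj
  cen := h.cen

theorem Wd.of_wj {j : Fin k} {Y : Subgroup G} (h : WJ S P B Z j Y) (hM : MulL S P B ZJ L W Z C A q) :
    Wd S P B ZJ Z j Y where
  par := h.min
  syl := h.syl
  c2 := h.c2
  cen := h.cen
  nQ := h.nQ
  mv := fun hc => h.mv (by rwa [zc_B hM])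

/-- the maximality among the `WJ` -/
theorem Mx.wj {Y : Subgroup G} (h : Mx S P B ZJ Z Y) (hM : MulL S P B ZJ L W Z C A q) (j' : Fin k) (Y' : Subgroup G)
    (h' : WJ S P B Z j' Y') : Nat.card ↥(DX (S : Subgroup G) P Y') ≤ Nat.card ↥(DX (S : Subgroup G) P Y) :=
  h j' Y' (Wd.of_wj h' hM)

end

/-- **socket: the finite stages** -/
def FinP (K : Cls.{u}) : Prop :=
  ∀ (G : Type u) [Group G] [Finite G], K G → ∀ (S : Sylow 2 G) (P B ZJ : Subgroup G) (k : ℕ)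
    (L W Z C A : Fin k → Subgroup G), 2 ≤ k → MulL S P B ZJ L W Z C A 2 →
      NLoc (KX B ZJ (zl (S : Subgroup G) P)) → ∀ (j : Fin k) (Y : Subgroup G), Wd S P B ZJ Z j Y →
        Mx S P B ZJ Z Y → jj (S : Subgroup G) ≤ o2 Y

/-- **socket: the infinite stage** (all sorts: `PasM`, `PasW`, `ActW`; `NO3S/WY/Cut.lean`) -/
def InfP (K : Cls.{u}) : Prop :=
  ∀ (G : Type u) [Group G] [Finite G], K G → ∀ (S : Sylow 2 G) (P B ZJ : Subgroup G) (k : ℕ)
    (L W Z C A : Fin k → Subgroup G), 2 ≤ k → MulL S P B ZJ L W Z C A 2 →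
      NLoc (KX B ZJ (zl (S : Subgroup G) P)) → ∀ (j : Fin k) (Y : Subgroup G), WJ S P B Z j Y →
        Mx S P B ZJ Z Y → False

/-- **The master glue.** -/
theorem noW_of {K : Cls.{u}} (h1 : FinP K) (h2 : InfP K) : NoW K := by
  intro G _ _ hK S P B ZJ k L W Z C A hk hM hN j Y hp hs hc hcen hQ
  by_contra hmv
  obtain ⟨j', Y', hw, hx⟩ := exists_mx (S := S) (P := P) (B := B) (ZJ := ZJ) (Z := Z) (j := j) (Y := Y)
    ⟨hp, hs, hc, hcen, hQ, hmv⟩
  have hj := h1 G hK S P B ZJ k L W Z C A hk hM hN j' Y' hw hx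
  exact h2 G hK S P B ZJ k L W Z C A hk hM hN j' Y' (hw.toWJ hM hj) hx

end Cfsg.Agent.Omega.NO3S.WY.Sel

end

section


/-!
# THEOREM TOR (helper474 #25011), (2+) of helper491 #25169: `W^g = W`

`X = W × Λ` elementary abelian, `W₂` a second complement of `Λ` in `X`; `K`, `K₂`, `B*` centralise `Λ`, `K` and `B*`
normalise `W`, `K₂` normalises `W₂`, `W = [W, K]`, `W₂ = [W₂, K₂]`, `B*` of odd index in `⟨K, K₂, B*⟩`:

* `eq_of_le` : `W₂ = W` (invariant complements, Gaschuetz).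
-/

set_option autoImplicit false
set_option linter.unusedSectionVars false

namespace Cfsg.Agent.Omega.NO3S.WY.Tor.UniEq

open Subgroup
open scoped commutatorElement Pointwise

universe u

variable {G : Type u} [Group G]

/-- `X` a `K`-invariant complement: `W = [W, K] ≤ X`. -/
theorem le_compl {W Lam X K : Subgroup G} (KL : K ≤ centralizer (Lam : Set G)) (WK : W ≤ ⁅W, K⁆)
    (hX : ∀ v ∈ W, ∃ n ∈ Lam, v * n ∈ X) (KX : K ≤ normalizer (X : Set G)) : W ≤ X := by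
  refine WK.trans (commutator_le.2 fun w hw k hk => ?_)
  obtain ⟨n, hn, hx⟩ := hX w hw
  have e1 : n * k = k * n := mem_centralizer_iff.1 (KL hk) n hn
  have e2 : ⁅w, k⁆ = (w * n) * (k * (w * n)⁻¹ * k⁻¹) := by
    rw [commutatorElement_def]
    calc w * k * w⁻¹ * k⁻¹ = w * (k * n) * n⁻¹ * w⁻¹ * k⁻¹ := by group
      _ = w * (n * k) * n⁻¹ * w⁻¹ * k⁻¹ := by rw [e1]
      _ = _ := by group
  rw [e2]
  exact X.mul_mem hx ((mem_normalizer_iff.1 (KX hk) _).1 (X.inv_mem hx))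

theorem exists_mul {W Lam : Subgroup G} (hWL : W ≤ normalizer (Lam : Set G)) {x : G} (hx : x ∈ W ⊔ Lam) :
    ∃ a ∈ W, ∃ b ∈ Lam, x = a * b := by
  have : x ∈ (W : Set G) * (Lam : Set G) := by
    rw [← Subgroup.coe_mul_of_left_le_normalizer_right W Lam hWL]; exact hx
  obtain ⟨a, ha, b, hb, rfl⟩ := this
  exact ⟨a, ha, b, hb, rfl⟩

/-- **(2+)** -/
theorem eq_of_le [Finite G] {W W₂ Lam K K₂ Bs : Subgroup G}
    (comm : ∀ x ∈ W ⊔ Lam, ∀ y ∈ W ⊔ Lam, x * y = y * x) (sq : ∀ x ∈ W ⊔ Lam, x ^ 2 = 1)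
    (inf : W ⊓ Lam = ⊥) (le₂ : W₂ ≤ W ⊔ Lam) (card : Nat.card W₂ = Nat.card W) (inf₂ : W₂ ⊓ Lam = ⊥)
    (KL : K ≤ centralizer (Lam : Set G)) (KL₂ : K₂ ≤ centralizer (Lam : Set G))
    (BL : Bs ≤ centralizer (Lam : Set G)) (KW : K ≤ normalizer (W : Set G)) (KW₂ : K₂ ≤ normalizer (W₂ : Set G))
    (BW : Bs ≤ normalizer (W : Set G)) (WK : W ≤ ⁅W, K⁆) (WK₂ : W₂ ≤ ⁅W₂, K₂⁆)
    (odd : ¬ 2 ∣ Bs.relIndex (K ⊔ K₂ ⊔ Bs)) : W₂ = W := by
  have hLN : ∀ {H : Subgroup G}, H ≤ centralizer (Lam : Set G) → H ≤ normalizer (Lam : Set G) := fun h =>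
    h.trans (centralizer_le_normalizer _)
  have hWL : W ≤ normalizer (Lam : Set G) := hLN fun w hw => mem_centralizer_iff.2 fun l hl =>
    comm l ((le_sup_right : Lam ≤ W ⊔ Lam) hl) w ((le_sup_left : W ≤ W ⊔ Lam) hw)
  have hWL₂ : W₂ ≤ normalizer (Lam : Set G) := hLN fun w hw => mem_centralizer_iff.2 fun l hl =>
    comm l ((le_sup_right : Lam ≤ W ⊔ Lam) hl) w (le₂ hw)
  -- `W₂ Λ = W Λ`
  have hc1 := ZN.Block.card_sup_mul_card_inf hWL
  have hc2 := ZN.Block.card_sup_mul_card_inf hWL₂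
  rw [inf, Subgroup.card_bot, mul_one] at hc1
  rw [inf₂, Subgroup.card_bot, mul_one, card, ← hc1] at hc2
  have hE : W₂ ⊔ Lam = W ⊔ Lam := Subgroup.eq_of_le_of_card_ge (sup_le le₂ le_sup_right) hc2.ge
  -- normalisers of `W Λ`
  have nE : ∀ {H A : Subgroup G}, H ≤ centralizer (Lam : Set G) → H ≤ normalizer (A : Set G) →
      H ≤ normalizer ((A ⊔ Lam : Subgroup G) : Set G) := by
    intro H A h1 h2 g hg
    rw [mem_normalizer_iff]
    intro x
    have h3 : ∀ g ∈ H, ∀ x ∈ A ⊔ Lam, g * x * g⁻¹ ∈ A ⊔ Lam := by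
      intro g hg x hx
      have e : A ⊔ Lam ≤ (A ⊔ Lam).comap (MulAut.conj g).toMonoidHom := by
        refine sup_le (fun a ha => ?_) (fun l hl => ?_)
        · exact (le_sup_left : A ≤ A ⊔ Lam) ((mem_normalizer_iff.1 (h2 hg) a).1 ha)
        · exact (le_sup_right : Lam ≤ A ⊔ Lam) ((mem_normalizer_iff.1 (hLN h1 hg) l).1 hl)
      exact e hx
    refine ⟨h3 g hg x, fun hx => ?_⟩
    have := h3 g⁻¹ (inv_mem hg) _ hx
    rwa [show g⁻¹ * (g * x * g⁻¹) * g⁻¹⁻¹ = x by group] at this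
  have hHE : K ⊔ K₂ ⊔ Bs ≤ normalizer ((W ⊔ Lam : Subgroup G) : Set G) := by
    refine sup_le (sup_le (nE KL KW) ?_) (nE BL BW)
    rw [← hE]; exact nE KL₂ KW₂
  have hHL : K ⊔ K₂ ⊔ Bs ≤ normalizer (Lam : Set G) := sup_le (sup_le (hLN KL) (hLN KL₂)) (hLN BL)
  obtain ⟨X, -, hXN, hXE, hX, hHX⟩ := TCQ.R.exists_X (E := W ⊔ Lam) (N := Lam) (l := W) (b := ⊥)
    (H := K ⊔ K₂ ⊔ Bs) (T := Bs) comm sq bot_le le_sup_right le_sup_left
    (fun x hx hx' => by rw [← inf]; exact ⟨hx, hx'⟩)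
    (fun x hx => exists_mul hWL hx)
    hHE hHL (fun g _ => by rw [mem_normalizer_iff]; intro x; simp) BW
    (Nat.not_even_iff_odd.1 fun h => odd (even_iff_two_dvd.1 h))
  have hKX : K ≤ normalizer (X : Set G) := (le_sup_left.trans le_sup_left).trans hHX
  have hKX₂ : K₂ ≤ normalizer (X : Set G) := (le_sup_right.trans le_sup_left).trans hHX
  have h1 : W ≤ X := le_compl KL WK hX hKX
  have hXW : X ≤ W := by
    intro x hx
    obtain ⟨a, ha, b, hb, rfl⟩ := exists_mul hWL (hXE hx)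
    have h2 : b ∈ X := by
      have := X.mul_mem (X.inv_mem (h1 ha)) hx
      rwa [inv_mul_cancel_left] at this
    have h3 := hXN b h2 hb
    rw [mem_bot] at h3
    rw [h3, mul_one]; exact ha
  have h2 : W₂ ≤ X := by
    refine le_compl KL₂ WK₂ (fun v hv => ?_) hKX₂
    obtain ⟨a, ha, b, hb, rfl⟩ := exists_mul hWL (le₂ hv)
    exact ⟨b⁻¹, Lam.inv_mem hb, by rw [mul_inv_cancel_right]; exact h1 ha⟩
  exact Subgroup.eq_of_le_of_card_ge (h2.trans hXW) card.ge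

end Cfsg.Agent.Omega.NO3S.WY.Tor.UniEq

end

section


/-!
# (LIN): the parabolics in `Y_b` (helper388 #25947)

`Y` weird with `|D_Y|` maximal (`Mx`), `J ≤ O₂(P)` weakly closed in `S`, `J ≰ O₂(Y)`.

* `norm_or` : a minimal parabolic `R ≤ Y ∩ N(J)` over `B` normalises `O₂(P)` or centralises `Z_J`;
* `norm_or_lev` : the same for `R ≤ N(B_j)`, `lev S j ≤ O₂(P)`, `lev S j ≰ O₂(Y)`;
* `norm_Q` : `N_G(B) ≤ N_G(O₂(P))`.
-/

set_option autoImplicit false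
set_option linter.unusedSectionVars false

namespace Cfsg.Agent.Omega.OM.LowT

open Subgroup Cfsg Cfsg.Agent.ZN.ChoiceBase Cfsg.Agent.ZN.ChoiceSit
open Cfsg.Agent.ZN (jj zj bau zc zl o2)
open Cfsg.Agent.MinSimple.MinParabolic (IsMinPar)
open Cfsg.Agent.Omega.NO3b.Wc (WC)
open Cfsg.Agent.Omega.NO3S.Level (lev lev_isLev lev_wc)
open Cfsg.Agent.Omega.NO3S.RedC (DX DX_le DX_le_P DX_le_X le_DX wc_DX)
open Cfsg.Agent.Omega.NO3S.WY.Sel (Wd Mx)
open Cfsg.Agent.Omega.Node.MulX (MulL)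

universe u

variable {G : Type u} [Group G] [Finite G] {S : Sylow 2 G} {P B ZJ : Subgroup G}

section

variable {ι : Type} {Z : ι → Subgroup G} {j : ι} {Y : Subgroup G}

/-- **The parabolics in `Y ∩ N(J)`.** -/
theorem norm_or (hQ : WC (S : Subgroup G) (o2 P)) (hQB : o2 P ≤ B) (hBS : B ≤ (S : Subgroup G))
    (hw : Wd S P B ZJ Z j Y) (hx : Mx S P B ZJ Z Y) {J : Subgroup G} (hJ : WC (S : Subgroup G) J)
    (hJQ : J ≤ o2 P) (hJY : ¬ J ≤ o2 Y) {R : Subgroup G} (hR : IsMinPar B R) (hRY : R ≤ Y)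
    (hRJ : R ≤ normalizer (J : Set G)) : R ≤ normalizer (o2 P : Set G) ∨ R ≤ centralizer (ZJ : Set G) := by
  by_cases hmv : R ≤ centralizer (ZJ : Set G)
  · exact Or.inr hmv
  left
  have hBR : B ≤ R := hR.le
  have hB2 : IsPGroup 2 B := hw.syl.2.1
  have hsyl : Syl B R := ⟨hBR, hB2, fun Q' hQ' hQ2 hle => hw.syl.2.2 Q' (hQ'.trans hRY) hQ2 hle⟩
  have hoR : o2 R ≤ (S : Subgroup G) := (o2_le_syl hsyl).trans hBS
  by_cases hQR : o2 P ≤ o2 R
  · exact (le_normalizer_o2 R).trans (NO3S.Level.WC.norm_le hQ hQR hoR)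
  exfalso
  have hoY : o2 Y ≤ (S : Subgroup G) := (o2_le_syl hw.syl).trans hBS
  -- `O₂(Y) ≤ O₂(R)`
  have h1 : o2 Y ≤ o2 R := le_o2 (isPGroup_o2 Y) ((o2_le_syl hw.syl).trans hBR) (hRY.trans (le_normalizer_o2 Y))
  have hW : Wd S P B ZJ Z j R :=
    ⟨hR, hsyl, fun x hx' => h1 (hw.c2 ⟨hRY hx'.1, centralizer_le h1 hx'.2⟩), fun l hl => hRY.trans (hw.cen l hl),
      hQR, hmv⟩
  -- `K♯ = D_Y J ≤ O₂(R)`
  have hRD : R ≤ normalizer (DX (S : Subgroup G) P Y : Set G) :=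
    hRY.trans ((le_normalizer_o2 Y).trans (NO3S.Level.WC.norm_le (wc_DX _ _ _) (DX_le_X _ _ _) hoY))
  have hKw : WC (S : Subgroup G) (DX (S : Subgroup G) P Y ⊔ J) := by
    have h2 : WC (S : Subgroup G) (sSup {DX (S : Subgroup G) P Y, J}) := WC.sSup fun b hb => by
      rcases hb with rfl | rfl
      · exact wc_DX _ _ _
      · exact hJ
    rwa [sSup_pair] at h2
  have hKQ : DX (S : Subgroup G) P Y ⊔ J ≤ o2 P := sup_le (DX_le_P _ _ _) hJQ
  have hKR : DX (S : Subgroup G) P Y ⊔ J ≤ o2 R := by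
    refine le_o2 (hB2.to_le (hKQ.trans hQB)) ((hKQ.trans hQB).trans hBR) ?_
    intro r hr
    have e : cj r (DX (S : Subgroup G) P Y ⊔ J) = cj r (DX (S : Subgroup G) P Y) ⊔ cj r J := Subgroup.map_sup _ _ _
    rw [mem_normalizer_iff_cj, e, cj_eq_of_mem_normalizer (hRD hr), cj_eq_of_mem_normalizer (hRJ hr)]
  have h3 := le_DX hKw hKQ hKR
  have h4 := hx j R hW
  have h5 : DX (S : Subgroup G) P Y = DX (S : Subgroup G) P R := by
    refine Subgroup.eq_of_le_of_card_ge (le_sup_left.trans h3) h4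
  apply hJY
  exact (le_sup_right.trans (h3.trans h5.ge)).trans (DX_le_X _ _ _)

end

section mul

variable {k : ℕ} {L W Z C A : Fin k → Subgroup G} {q : ℕ} {i₀ : Fin k} {Y : Subgroup G}

/-- `O₂(P)` is weakly closed in `S`. -/
theorem wc_Q (h : MulL S P B ZJ L W Z C A q) : WC (S : Subgroup G) (o2 P) := Lev.Wc.wc_Lev h.cl.levQ

/-- `N_G(B) ≤ N_G(O₂(P))` -/
theorem norm_Q (h : MulL S P B ZJ L W Z C A q) : normalizer (B : Set G) ≤ normalizer (o2 P : Set G) :=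
  Lev.Wc.norm_B_Lev h.cl.levQ h.eqB

/-- **hYb** at a level. -/
theorem norm_or_lev (h : MulL S P B ZJ L W Z C A q) (hw : Wd S P B ZJ Z i₀ Y) (hx : Mx S P B ZJ Z Y) {j : ℕ}
    (hj : lev (S : Subgroup G) j ≤ o2 P) (hnj : ¬ lev (S : Subgroup G) j ≤ o2 Y) {R : Subgroup G}
    (hR : IsMinPar B R) (hRY : R ≤ Y) (hRB : R ≤ normalizer (LevB.BL (S : Subgroup G) j : Set G)) :
    R ≤ normalizer (o2 P : Set G) ∨ R ≤ centralizer (ZJ : Set G) := by
  refine norm_or (wc_Q h) h.fr.QB (h.eB.trans_le inf_le_left) hw hx (lev_wc j) hj hnj hR hRY (hRB.trans ?_)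
  exact (lev_isLev (S : Subgroup G) j).norm _ (Lev.Wc.lev_le_B S) inf_le_left

end mul

end Cfsg.Agent.Omega.OM.LowT

end

section


/-!
# (LL), `q = 2`, natural type, over a general top level: the position of `T`

Port of `OM/Lev/Low/PlugTwo.lean` to a general level `n : LV S`. `(T, Y)`, `T ≥ B = C_S(Z_J)` a Sylow 2-subgroup of the
minimal parabolic `Y` of characteristic 2 which moves `Ω₁Z(T)`.

* `exists_cj_le` : `T` is conjugate under `N_G(B)` to a subgroup of `S`;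
* `le_of_syl` : if `T` is a Sylow 2-subgroup of `G` then `K₀ ≤ O₂(Y)` (from the hypothesis on `P*(S)`); `le_of_syl'` : the
  same for any subgroup `D` normalised by `N_G(B)`; `lev_le_of_syl` : for `D = lev S m ≤ K₀`;
* `norm_lev` : `N_G(B) ≤ N_G(lev S m)` for `lev S m ≤ K₀`;
* `eq_or` : `k = 2`: `T = B` or `|T| = |S|`.

`le_cent_of_norm`, `eq_B` of `OM/Lev/Low/PlugTwo.lean` do not mention the level.
-/

set_option autoImplicit false
set_option linter.unusedSectionVars false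

namespace Cfsg.Agent.Omega.OM.LowT

open Subgroup Cfsg Cfsg.Agent.ZN.ChoiceBase Cfsg.Agent.ZN.ChoiceSit
open Cfsg.Agent.ZN (jj zj bau zc zl o2)
open Cfsg.Agent.MinSimple.MinParabolic (IsMinPar)
open Cfsg.Agent.Omega.MinPar (IsParS)
open Cfsg.Agent.Omega.OM.SWT (Ln ZT BT LV)
open Cfsg.Agent.Omega.OM.Lev.Low (le_cent_of_norm eq_B)
open Cfsg.Agent.Omega.NO3S.Level (lev lev_isLev lev_le)

universe u

variable {G : Type u} [Group G] [Finite G]

/-- `T` is conjugate under `N_G(B)` to a subgroup of `S`. -/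
theorem exists_cj_le {S : Sylow 2 G} (n : LV S) {T : Subgroup G} (hT : IsPGroup 2 T) (hB : BT n ≤ T) :
    ∃ g ∈ normalizer (BT n : Set G), cj g T ≤ S := by
  obtain ⟨R, hR⟩ := hT.exists_le_sylow
  obtain ⟨x, hx⟩ := MulAction.exists_smul_eq G S R
  have hRx : (R : Subgroup G) = cj x (S : Subgroup G) := by rw [← hx, Sylow.coe_subgroup_smul]; rfl
  rw [hRx] at hR
  have h1 : cj x⁻¹ T ≤ S := by
    have := cj_mono x⁻¹ hR
    rwa [cj_inv_cj] at this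
  refine ⟨x⁻¹, mem_normalizer_iff_cj.2 ?_, h1⟩
  exact SWT.wc n (S : Subgroup G) S.isPGroup' (SWT.lb n).BS x⁻¹ ((cj_mono _ hB).trans h1)

/-- **`T` Sylow in `G`**, for a subgroup `D` normalised by `N_G(B)`. -/
theorem le_of_syl' {S : Sylow 2 G} (n : LV S) {D : Subgroup G}
    (hD : normalizer (BT n : Set G) ≤ normalizer (D : Set G))
    (hall : ∀ R, IsParS (S : Subgroup G) R → D ≤ o2 R) {T Y : Subgroup G} (hT : Syl T Y)
    (hB : BT n ≤ T) (hcard : Nat.card S ≤ Nat.card T) (hP : IsMinPar T Y)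
    (hc : Y ⊓ centralizer (o2 Y : Set G) ≤ o2 Y) (hZ : ¬ Y ≤ centralizer (zc T : Set G)) :
    D ≤ o2 Y := by
  obtain ⟨g, hg, hgT⟩ := exists_cj_le n hT.2.1 hB
  have hS : cj g T = (S : Subgroup G) := Subgroup.eq_of_le_of_card_ge hgT (by rw [card_cj]; exact hcard)
  have hlev : cj g D = D := mem_normalizer_iff_cj.1 (hD hg)
  have h1 : IsParS (S : Subgroup G) (cj g Y) := by
    have h2 : IsMinPar (S : Subgroup G) (cj g Y) := by
      rw [← hS]
      exact NOThree.NoOver.isMinPar_cj g hP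
    have h3 : o2 (cj g Y) ≠ ⊥ := by
      intro e
      rw [← MinSimple.Geo.cj_o2] at e
      have e1 : o2 Y = ⊥ := by
        have := congrArg (cj g⁻¹) e
        rw [cj_inv_cj] at this
        rw [this]
        exact map_bot _
      rw [e1] at hc
      apply hZ
      have h4 : Y = ⊥ := le_bot_iff.1 (le_trans (le_inf le_rfl (fun y _ => by
        rw [mem_centralizer_iff]
        rintro x hx
        have hx' : x = 1 := hx
        rw [hx']
        simp)) hc)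
      rw [h4]
      exact bot_le
    refine ⟨⟨h2, h3⟩, fun h5 => hZ (le_cent_of_norm hT hP ?_)⟩
    intro y hy
    have h6 := h5 ⟨y, hy, rfl⟩
    rw [mem_normalizer_iff_cj, ← hS, NO3S.Level.zc_cj] at h6
    rw [mem_normalizer_iff_cj]
    have e2 : (MulAut.conj g).toMonoidHom y = g * y * g⁻¹ := rfl
    rw [e2, cj_cj] at h6
    have h7 := congrArg (cj g⁻¹) h6
    rw [cj_cj, cj_inv_cj] at h7
    rwa [show g⁻¹ * (g * y * g⁻¹ * g) = y by group] at h7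
  have h3 := hall _ h1
  rw [← hlev, ← MinSimple.Geo.cj_o2] at h3
  have h4 := cj_mono g⁻¹ h3
  rwa [cj_inv_cj, cj_inv_cj] at h4

/-- **`T` Sylow in `G`.** -/
theorem le_of_syl {S : Sylow 2 G} (n : LV S)
    (hall : ∀ R, IsParS (S : Subgroup G) R → n.K ≤ o2 R) {T Y : Subgroup G} (hT : Syl T Y)
    (hB : BT n ≤ T) (hcard : Nat.card S ≤ Nat.card T) (hP : IsMinPar T Y)
    (hc : Y ⊓ centralizer (o2 Y : Set G) ≤ o2 Y) (hZ : ¬ Y ≤ centralizer (zc T : Set G)) :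
    n.K ≤ o2 Y := le_of_syl' n (SWT.norm_K n) hall hT hB hcard hP hc hZ

/-- `N_G(B) ≤ N_G(lev S m)` for `lev S m ≤ K₀` -/
theorem norm_lev {S : Sylow 2 G} (n : LV S) {m : ℕ} (hm : lev (S : Subgroup G) m ≤ n.K) :
    normalizer (BT n : Set G) ≤ normalizer (lev (S : Subgroup G) m : Set G) :=
  (SWT.norm_K n).trans ((lev_isLev (S : Subgroup G) m).norm _ hm n.lev.le)

/-- **`T` Sylow in `G`**, for `lev S m ≤ K₀`. -/
theorem lev_le_of_syl {S : Sylow 2 G} (n : LV S) {m : ℕ} (hm : lev (S : Subgroup G) m ≤ n.K)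
    (hall : ∀ R, IsParS (S : Subgroup G) R → lev (S : Subgroup G) m ≤ o2 R) {T Y : Subgroup G} (hT : Syl T Y)
    (hB : BT n ≤ T) (hcard : Nat.card S ≤ Nat.card T) (hP : IsMinPar T Y)
    (hc : Y ⊓ centralizer (o2 Y : Set G) ≤ o2 Y) (hZ : ¬ Y ≤ centralizer (zc T : Set G)) :
    lev (S : Subgroup G) m ≤ o2 Y := le_of_syl' n (norm_lev n hm) hall hT hB hcard hP hc hZ

/-- `k = 2`, `q = 2`: `T = B` or `T` is a Sylow 2-subgroup of `G`. -/
theorem eq_or {S : Sylow 2 G} {P : Subgroup G} (n : LV S) {L W Z C : Fin 2 → Subgroup G}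
    (h : NO3S.EThree.Frame.Bg S P (BT n) (ZT n) L W Z C 2) {T : Subgroup G}
    (hT : IsPGroup 2 T) (hB : BT n ≤ T) :
    T = BT n ∨ Nat.card S ≤ Nat.card T := by
  obtain ⟨g, hg, hgT⟩ := exists_cj_le n hT hB
  have hBg : cj g (BT n) = BT n := mem_normalizer_iff_cj.1 hg
  have h1 : BT n ≤ cj g T := by
    rw [← hBg]
    exact cj_mono g hB
  rcases eq_B h h1 hgT with h2 | h2
  · left
    have h3 := congrArg (cj g⁻¹) (h2.trans hBg.symm)
    rwa [cj_inv_cj, cj_inv_cj] at h3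
  · right
    have h3 : Nat.card (cj g T) = Nat.card S := by rw [h2]
    rw [card_cj] at h3
    exact h3.ge

end Cfsg.Agent.Omega.OM.LowT

end
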