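import Cfsg.Agent.Mrg.Omega.FrameI
import Cfsg.Agent.Mrg.Omega.NO3S.WY.OddKerA
import Cfsg.Agent.MinSimple.VModule

section


/-!
# THEOREM TOR: the five lines of one natural `SL₂(4)`-block

`N : NatK F T H V D 1`, `e = N.e · 0 : V → F²` with kernel `D`.

* `On o x` : `x ∈ F²` lies on the point `o : Option F` of the projective line; `LL N o` the line in `V`;
* `exists_cj` : `H` permutes the lines;
* `ker_triv` : `y ∈ H` which fixes all lines acts trivially on `V / D`;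
* **`act`** (`|F| = 4`): for an `H`-invariant `W ≤ V` with `W D = V` the five lines of `W / (W ∩ D)`, the homomorphism
  `π : H → Sym 5`, `A₅ ≤ π(H)`, the kernel is trivial on `W / (W ∩ D)`.
-/

set_option autoImplicit false
set_option linter.unusedSectionVars false

namespace Cfsg.Agent.Omega.NO3S.WY.Tor.Act

open Subgroup Cfsg Cfsg.Agent.ZN Cfsg.Agent.ZN.ChoiceBase
open Cfsg.Agent.Omega.FFThm (NatK NatKM ActsSL)
open Cfsg.Agent.Omega.NatPair (ap ap_zero' ap_one' ap_mul ap_one ap_add ap_smul ap_inv_ap ap_ap_inv ext2)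
open Cfsg.Agent.Lib.SL2Mat

universe u

section proj

variable {F : Type} [Field F]

/-- `x` lies on the point `o` of the projective line -/
def On (o : Option F) (x : Fin 2 → F) : Prop := match o with
  | none => x 1 = 0
  | some c => x 0 = c * x 1

theorem on_none {x : Fin 2 → F} : On none x ↔ x 1 = 0 := Iff.rfl

theorem on_some {c : F} {x : Fin 2 → F} : On (some c) x ↔ x 0 = c * x 1 := Iff.rfl

theorem on_zero (o : Option F) : On o 0 := by
  cases o with
  | none => rfl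
  | some c => rw [on_some]; simp

theorem on_add {o : Option F} {x y : Fin 2 → F} (hx : On o x) (hy : On o y) : On o (x + y) := by
  cases o with
  | none => rw [on_none] at *; rw [Pi.add_apply, hx, hy, add_zero]
  | some c => rw [on_some] at *; rw [Pi.add_apply, Pi.add_apply, hx, hy, mul_add]

theorem on_neg {o : Option F} {x : Fin 2 → F} (hx : On o x) : On o (-x) := by
  cases o with
  | none => rw [on_none] at *; rw [Pi.neg_apply, hx, neg_zero]
  | some c => rw [on_some] at *; rw [Pi.neg_apply, Pi.neg_apply, hx, mul_neg]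

theorem on_unique {o o' : Option F} {x : Fin 2 → F} (h : o ≠ o') (hx : On o x) (hx' : On o' x) : x = 0 := by
  cases o with
  | none =>
    cases o' with
    | none => exact absurd rfl h
    | some c =>
      rw [on_none] at hx
      rw [on_some, hx, mul_zero] at hx'
      exact ext2 hx' hx
  | some c =>
    cases o' with
    | none =>
      rw [on_none] at hx'
      rw [on_some, hx', mul_zero] at hx
      exact ext2 hx hx'
    | some c' =>
      rw [on_some] at hx hx'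
      have h1 : c ≠ c' := fun e => h (by rw [e])
      have h2 : (c - c') * x 1 = 0 := by rw [sub_mul, ← hx, ← hx', sub_self]
      have h3 : x 1 = 0 := (mul_eq_zero.1 h2).resolve_left (sub_ne_zero.2 h1)
      rw [h3, mul_zero] at hx
      exact ext2 hx h3

/-- a vector on the point `o` -/
def vec (o : Option F) : Fin 2 → F := match o with
  | none => ![1, 0]
  | some c => ![c, 1]

theorem on_vec (o : Option F) : On o (vec o) := by
  cases o with
  | none => rfl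
  | some c => show c = c * 1; rw [mul_one]

theorem vec_ne (o : Option F) : vec o ≠ 0 := by
  cases o with
  | none => exact fun h => one_ne_zero (congrFun h 0)
  | some c => exact fun h => one_ne_zero (congrFun h 1)

theorem on_ap (A : Matrix.SpecialLinearGroup (Fin 2) F) (o : Option F) : ∃ o', ∀ x, On o x → On o' (ap A x) := by
  cases o with
  | none =>
    by_cases hc : ent A 1 0 = 0
    · refine ⟨none, fun x hx => ?_⟩
      rw [on_none] at *
      rw [ap_one', hc, hx]; ring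
    · refine ⟨some (ent A 0 0 / ent A 1 0), fun x hx => ?_⟩
      rw [on_none] at hx
      rw [on_some, ap_zero', ap_one', hx]
      field_simp
      ring
  | some t =>
    by_cases hc : ent A 1 0 * t + ent A 1 1 = 0
    · refine ⟨none, fun x hx => ?_⟩
      rw [on_some] at hx
      rw [on_none, ap_one', hx]
      linear_combination x 1 * hc
    · refine ⟨some ((ent A 0 0 * t + ent A 0 1) / (ent A 1 0 * t + ent A 1 1)), fun x hx => ?_⟩
      rw [on_some] at hx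
      rw [on_some, ap_zero', ap_one', hx, div_mul_eq_mul_div, eq_div_iff hc]
      ring

end proj

section lines

variable {G : Type u} [Group G] {F : Type} [Field F] {T H V D : Subgroup G}

theorem e_one (N : NatK F T H V D 1) : N.e 1 = 0 := by
  have h := N.mul 1 (one_mem _) 1 (one_mem _)
  rw [mul_one] at h
  exact left_eq_add.1 h

theorem e_inv (N : NatK F T H V D 1) {v : G} (hv : v ∈ V) : N.e v⁻¹ = - N.e v := by
  have h := N.mul v hv v⁻¹ (inv_mem hv)
  rw [mul_inv_cancel, e_one N] at h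
  exact eq_neg_of_add_eq_zero_right h.symm

theorem e_mul (N : NatK F T H V D 1) {v w : G} (hv : v ∈ V) (hw : w ∈ V) : N.e (v * w) 0 = N.e v 0 + N.e w 0 := by
  rw [N.mul v hv w hw]; rfl

theorem mem_D (N : NatK F T H V D 1) {v : G} (hv : v ∈ V) : v ∈ D ↔ N.e v 0 = 0 := by
  rw [← N.ker v hv]
  constructor
  · intro h; rw [h]; rfl
  · intro h
    funext i
    rw [Subsingleton.elim i 0, h]; rfl

theorem exists_e (N : NatK F T H V D 1) (x : Fin 2 → F) : ∃ v ∈ V, N.e v 0 = x := by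
  obtain ⟨v, hv, h⟩ := N.surj fun _ => x
  exact ⟨v, hv, by rw [h]⟩

/-- the line `o` in `V` -/
def LL (N : NatK F T H V D 1) (o : Option F) : Subgroup G where
  carrier := {v | v ∈ V ∧ On o (N.e v 0)}
  one_mem' := ⟨one_mem _, by rw [e_one N]; exact on_zero o⟩
  mul_mem' := by
    rintro a b ⟨ha, ha'⟩ ⟨hb, hb'⟩
    exact ⟨mul_mem ha hb, by rw [e_mul N ha hb]; exact on_add ha' hb'⟩
  inv_mem' := by
    rintro a ⟨ha, ha'⟩
    exact ⟨inv_mem ha, by rw [e_inv N ha]; exact on_neg ha'⟩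

theorem mem_LL (N : NatK F T H V D 1) {o : Option F} {v : G} : v ∈ LL N o ↔ v ∈ V ∧ On o (N.e v 0) := Iff.rfl

theorem LL_le_of (N : NatK F T H V D 1) {o o' : Option F} (h : LL N o ≤ LL N o') : o = o' := by
  by_contra hne
  obtain ⟨v, hv, he⟩ := exists_e N (vec o)
  have h1 := (h ((mem_LL N).2 ⟨hv, by rw [he]; exact on_vec o⟩)).2
  rw [he] at h1
  exact vec_ne o (on_unique hne (on_vec o) h1)

theorem LL_inj (N : NatK F T H V D 1) {o o' : Option F} (h : LL N o = LL N o') : o = o' := LL_le_of N h.le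

/-- `g` acts as `A` on `V / D` -/
def Acts (N : NatK F T H V D 1) (g : G) (A : Matrix.SpecialLinearGroup (Fin 2) F) : Prop :=
  ∀ v ∈ V, N.e (g * v * g⁻¹) 0 = ap A (N.e v 0)

theorem Acts.of (N : NatK F T H V D 1) {g : G} {A : Fin 1 → Matrix.SpecialLinearGroup (Fin 2) F}
    (h : ActsSL N.e V D g A) : Acts N g (A 0) := fun v hv => h.1 v hv 0

theorem conj_V {g v : G} (hg : g ∈ normalizer (V : Set G)) (hv : v ∈ V) : g * v * g⁻¹ ∈ V :=
  (mem_normalizer_iff.1 hg v).1 hv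

theorem conj_V' {g v : G} (hg : g ∈ normalizer (V : Set G)) (hv : v ∈ V) : g⁻¹ * v * g ∈ V := by
  have := conj_V (inv_mem hg) hv
  rwa [inv_inv] at this

theorem Acts.mul {N : NatK F T H V D 1} {g h : G} {A B : Matrix.SpecialLinearGroup (Fin 2) F}
    (hg : Acts N g A) (hh : Acts N h B) (hn : h ∈ normalizer (V : Set G)) : Acts N (g * h) (A * B) := by
  intro v hv
  have e : g * h * v * (g * h)⁻¹ = g * (h * v * h⁻¹) * g⁻¹ := by group
  rw [e, hg _ (conj_V hn hv), hh v hv, ap_mul]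

theorem Acts.inv {N : NatK F T H V D 1} {g : G} {A : Matrix.SpecialLinearGroup (Fin 2) F}
    (hg : Acts N g A) (hn : g ∈ normalizer (V : Set G)) : Acts N g⁻¹ A⁻¹ := by
  intro v hv
  have h1 := hg _ (conj_V' hn hv)
  have e : g * (g⁻¹ * v * g) * g⁻¹ = v := by group
  rw [e] at h1
  rw [h1, ap_inv_ap, inv_inv]

/-- conjugation by an element of `H`, if both act in `SL₂(F)` -/
theorem Acts.conj {N : NatK F T H V D 1} {g h : G} (hg : g ∈ H) (hh : h ∈ H)
    {A : Matrix.SpecialLinearGroup (Fin 2) F} (hA : Acts N h A) : ∃ B, Acts N (g * h * g⁻¹) B := by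
  obtain ⟨B, hB⟩ := N.norm g hg h hh (fun _ => A) fun v hv i => by
    rw [Subsingleton.elim i 0]
    exact hA v hv
  exact ⟨B 0, fun v hv => hB v hv 0⟩

theorem Acts.cj {N : NatK F T H V D 1} {g : G} {A : Matrix.SpecialLinearGroup (Fin 2) F} (hA : Acts N g A)
    (hn : g ∈ normalizer (V : Set G)) (o : Option F) : ∃ o', ChoiceBase.cj g (LL N o) = LL N o' := by
  have key : ∀ {g : G} {A : Matrix.SpecialLinearGroup (Fin 2) F}, Acts N g A → g ∈ normalizer (V : Set G) →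
      ∀ o, ∃ o', ChoiceBase.cj g (LL N o) ≤ LL N o' := by
    intro g A hA hn o
    obtain ⟨o', ho'⟩ := on_ap A o
    refine ⟨o', ?_⟩
    rintro _ ⟨v, ⟨hv, hvo⟩, rfl⟩
    refine ⟨conj_V hn hv, ?_⟩
    change On o' (N.e (g * v * g⁻¹) 0)
    rw [hA v hv]
    exact ho' _ hvo
  obtain ⟨o', h1⟩ := key hA hn o
  obtain ⟨o'', h2⟩ := key (hA.inv hn) (inv_mem hn) o'
  have h3 : LL N o ≤ ChoiceBase.cj g⁻¹ (LL N o') := by
    have := cj_mono g⁻¹ h1
    rwa [cj_inv_cj] at this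
  have h4 := LL_le_of N (h3.trans h2)
  rw [← h4] at h2
  have h5 := cj_mono g h2
  rw [cj_cj_inv] at h5
  exact ⟨o', le_antisymm h1 h5⟩

variable (N : NatK F T H V D 1)

theorem T_none (HV : H ≤ normalizer (V : Set G)) (TH : T ≤ H) {t : G} (ht : t ∈ T) :
    cj t (LL N none) = LL N none := by
  obtain ⟨σ, hσ⟩ := N.line t ht
  have hn := HV (TH ht)
  have h0 : ∀ v ∈ V, N.e (t * v * t⁻¹) 0 1 = 0 ↔ N.e v 0 1 = 0 := fun v hv => by
    have := hσ v hv 0
    rwa [Subsingleton.elim (σ 0) 0] at this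
  ext v
  rw [mem_cj, mem_LL, mem_LL, on_none, on_none]
  constructor
  · rintro ⟨h1, h2⟩
    have h3 : v ∈ V := by
      have := conj_V hn h1
      have e : t * (t⁻¹ * v * t) * t⁻¹ = v := by group
      rwa [e] at this
    have h4 := h0 _ h1
    have e : t * (t⁻¹ * v * t) * t⁻¹ = v := by group
    rw [e] at h4
    exact ⟨h3, h4.2 h2⟩
  · rintro ⟨h1, h2⟩
    have h3 := conj_V' hn h1
    have h4 := h0 _ h3
    have e : t * (t⁻¹ * v * t) * t⁻¹ = v := by group
    rw [e] at h4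
    exact ⟨h3, h4.1 h2⟩

/-- an element of `H` acting in `SL₂(F)` which moves the point `none` to `o` -/
theorem exists_mv (HV : H ≤ normalizer (V : Set G)) (o : Option F) :
    ∃ g ∈ H, (∃ A, Acts N g A) ∧ cj g (LL N none) = LL N o := by
  cases o with
  | none => exact ⟨1, one_mem _, ⟨1, fun v _ => by rw [one_mul, inv_one, mul_one, ap_one]⟩, cj_one _⟩
  | some c =>
    obtain ⟨g, hg, hA⟩ := N.lift fun _ => mk c (-1) 1 0 (by ring)
    have hA' := Acts.of N hA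
    obtain ⟨o', ho'⟩ := hA'.cj (HV hg) none
    refine ⟨g, hg, ⟨_, hA'⟩, ?_⟩
    rw [ho']
    congr 1
    obtain ⟨v, hv, he⟩ := exists_e N (vec none)
    have h1 : v ∈ LL N none := (mem_LL N).2 ⟨hv, by rw [he]; exact on_vec none⟩
    have h2 : g * v * g⁻¹ ∈ LL N o' := by rw [← ho']; exact ⟨v, h1, rfl⟩
    have h3 : N.e (g * v * g⁻¹) 0 = vec (some c) := by
      rw [hA' v hv, he]
      apply ext2
      · rw [ap_zero']; simp [vec]
      · rw [ap_one']; simp [vec]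
    have h4 := h2.2
    rw [h3] at h4
    by_contra hne
    exact vec_ne _ (on_unique hne h4 (on_vec (some c)))

/-- **`H` permutes the lines** -/
theorem exists_cj [Finite G] (HV : H ≤ normalizer (V : Set G)) (TH : T ≤ H) {y : G} (hy : y ∈ H) (o : Option F) :
    ∃ o', cj y (LL N o) = LL N o' := by
  have hmul : ∀ a b : G, (∀ o, ∃ o', cj a (LL N o) = LL N o') → (∀ o, ∃ o', cj b (LL N o) = LL N o') →
      ∀ o, ∃ o', cj (a * b) (LL N o) = LL N o' := by
    intro a b ha hb o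
    obtain ⟨o', h1⟩ := hb o
    obtain ⟨o'', h2⟩ := ha o'
    exact ⟨o'', by rw [← cj_cj, h1, h2]⟩
  have hone : ∀ o, ∃ o', cj (1 : G) (LL N o) = LL N o' := fun o => ⟨o, cj_one _⟩
  let K : Subgroup G :=
    { carrier := {y | y ∈ H ∧ ∀ o, ∃ o', cj y (LL N o) = LL N o'}
      one_mem' := ⟨one_mem _, hone⟩
      mul_mem' := fun {a b} ha hb => ⟨mul_mem ha.1 hb.1, hmul a b ha.2 hb.2⟩
      inv_mem' := by
        rintro a ⟨ha, ha'⟩
        refine ⟨inv_mem ha, ?_⟩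
        have hpow : ∀ n : ℕ, ∀ o, ∃ o', cj (a ^ n) (LL N o) = LL N o' := by
          intro n
          induction n with
          | zero => rw [pow_zero]; exact hone
          | succ n ih => rw [pow_succ]; exact hmul _ _ ih ha'
        have e : a⁻¹ = a ^ (orderOf a - 1) := by
          have h1 : a ^ (orderOf a - 1) * a = 1 := by
            rw [← pow_succ, Nat.sub_add_cancel (orderOf_pos a), pow_orderOf_eq_one]
          exact inv_eq_of_mul_eq_one_left h1
        rw [e]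
        exact hpow _ }
  have hTK : T ≤ K := by
    intro t ht
    refine ⟨TH ht, fun o => ?_⟩
    obtain ⟨g, hg, ⟨A, hA⟩, hgo⟩ := exists_mv N HV o
    obtain ⟨B, hB⟩ := hA.conj (TH ht) hg
    obtain ⟨o', ho'⟩ := hB.cj (HV (mul_mem (mul_mem (TH ht) hg) (inv_mem (TH ht)))) none
    refine ⟨o', ?_⟩
    have e : t * g = (t * g * t⁻¹) * t := by group
    calc cj t (LL N o) = cj (t * g) (LL N none) := by rw [← hgo, cj_cj]
      _ = cj (t * g * t⁻¹) (cj t (LL N none)) := by rw [cj_cj, ← e]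
      _ = LL N o' := by rw [T_none N HV TH ht, ho']
  exact ((N.gen K hTK fun g hg A hA => ⟨hg, (Acts.of N hA).cj (HV hg)⟩) hy).2 o

/-- every element of `H` acts as an element of `T` times an element of `SL₂(F)` -/
theorem exists_TA (HV : H ≤ normalizer (V : Set G)) (TH : T ≤ H) {y : G} (hy : y ∈ H) :
    ∃ t ∈ T, ∃ A, Acts N (t⁻¹ * y) A := by
  let K : Subgroup G :=
    { carrier := {y | y ∈ H ∧ ∃ t ∈ T, ∃ A, Acts N (t⁻¹ * y) A}
      one_mem' := ⟨one_mem _, 1, one_mem _, 1, fun v _ => by simp [ap_one]⟩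
      mul_mem' := by
        rintro a b ⟨ha, s, hs, A, hA⟩ ⟨hb, t, ht, B, hB⟩
        refine ⟨mul_mem ha hb, s * t, mul_mem hs ht, ?_⟩
        obtain ⟨C, hC⟩ := hA.conj (inv_mem (TH ht)) (mul_mem (inv_mem (TH hs)) ha)
        refine ⟨C * B, ?_⟩
        have e : (s * t)⁻¹ * (a * b) = (t⁻¹ * (s⁻¹ * a) * t⁻¹⁻¹) * (t⁻¹ * b) := by group
        rw [e]
        exact hC.mul hB (HV (mul_mem (inv_mem (TH ht)) hb))
      inv_mem' := by
        rintro a ⟨ha, t, ht, A, hA⟩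
        refine ⟨inv_mem ha, t⁻¹, inv_mem ht, ?_⟩
        have hn := mul_mem (inv_mem (TH ht)) ha
        obtain ⟨C, hC⟩ := (hA.inv (HV hn)).conj (TH ht) (inv_mem hn)
        refine ⟨C, ?_⟩
        have e : t⁻¹⁻¹ * a⁻¹ = t * (t⁻¹ * a)⁻¹ * t⁻¹ := by group
        rw [e]
        exact hC }
  have h1 : T ≤ K := fun t ht => ⟨TH ht, t, ht, 1, fun v _ => by simp [ap_one]⟩
  exact ((N.gen K h1 fun g hg A hA => ⟨hg, 1, one_mem _, A 0, by
    rw [inv_one, one_mul]; exact Acts.of N hA⟩) hy).2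

/-- `e (y v y⁻¹)` depends on `e v` only -/
theorem e_congr (HV : H ≤ normalizer (V : Set G)) {y u v : G} (hy : y ∈ H) (hu : u ∈ V) (hv : v ∈ V)
    (h : N.e u 0 = N.e v 0) : N.e (y * u * y⁻¹) 0 = N.e (y * v * y⁻¹) 0 := by
  obtain ⟨σ, hσ⟩ := N.perm y hy
  have h1 : u * v⁻¹ ∈ V := mul_mem hu (inv_mem hv)
  have h2 : N.e (u * v⁻¹) 0 = 0 := by
    rw [e_mul N hu (inv_mem hv), e_inv N hv, Pi.neg_apply, h, add_neg_cancel]
  have h3 := (hσ _ h1 0).2 h2
  rw [Subsingleton.elim (σ 0) 0] at h3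
  have e : y * (u * v⁻¹) * y⁻¹ = (y * u * y⁻¹) * (y * v * y⁻¹)⁻¹ := by group
  have hu' := conj_V (HV hy) hu
  have hv' := conj_V (HV hy) hv
  rw [e, e_mul N hu' (inv_mem hv'), e_inv N hv', Pi.neg_apply] at h3
  exact add_neg_eq_zero.1 h3

/-- an element which fixes all lines acts as a scalar -/
theorem exists_scalar (HV : H ≤ normalizer (V : Set G)) {y : G} (hy : y ∈ H)
    (hf : ∀ o, cj y (LL N o) = LL N o) : ∃ s : F, ∀ v ∈ V, N.e (y * v * y⁻¹) 0 = s • N.e v 0 := by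
  have hon : ∀ o, ∀ v ∈ V, On o (N.e v 0) → On o (N.e (y * v * y⁻¹) 0) := by
    intro o v hv ho
    have h1 : y * v * y⁻¹ ∈ LL N o := by
      rw [← hf o]; exact ⟨v, (mem_LL N).2 ⟨hv, ho⟩, rfl⟩
    exact h1.2
  choose a haV ha using fun c : F => exists_e N ![c, 0]
  choose b hbV hb using fun c : F => exists_e N ![0, c]
  have ha1 : ∀ c, N.e (y * a c * y⁻¹) 0 1 = 0 := fun c => on_none.1 (hon none _ (haV c) (by rw [ha c]; rfl))
  have hb1 : ∀ c, N.e (y * b c * y⁻¹) 0 0 = 0 := fun c => by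
    have := on_some.1 (hon (some 0) _ (hbV c) (by rw [hb c, on_some]; simp))
    rwa [zero_mul] at this
  have hmul : ∀ c d, N.e (y * (a c * b d) * y⁻¹) 0 = N.e (y * a c * y⁻¹) 0 + N.e (y * b d * y⁻¹) 0 := by
    intro c d
    have e : y * (a c * b d) * y⁻¹ = (y * a c * y⁻¹) * (y * b d * y⁻¹) := by group
    rw [e, e_mul N (conj_V (HV hy) (haV c)) (conj_V (HV hy) (hbV d))]
  have hab : ∀ c d, N.e (a c * b d) 0 = ![c, d] := by
    intro c d
    rw [e_mul N (haV c) (hbV d), ha, hb]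
    apply ext2 <;> simp
  have h1 : ∀ c, N.e (y * a c * y⁻¹) 0 0 = N.e (y * b c * y⁻¹) 0 1 := by
    intro c
    have h2 := on_some.1 (hon (some 1) _ (mul_mem (haV c) (hbV c)) (by rw [hab, on_some]; simp))
    rw [hmul, Pi.add_apply, Pi.add_apply, hb1, ha1, add_zero, zero_add, one_mul] at h2
    exact h2
  have h2 : ∀ c, N.e (y * a c * y⁻¹) 0 0 = c * N.e (y * b 1 * y⁻¹) 0 1 := by
    intro c
    have h3 := on_some.1 (hon (some c) _ (mul_mem (haV c) (hbV 1)) (by rw [hab, on_some]; simp))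
    rw [hmul, Pi.add_apply, Pi.add_apply, hb1, ha1, add_zero, zero_add] at h3
    exact h3
  refine ⟨N.e (y * b 1 * y⁻¹) 0 1, fun v hv => ?_⟩
  have h3 : N.e v 0 = N.e (a (N.e v 0 0) * b (N.e v 0 1)) 0 := by
    rw [hab]
    apply ext2 <;> simp
  rw [e_congr N HV hy hv (mul_mem (haV _) (hbV _)) h3, hmul]
  apply ext2
  · rw [Pi.add_apply, hb1, add_zero, h2, Pi.smul_apply, smul_eq_mul, mul_comm]
  · rw [Pi.add_apply, ha1, zero_add, ← h1, h2, Pi.smul_apply, smul_eq_mul, mul_comm]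

/-- **an element which fixes all lines is trivial on `V / D`** -/
theorem ker_triv [Finite G] [CharP F 2] (HV : H ≤ normalizer (V : Set G)) (TH : T ≤ H) (T2 : IsPGroup 2 T) {y : G}
    (hy : y ∈ H) (hf : ∀ o, cj y (LL N o) = LL N o) {v : G} (hv : v ∈ V) : N.e (y * v * y⁻¹) 0 = N.e v 0 := by
  obtain ⟨s, hs⟩ := exists_scalar N HV hy hf
  obtain ⟨t, ht, A, hA⟩ := exists_TA N HV TH hy
  have htn := HV (TH ht)
  have hgn : t⁻¹ * y ∈ normalizer (V : Set G) := HV (mul_mem (inv_mem (TH ht)) hy)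
  have hA' := hA.inv hgn
  -- `t` acts as `s A⁻¹`
  have h1 : ∀ v ∈ V, N.e (t * v * t⁻¹) 0 = s • ap A⁻¹ (N.e v 0) := by
    intro v hv
    have e : t * v * t⁻¹ = y * ((t⁻¹ * y)⁻¹ * v * (t⁻¹ * y)⁻¹⁻¹) * y⁻¹ := by group
    rw [e, hs _ (conj_V (inv_mem hgn) hv), hA' v hv]
  have h2 : ∀ n : ℕ, ∀ v ∈ V, N.e (t ^ n * v * (t ^ n)⁻¹) 0 = s ^ n • ap (A⁻¹ ^ n) (N.e v 0) := by
    intro n
    induction n with
    | zero => intro v _; rw [pow_zero, pow_zero, pow_zero, ap_one, one_smul]; simp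
    | succ n ih =>
      intro v hv
      have e : t ^ (n + 1) * v * (t ^ (n + 1))⁻¹ = t * (t ^ n * v * (t ^ n)⁻¹) * t⁻¹ := by rw [pow_succ']; group
      rw [e, h1 _ (conj_V (pow_mem htn n) hv), ih v hv, ap_smul, smul_smul, ← ap_mul, ← pow_succ', ← pow_succ']
  obtain ⟨k, hk⟩ := T2 ⟨t, ht⟩
  have hk' : t ^ 2 ^ k = 1 := congrArg Subtype.val hk
  set C := A⁻¹ ^ 2 ^ k with hC
  set σ := s ^ 2 ^ k with hσ
  have h3 : ∀ x : Fin 2 → F, σ • ap C x = x := by
    intro x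
    obtain ⟨v, hv, rfl⟩ := exists_e N x
    have h4 := h2 (2 ^ k) v hv
    rw [hk'] at h4
    rw [← h4]; simp
  have e1 := congrFun (h3 ![1, 0]) 0
  have e2 := congrFun (h3 ![1, 0]) 1
  have e3 := congrFun (h3 ![0, 1]) 0
  have e4 := congrFun (h3 ![0, 1]) 1
  simp only [Pi.smul_apply, smul_eq_mul, ap_zero', ap_one', Matrix.cons_val_zero, Matrix.cons_val_one, mul_one,
    mul_zero, add_zero, zero_add] at e1 e2 e3 e4
  have hd := det_eq C
  have h5 : σ ^ 2 = 1 := by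
    have : σ ^ 2 * (ent C 0 0 * ent C 1 1 - ent C 0 1 * ent C 1 0) = 1 := by
      have e5 : σ ^ 2 * (ent C 0 0 * ent C 1 1 - ent C 0 1 * ent C 1 0) =
          (σ * ent C 0 0) * (σ * ent C 1 1) - (σ * ent C 0 1) * (σ * ent C 1 0) := by ring
      rw [e5, e1, e2, e3, e4]; ring
    rwa [hd, mul_one] at this
  have h6 : s ^ (2 ^ (k + 1) * 1) = 1 := by
    rw [mul_one, pow_succ, pow_mul]; exact h5
  have h7 : s = 1 := by
    have : Fact (Nat.Prime 2) := ⟨Nat.prime_two⟩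
    have h8 : iterateFrobenius F 2 (k + 1) s = iterateFrobenius F 2 (k + 1) 1 := by
      rw [iterateFrobenius_def, iterateFrobenius_def, one_pow]
      rwa [mul_one] at h6
    exact iterateFrobenius_inj F 2 (k + 1) h8
  rw [hs v hv, h7, one_smul]

end lines

/-! ### The permutation representation -/

section five

open Cfsg.Agent.Omega.NO3S.WY.OddKer (sb tb v0_of alt_le)

variable {G : Type u} [Group G] [Finite G] {F : Type} [Field F] {T H V D : Subgroup G} (N : NatK F T H V D 1)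

/-- the labels `0 .. 4` of the points, `0` is the point `none` -/
theorem exists_lab (h4 : Nat.card F = 4) : ∃ ε : Fin 5 ≃ Option F, ε 0 = none := by
  have : Finite F := Nat.finite_of_card_ne_zero (by rw [h4]; norm_num)
  refine ⟨(finSuccEquiv 4).trans (Equiv.optionCongr (Finite.equivFinOfCardEq h4).symm), ?_⟩
  simp

/-- the action on the labels -/
theorem exists_pi (HV : H ≤ normalizer (V : Set G)) (TH : T ≤ H) (ε : Fin 5 ≃ Option F) :
    ∃ π : ↥H →* Equiv.Perm (Fin 5), ∀ (y : ↥H) a, cj (y : G) (LL N (ε a)) = LL N (ε (π y a)) := by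
  choose f hf using fun (y : ↥H) (o : Option F) => exists_cj N HV TH y.2 o
  have f1 : ∀ o, f 1 o = o := fun o => LL_inj N (by rw [← hf]; simp [cj_one])
  have fm : ∀ x y o, f (x * y) o = f x (f y o) := fun x y o => LL_inj N (by
    rw [← hf, ← hf, ← hf, cj_cj]; rfl)
  let act : MulAction ↥H (Fin 5) :=
    { smul := fun y a => ε.symm (f y (ε a))
      one_smul := fun a => by
        change ε.symm (f 1 (ε a)) = a
        rw [f1, Equiv.symm_apply_apply]
      mul_smul := fun x y a => by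
        change ε.symm (f (x * y) (ε a)) = ε.symm (f x (ε (ε.symm (f y (ε a)))))
        rw [fm, Equiv.apply_symm_apply] }
  refine ⟨@MulAction.toPermHom ↥H (Fin 5) _ act, fun y a => ?_⟩
  have h1 : @MulAction.toPermHom ↥H (Fin 5) _ act y a = ε.symm (f y (ε a)) := rfl
  rw [h1, Equiv.apply_symm_apply]
  exact hf y (ε a)

theorem up_none {b : F} {x : Fin 2 → F} (hx : On none x) : On none (ap (up b) x) := by
  rw [on_none] at *
  rw [ap_one', hx]; simp

theorem up_some {b c : F} {x : Fin 2 → F} (hx : On (some c) x) : On (some (c + b)) (ap (up b) x) := by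
  rw [on_some] at *
  rw [ap_zero', ap_one', hx]; simp; ring

/-- if `g` acts as `A` and `A` maps the point `o` to `o'`, then `g` maps the line `o` to `o'` -/
theorem cj_eq_of (HV : H ≤ normalizer (V : Set G)) {g : G} (hg : g ∈ H) {A : Matrix.SpecialLinearGroup (Fin 2) F}
    (hA : Acts N g A) {o o' : Option F} (h : ∀ x, On o x → On o' (ap A x)) : cj g (LL N o) = LL N o' := by
  obtain ⟨o'', h1⟩ := hA.cj (HV hg) o
  have h2 : cj g (LL N o) ≤ LL N o' := by
    rintro _ ⟨v, ⟨hv, hvo⟩, rfl⟩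
    refine ⟨conj_V (HV hg) hv, ?_⟩
    change On o' (N.e (g * v * g⁻¹) 0)
    rw [hA v hv]
    exact h _ hvo
  rw [h1] at h2
  rw [h1, LL_le_of N h2]

theorem alt_range [CharP F 2] (HV : H ≤ normalizer (V : Set G)) {ε : Fin 5 ≃ Option F} (hε : ε 0 = none)
    {π : ↥H →* Equiv.Perm (Fin 5)} (hπ : ∀ (y : ↥H) a, cj (y : G) (LL N (ε a)) = LL N (ε (π y a))) :
    alternatingGroup (Fin 5) ≤ π.range := by
  have hpi : ∀ (y : ↥H) a o, cj (y : G) (LL N (ε a)) = LL N o → ε (π y a) = o := fun y a o h =>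
    LL_inj N (by rw [← hπ, h])
  let R : Subgroup ↥H :=
    { carrier := {y | ∃ b, Acts N (y : G) (up b)}
      one_mem' := ⟨0, fun v _ => by rw [up_zero, ap_one]; simp⟩
      mul_mem' := by
        rintro x y ⟨b, hb⟩ ⟨c, hc⟩
        exact ⟨b + c, by rw [← up_mul]; exact hb.mul hc (HV y.2)⟩
      inv_mem' := by
        rintro x ⟨b, hb⟩
        exact ⟨-b, by rw [← up_inv]; exact hb.inv (HV x.2)⟩ }
  have hR0 : ∀ y ∈ R, π y 0 = 0 := by
    rintro y ⟨b, hb⟩
    apply ε.injective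
    rw [hε]
    refine hpi y 0 none ?_
    rw [hε]
    exact cj_eq_of N HV y.2 hb fun x hx => up_none hx
  have hR1 : ∀ y ∈ R, π y * π y = 1 := by
    rintro y ⟨b, hb⟩
    rw [← map_mul]
    ext a
    have h1 : ε (π (y * y) a) = ε a := hpi (y * y) a (ε a) (by
      refine cj_eq_of N HV (mul_mem y.2 y.2) (hb.mul hb (HV y.2)) fun x hx => ?_
      rw [up_mul, CharTwo.add_self_eq_zero, up_zero, ap_one]
      exact hx)
    rw [ε.injective h1]; rfl
  have htr : ∀ i : Fin 5, i ≠ 0 → ∀ j : Fin 5, j ≠ 0 → ∃ y ∈ R, π y i = j := by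
    intro i hi j hj
    obtain ⟨c, hc⟩ : ∃ c, ε i = some c := by
      cases h : ε i with
      | none => exact absurd (ε.injective (h.trans hε.symm)) hi
      | some c => exact ⟨c, rfl⟩
    obtain ⟨d, hd⟩ : ∃ d, ε j = some d := by
      cases h : ε j with
      | none => exact absurd (ε.injective (h.trans hε.symm)) hj
      | some c => exact ⟨c, rfl⟩
    obtain ⟨g, hg, hA⟩ := N.lift fun _ => up (d - c)
    have hA' := Acts.of N hA
    refine ⟨⟨g, hg⟩, ⟨_, hA'⟩, ε.injective ?_⟩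
    rw [hd]
    refine hpi ⟨g, hg⟩ i _ ?_
    rw [hc]
    refine cj_eq_of N HV hg hA' fun x hx => ?_
    have := up_some (b := d - c) hx
    rwa [add_sub_cancel] at this
  obtain ⟨h1, h2, -⟩ := v0_of (X := R.map π) (by rintro _ ⟨x, hx, rfl⟩; exact hR0 x hx)
    (by rintro _ ⟨x, hx, rfl⟩; exact hR1 x hx) (fun i hi j hj => by
      obtain ⟨y, hy, hyi⟩ := htr i hi j hj
      exact ⟨π y, ⟨y, hy, rfl⟩, hyi⟩)
  have hsb : sb ∈ π.range := by obtain ⟨x, _, hx⟩ := h1; exact ⟨x, hx⟩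
  have htb : tb ∈ π.range := by obtain ⟨x, _, hx⟩ := h2; exact ⟨x, hx⟩
  obtain ⟨g, hg, -, hgo⟩ := exists_mv N HV (some 0)
  have hmv : π ⟨g, hg⟩ 0 ≠ 0 := by
    intro h
    have h3 := hpi ⟨g, hg⟩ 0 (some 0) (by rw [hε]; exact hgo)
    rw [h, hε] at h3
    exact absurd h3 (by simp)
  exact alt_le hsb htb hmv 0 (π.range.mul_mem (π.range.mul_mem ⟨_, rfl⟩ hsb) (π.range.inv_mem ⟨_, rfl⟩))

/-- **The five lines.** -/
theorem act [CharP F 2] (h4 : Nat.card F = 4) (HV : H ≤ normalizer (V : Set G)) (TH : T ≤ H) (T2 : IsPGroup 2 T)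
    {W : Subgroup G} (WV : W ≤ V) (HW : H ≤ normalizer (W : Set G)) :
    ∃ (ℓ : Fin 5 → Subgroup G) (π : ↥H →* Equiv.Perm (Fin 5)), ℓ 0 = W ⊓ LL N none ∧ (∀ a, ℓ a ≤ W) ∧
      (∀ a b, a ≠ b → ℓ a ⊓ ℓ b = W ⊓ D) ∧ (∀ (y : ↥H) a, cj (y : G) (ℓ a) = ℓ (π y a)) ∧
      alternatingGroup (Fin 5) ≤ π.range ∧ ∀ y : ↥H, π y = 1 → ∀ w ∈ W, (y : G) * w * (y : G)⁻¹ * w⁻¹ ∈ W ⊓ D := by
  obtain ⟨ε, hε⟩ := exists_lab h4
  obtain ⟨π, hπ⟩ := exists_pi N HV TH ε
  refine ⟨fun a => W ⊓ LL N (ε a), π, by simp only [hε], fun a => inf_le_left, fun a b hab => ?_, fun y a => ?_,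
    alt_range N HV hε hπ, fun y hy w hw => ?_⟩
  · ext v
    constructor
    · rintro ⟨⟨h1, h2⟩, -, h3⟩
      refine ⟨h1, (mem_D N (WV h1)).2 ?_⟩
      exact on_unique (fun e => hab (ε.injective e)) h2.2 h3.2
    · rintro ⟨h1, h2⟩
      have h3 := (mem_D N (WV h1)).1 h2
      exact ⟨⟨h1, WV h1, by rw [h3]; exact on_zero _⟩, h1, WV h1, by rw [h3]; exact on_zero _⟩
  · rw [cj_inf, cj_eq_of_mem_normalizer (HW y.2), hπ]
  · have h1 : ∀ o, cj (y : G) (LL N o) = LL N o := by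
      intro o
      obtain ⟨a, rfl⟩ := ε.surjective o
      rw [hπ, hy]; rfl
    have h2 := ker_triv N HV TH T2 y.2 h1 (WV hw)
    have h3 : (y : G) * w * (y : G)⁻¹ ∈ W := (mem_normalizer_iff.1 (HW y.2) w).1 hw
    refine mem_inf.2 ⟨mul_mem h3 (inv_mem hw), (mem_D N (mul_mem (WV h3) (inv_mem (WV hw)))).2 ?_⟩
    rw [e_mul N (WV h3) (inv_mem (WV hw)), e_inv N (WV hw), Pi.neg_apply, h2, add_neg_cancel]

end five

end Cfsg.Agent.Omega.NO3S.WY.Tor.Act

end

section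


/-!
# (TOR), (1) of #25011 and (a), (b) of #25227 (ONE `S₅`), abstract

`A` elementary abelian, `L, W, Λ ≤ A`, `Y` acts, `B` a Sylow 2-subgroup of `Y`, `Λ ≤ Z(Y)`, `Q` centralises `L`.

* `exists_norm` : if `B` centralises `x` modulo `Λ` and `Y` centralises `x` modulo `W ≥ Λ`, some `n ∈ x W` is centralised
  by `Y` modulo `Λ` (the product of the conjugates of `x` under `Y / B`).
* `Sit.comm`, `Sit.norm_WL` : `[Y, L] ≤ W Λ`, `Y` normalises `W L`.
* `Sit.cent` : `O²(Y)` centralises every `x ∈ C_L(h)` which `B` centralises modulo `Λ` : `V*_τ = C_L(h)` for `S₅`,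
  `V_(j)` for the naturals.
* `Sit.norm_CQ` : `Y` normalises `C_R(L)` for `R` normal in `Y`, `R` centralises `W` (`R = O₂(Y)` : `C_R(L) = Q ∩ O₂(Y)`).
* `Sit.F_le` : (a).
-/

set_option autoImplicit false

namespace Cfsg.Agent.Omega.NO3S.WY.Tor.SFiveB

open Subgroup
open Cfsg.Agent.MinSimple.VModule (oddGen oddGen_def oddGen_le)

universe u

variable {G : Type u} [Group G]

/-- An element of odd order which centralises `n` modulo `Λ`, and `Λ`, `A` of exponent 2, centralises `n`. -/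
theorem comm_of_odd {A Λ : Subgroup G} (As : ∀ a ∈ A, a * a = 1) {g n : G} (ho : Odd (orderOf g))
    (hz : g * n * g⁻¹ * n⁻¹ ∈ Λ) (hgΛ : ∀ z ∈ Λ, g * z = z * g) (hΛA : Λ ≤ A) : g * n = n * g := by
  set z := g * n * g⁻¹ * n⁻¹ with hzd
  have hy : g * n * g⁻¹ = z * n := by rw [hzd]; group
  have hgz : g * z * g⁻¹ = z := by rw [hgΛ z hz, mul_inv_cancel_right]
  have key : ∀ k : ℕ, g ^ k * n * (g ^ k)⁻¹ = z ^ k * n := by
    intro k
    induction k with
    | zero => simp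
    | succ k ih =>
      have hc : Commute g (z ^ k) := (show Commute g z from hgΛ z hz).pow_right k
      calc g ^ (k + 1) * n * (g ^ (k + 1))⁻¹ = g * (g ^ k * n * (g ^ k)⁻¹) * g⁻¹ := by
            rw [pow_succ']; group
        _ = g * z ^ k * n * g⁻¹ := by rw [ih]; group
        _ = z ^ k * (g * n * g⁻¹) := by rw [hc.eq]; group
        _ = z ^ (k + 1) * n := by rw [hy, pow_succ]; group
  have h1 := key (orderOf g)
  rw [pow_orderOf_eq_one, one_mul, inv_one, mul_one] at h1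
  have h3 : z ^ orderOf g = 1 := by
    have e : z ^ orderOf g * n = 1 * n := by rw [← h1, one_mul]
    exact mul_right_cancel e
  obtain ⟨k, hk⟩ := ho
  have hz2 : z * z = 1 := As z (hΛA hz)
  rw [hk, pow_succ, pow_mul, pow_two, hz2, one_pow, one_mul] at h3
  have h4 : g * n * g⁻¹ = n := by rw [hy, h3, one_mul]
  calc g * n = g * n * g⁻¹ * g := by group
    _ = n * g := by rw [h4]

/-- **The norm.** -/
theorem exists_norm [Finite G] {A W Λ Y B : Subgroup G} (Aab : ∀ a ∈ A, ∀ b ∈ A, a * b = b * a)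
    (As : ∀ a ∈ A, a * a = 1) (YA : Y ≤ normalizer (A : Set G))
    (YΛ : Y ≤ normalizer (Λ : Set G)) (hi : ¬ 2 ∣ B.relIndex Y) {x : G} (hx : x ∈ A)
    (hB : ∀ b ∈ B, b ∈ Y → b * x * b⁻¹ * x⁻¹ ∈ Λ) (hY : ∀ y ∈ Y, y * x * y⁻¹ * x⁻¹ ∈ W) :
    ∃ n ∈ A, (∀ y ∈ Y, y * n * y⁻¹ * n⁻¹ ∈ Λ) ∧ n * x⁻¹ ∈ W := by
  classical
  let _ : CommGroup A := { (inferInstance : Group A) with
      mul_comm := fun a c => Subtype.ext (Aab a a.2 c c.2) }
  have cA : ∀ y ∈ Y, ∀ a ∈ A, y * a * y⁻¹ ∈ A := fun y hy a ha =>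
    (mem_normalizer_iff.1 (YA hy) a).1 ha
  let f : Y ⧸ (B.subgroupOf Y) → A := fun q =>
    ⟨(q.out : G) * x * (q.out : G)⁻¹, cA _ q.out.2 x hx⟩
  let _ := Fintype.ofFinite (Y ⧸ (B.subgroupOf Y))
  let Λ' : Subgroup A := Λ.subgroupOf A
  let W' : Subgroup A := W.subgroupOf A
  let n : A := ∏ q, f q
  refine ⟨n, n.2, fun y hy => ?_, ?_⟩
  · let φ : A →* A :=
      { toFun := fun a => ⟨y * a * y⁻¹, cA y hy a a.2⟩
        map_one' := Subtype.ext (by simp)
        map_mul' := fun a b => Subtype.ext (by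
          change y * ((a : G) * b) * y⁻¹ = (y * a * y⁻¹) * (y * b * y⁻¹)
          group) }
    have h1 : φ n = ∏ q, φ (f q) := map_prod φ f _
    have h2 : n = ∏ q, f ((⟨y, hy⟩ : Y) • q) :=
      (Equiv.prod_comp (MulAction.toPerm (⟨y, hy⟩ : Y)) f).symm
    have h3 : φ n * n⁻¹ ∈ Λ' := by
      have h2' : n⁻¹ = ∏ q, (f ((⟨y, hy⟩ : Y) • q))⁻¹ := by
        rw [Finset.prod_inv_distrib]; exact congrArg (fun a : A => a⁻¹) h2
      rw [h1, h2', ← Finset.prod_mul_distrib]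
      refine Subgroup.prod_mem _ fun q _ => ?_
      -- `y (q.out) = (y • q).out * b`
      set r : Y := q.out with hr
      set r' : Y := ((⟨y, hy⟩ : Y) • q).out with hr'
      have h4 : ((r' : Y) : Y ⧸ (B.subgroupOf Y)) = (((⟨y, hy⟩ : Y) * r : Y) : Y ⧸ (B.subgroupOf Y)) := by
        rw [hr', QuotientGroup.out_eq', hr]
        conv_lhs => rw [← QuotientGroup.out_eq' q]
        rfl
      have h5 : r'⁻¹ * ((⟨y, hy⟩ : Y) * r) ∈ B.subgroupOf Y := QuotientGroup.eq.1 h4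
      set b : Y := r'⁻¹ * ((⟨y, hy⟩ : Y) * r) with hb
      have h6 : y * (r : G) = (r' : G) * (b : G) := by
        have : ((⟨y, hy⟩ : Y) * r) = r' * b := by rw [hb]; group
        exact congrArg Subtype.val this
      have h7 := hB b (mem_subgroupOf.1 h5) b.2
      change (y * ((r : G) * x * (r : G)⁻¹) * y⁻¹) * ((r' : G) * x * (r' : G)⁻¹)⁻¹ ∈ Λ
      have h8 : (y * ((r : G) * x * (r : G)⁻¹) * y⁻¹) * ((r' : G) * x * (r' : G)⁻¹)⁻¹ =
          (r' : G) * ((b : G) * x * (b : G)⁻¹ * x⁻¹) * (r' : G)⁻¹ := by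
        have e1 : y * ((r : G) * x * (r : G)⁻¹) * y⁻¹ = (y * (r : G)) * x * (y * (r : G))⁻¹ := by group
        rw [e1, h6]; group
      rw [h8]
      exact (mem_normalizer_iff.1 (YΛ r'.2) _).1 h7
    exact h3
  · have h1 : n * ((⟨x, hx⟩ : A) ^ Fintype.card (Y ⧸ (B.subgroupOf Y)))⁻¹ ∈ W' := by
      have h2 : (⟨x, hx⟩ : A) ^ Fintype.card (Y ⧸ (B.subgroupOf Y)) =
          ∏ _q : Y ⧸ (B.subgroupOf Y), (⟨x, hx⟩ : A) := by
        rw [Finset.prod_const, Finset.card_univ]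
      rw [h2, ← Finset.prod_inv_distrib, ← Finset.prod_mul_distrib]
      refine Subgroup.prod_mem _ fun q _ => ?_
      exact hY _ q.out.2
    have hodd : Fintype.card (Y ⧸ (B.subgroupOf Y)) % 2 = 1 := by
      have : Fintype.card (Y ⧸ (B.subgroupOf Y)) = B.relIndex Y := by
        rw [← Nat.card_eq_fintype_card]; rfl
      omega
    have h3 : (⟨x, hx⟩ : A) ^ Fintype.card (Y ⧸ (B.subgroupOf Y)) = ⟨x, hx⟩ := by
      rw [← Nat.div_add_mod (Fintype.card (Y ⧸ (B.subgroupOf Y))) 2, hodd, pow_add, pow_mul, pow_one]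
      have : (⟨x, hx⟩ : A) ^ 2 = 1 := Subtype.ext (by
        change x ^ 2 = 1
        rw [pow_two]; exact As x hx)
      rw [this, one_pow, one_mul]
    rw [h3] at h1
    exact h1

/-- The situation of (1) of #25011, (b) of #25227. -/
structure Sit (Y Q B A L W Λ : Subgroup G) : Prop where
  Aab : ∀ a ∈ A, ∀ b ∈ A, a * b = b * a
  As : ∀ a ∈ A, a * a = 1
  YA : Y ≤ normalizer (A : Set G)
  LA : L ≤ A
  WA : W ≤ A
  YW : Y ≤ normalizer (W : Set G)
  ΛL : Λ ≤ L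
  YΛ : ∀ y ∈ Y, ∀ z ∈ Λ, y * z = z * y
  syl : ¬ 2 ∣ B.relIndex Y
  /-- `N_Y(Q)` centralises `L / (W ∩ L) Λ` -/
  NQ : ∀ g ∈ Y, g ∈ normalizer (Q : Set G) → ∀ l ∈ L, g * l * g⁻¹ * l⁻¹ ∈ W ⊔ Λ
  /-- (0), the ODD KERNEL LEMMA (594's `Ker0 Y Q A`) -/
  ker : ∀ N₁ : Subgroup G, N₁ ≤ A → Y ≤ normalizer (N₁ : Set G) → ∀ v ∈ A,
    (∀ g ∈ Y, g ∈ normalizer (Q : Set G) → g * v * g⁻¹ * v⁻¹ ∈ N₁) → ∀ y ∈ Y, y * v * y⁻¹ * v⁻¹ ∈ N₁

namespace Sit

variable {Y Q B A L W Λ : Subgroup G} (h : Sit Y Q B A L W Λ)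
include h

theorem YΛn : Y ≤ normalizer (Λ : Set G) := by
  intro y hy
  have h1 : ∀ z ∈ Λ, y * z * y⁻¹ = z := fun z hz => by rw [h.YΛ y hy z hz, mul_inv_cancel_right]
  have h2 : ∀ z ∈ Λ, y⁻¹ * z * y = z := fun z hz => by
    have := h.YΛ y hy z hz
    rw [mul_assoc, ← this, inv_mul_cancel_left]
  refine mem_normalizer_iff.2 fun z => ⟨fun hz => by rw [h1 z hz]; exact hz, fun hz => ?_⟩
  have h3 := h2 _ hz
  have e : y⁻¹ * (y * z * y⁻¹) * y = z := by group
  rw [e] at h3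
  rw [h3]; exact hz

theorem ΛA : Λ ≤ A := h.ΛL.trans h.LA

omit h in
theorem norm_sup {M N : Subgroup G} (hM : Y ≤ normalizer (M : Set G)) (hN : Y ≤ normalizer (N : Set G)) :
    Y ≤ normalizer ((M ⊔ N : Subgroup G) : Set G) := by
  intro y hy
  have key : ∀ g : G, g ∈ normalizer (M : Set G) → g ∈ normalizer (N : Set G) →
      ∀ z ∈ M ⊔ N, g * z * g⁻¹ ∈ M ⊔ N := fun g hgM hgN z hz => by
    have h1 : (M ⊔ N).map (MulAut.conj g).toMonoidHom ≤ M ⊔ N := by
      rw [Subgroup.map_sup]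
      refine sup_le_sup ?_ ?_
      · rintro _ ⟨m, hm, rfl⟩
        exact (mem_normalizer_iff.1 hgM m).1 hm
      · rintro _ ⟨m, hm, rfl⟩
        exact (mem_normalizer_iff.1 hgN m).1 hm
    exact h1 ⟨z, hz, rfl⟩
  refine mem_normalizer_iff.2 fun z => ⟨key y (hM hy) (hN hy) z, fun hz => ?_⟩
  have h3 := key y⁻¹ (inv_mem (hM hy)) (inv_mem (hN hy)) _ hz
  have e : y⁻¹ * (y * z * y⁻¹) * y⁻¹⁻¹ = z := by group
  rwa [e] at h3

theorem WΛn : Y ≤ normalizer ((W ⊔ Λ : Subgroup G) : Set G) := norm_sup h.YW h.YΛn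

theorem WΛA : W ⊔ Λ ≤ A := sup_le h.WA h.ΛA

/-- `[Y, L] ≤ W Λ` -/
theorem comm {y l : G} (hy : y ∈ Y) (hl : l ∈ L) : y * l * y⁻¹ * l⁻¹ ∈ W ⊔ Λ :=
  h.ker _ h.WΛA h.WΛn l (h.LA hl) (fun g hg hgQ => h.NQ g hg hgQ l hl) y hy

/-- `Y` normalises `W L` -/
theorem norm_WL : Y ≤ normalizer ((W ⊔ L : Subgroup G) : Set G) := by
  have key : ∀ g ∈ Y, ∀ z ∈ W ⊔ L, g * z * g⁻¹ ∈ W ⊔ L := fun g hg z hz => by
    have h1 : (W ⊔ L).map (MulAut.conj g).toMonoidHom ≤ W ⊔ L := by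
      rw [Subgroup.map_sup]
      refine sup_le ?_ ?_
      · rintro _ ⟨m, hm, rfl⟩
        exact mem_sup_left ((mem_normalizer_iff.1 (h.YW hg) m).1 hm)
      · rintro _ ⟨m, hm, rfl⟩
        have h2 := h.comm hg hm
        have h3 : g * m * g⁻¹ * m⁻¹ ∈ W ⊔ L := (sup_le_sup_left h.ΛL W) h2
        have h4 := mul_mem h3 (mem_sup_right hm : m ∈ W ⊔ L)
        have e : g * m * g⁻¹ * m⁻¹ * m = g * m * g⁻¹ := by group
        rw [e] at h4
        exact h4
    exact h1 ⟨z, hz, rfl⟩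
  intro y hy
  refine mem_normalizer_iff.2 fun z => ⟨key y hy z, fun hz => ?_⟩
  have h3 := key y⁻¹ (inv_mem hy) _ hz
  have e : y⁻¹ * (y * z * y⁻¹) * y⁻¹⁻¹ = z := by group
  rwa [e] at h3

/-- **(b)** : `O²(Y)` centralises `x ∈ C_L(h)` if `B` centralises `x` modulo `Λ`.
`cW` : `w ∈ W`, `[w, Q] ≤ Λ` ⟹ `w ∈ L`; `ch` : `C_(L ∩ W Λ)(h) ≤ C(O²(Y))` (`= Λ`). -/
theorem cent [Finite G] (QY : Q ≤ Y) (QL : ∀ q ∈ Q, ∀ l ∈ L, q * l = l * q)
    (cW : ∀ w ∈ W, (∀ q ∈ Q, q * w * q⁻¹ * w⁻¹ ∈ Λ) → w ∈ L) {k : G} (hk : k ∈ oddGen Y)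
    (ch : ∀ u ∈ L, u ∈ W ⊔ Λ → k * u = u * k → ∀ g ∈ oddGen Y, g * u = u * g)
    {x : G} (hx : x ∈ L) (hkx : k * x = x * k) (hB : ∀ b ∈ B, b ∈ Y → b * x * b⁻¹ * x⁻¹ ∈ Λ) :
    ∀ g ∈ oddGen Y, g * x = x * g := by
  obtain ⟨n, hnA, hn, hnx⟩ := exists_norm h.Aab h.As h.YA h.YΛn
    h.syl (h.LA hx) hB (fun y hy => h.comm hy hx)
  have hodd : ∀ g ∈ oddGen Y, g * n = n * g := by
    have h1 : oddGen Y ≤ centralizer ({n} : Set G) := by
      rw [oddGen_def, closure_le]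
      rintro g ⟨hg, ho⟩
      have := comm_of_odd h.As ho (hn g hg) (fun z hz => h.YΛ g hg z hz) h.ΛA
      rw [SetLike.mem_coe, mem_centralizer_iff]
      rintro _ rfl
      exact this.symm
    intro g hg
    exact (mem_centralizer_iff.1 (h1 hg) n rfl).symm
  -- `n = u x`, `u ∈ W Λ`, `u = w z`
  set u := n * x⁻¹ with hu
  have hux : n = u * x := by rw [hu]; group
  have huA : u ∈ A := h.WΛA hnx
  obtain ⟨w, hw, z, hz, hwz⟩ : ∃ w ∈ W, ∃ z ∈ Λ, w * z = u := by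
    have hnorm : (W.subgroupOf A).Normal := ⟨fun a ha g => by
      have : g * a * g⁻¹ = a := by
        apply Subtype.ext
        have := h.Aab g g.2 a a.2
        change (g : G) * a * (g : G)⁻¹ = a
        rw [this, mul_inv_cancel_right]
      rw [this]; exact ha⟩
    have h1 : (⟨u, huA⟩ : A) ∈ W.subgroupOf A ⊔ Λ.subgroupOf A := by
      rw [← Subgroup.subgroupOf_sup h.WA h.ΛA]
      exact mem_subgroupOf.2 hnx
    rw [Subgroup.mem_sup_of_normal_left] at h1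
    obtain ⟨w, hw, z, hz, hwz⟩ := h1
    exact ⟨w, mem_subgroupOf.1 hw, z, mem_subgroupOf.1 hz, congrArg Subtype.val hwz⟩
  have hwA := h.WA hw
  have hzA := h.ΛA hz
  have hwL : w ∈ L := by
    refine cW w hw fun q hq => ?_
    have h1 := hn q (QY hq)
    have e2 : w = n * (x⁻¹ * z⁻¹) := by
      have : w = u * z⁻¹ := by rw [← hwz]; group
      rw [this, hu]; group
    have hqx : q * x⁻¹ = x⁻¹ * q := QL q hq _ (inv_mem hx)
    have hqz : q * z⁻¹ = z⁻¹ * q := QL q hq _ (inv_mem (h.ΛL hz))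
    have e3 : q * w * q⁻¹ * w⁻¹ = q * n * q⁻¹ * n⁻¹ := by
      rw [e2]
      have e4 : q * (n * (x⁻¹ * z⁻¹)) * q⁻¹ = (q * n * q⁻¹) * (x⁻¹ * z⁻¹) := by
        calc q * (n * (x⁻¹ * z⁻¹)) * q⁻¹ = q * n * (x⁻¹ * z⁻¹ * q⁻¹) := by group
          _ = q * n * (q⁻¹ * (x⁻¹ * z⁻¹)) := by
            have : x⁻¹ * z⁻¹ * q⁻¹ = q⁻¹ * (x⁻¹ * z⁻¹) := by
              have h5 : q * (x⁻¹ * z⁻¹) = (x⁻¹ * z⁻¹) * q := by
                rw [← mul_assoc, hqx, mul_assoc, hqz, ← mul_assoc]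
              calc x⁻¹ * z⁻¹ * q⁻¹ = q⁻¹ * (q * (x⁻¹ * z⁻¹)) * q⁻¹ := by group
                _ = q⁻¹ * ((x⁻¹ * z⁻¹) * q) * q⁻¹ := by rw [h5]
                _ = q⁻¹ * (x⁻¹ * z⁻¹) := by group
            rw [this]
          _ = (q * n * q⁻¹) * (x⁻¹ * z⁻¹) := by group
      rw [e4]
      have e5 : (n * (x⁻¹ * z⁻¹))⁻¹ = (x⁻¹ * z⁻¹)⁻¹ * n⁻¹ := by group
      rw [e5]; group
    rw [e3]; exact h1
  have huL : u ∈ L := by rw [← hwz]; exact mul_mem hwL (h.ΛL hz)
  have hku : k * u = u * k := by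
    have h1 := hodd k hk
    rw [hux] at h1
    -- `k u x = u x k = u k x`
    have h2 : k * u * x = u * k * x := by
      calc k * u * x = k * (u * x) := by group
        _ = u * x * k := h1
        _ = u * (x * k) := by group
        _ = u * (k * x) := by rw [hkx]
        _ = u * k * x := by group
    exact mul_right_cancel h2
  have hcu := ch u huL hnx hku
  intro g hg
  have h1 := hodd g hg
  have h2 := hcu g hg
  have e : x = u⁻¹ * n := by rw [hux]; group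
  have h3 : g * u⁻¹ = u⁻¹ * g := by
    calc g * u⁻¹ = u⁻¹ * (u * g) * u⁻¹ := by group
      _ = u⁻¹ * (g * u) * u⁻¹ := by rw [h2]
      _ = u⁻¹ * g := by group
  rw [e, ← mul_assoc, h3, mul_assoc, h1, mul_assoc]

/-- **`C_R(L)` is normal in `Y`** for `R` normal in `Y` which centralises `W` (`R = O₂(Y)`, `C_R(L) = Q ∩ O₂(Y)`). -/
theorem norm_CL {R : Subgroup G} (YR : Y ≤ normalizer (R : Set G)) (RW : R ≤ centralizer (W : Set G)) :
    Y ≤ normalizer ((R ⊓ centralizer (L : Set G) : Subgroup G) : Set G) := by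
  have e : R ⊓ centralizer (L : Set G) = R ⊓ centralizer ((W ⊔ L : Subgroup G) : Set G) := by
    refine le_antisymm (le_inf inf_le_left ?_) (le_inf inf_le_left (inf_le_right.trans
      (centralizer_le (SetLike.coe_subset_coe.2 (le_sup_right : L ≤ W ⊔ L)))))
    rw [le_centralizer_iff]
    refine sup_le ?_ ?_
    · rw [le_centralizer_iff]; exact inf_le_left.trans RW
    · rw [le_centralizer_iff]; exact inf_le_right
  rw [e]
  have key : ∀ g ∈ Y, ∀ r ∈ R ⊓ centralizer ((W ⊔ L : Subgroup G) : Set G),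
      g * r * g⁻¹ ∈ R ⊓ centralizer ((W ⊔ L : Subgroup G) : Set G) := by
    rintro g hg r ⟨hr, hrc⟩
    refine ⟨(mem_normalizer_iff.1 (YR hg) r).1 hr, mem_centralizer_iff.2 fun v hv => ?_⟩
    have h1 : g⁻¹ * v * g ∈ W ⊔ L := by
      have := (mem_normalizer_iff.1 (h.norm_WL (inv_mem hg)) v).1 hv
      rwa [inv_inv] at this
    have h2 : (g⁻¹ * v * g) * r = r * (g⁻¹ * v * g) := mem_centralizer_iff.1 hrc _ h1
    calc v * (g * r * g⁻¹) = g * ((g⁻¹ * v * g) * r) * g⁻¹ := by group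
      _ = g * (r * (g⁻¹ * v * g)) * g⁻¹ := by rw [h2]
      _ = g * r * g⁻¹ * v := by group
  intro y hy
  refine mem_normalizer_iff.2 fun z => ⟨key y hy z, fun hz => ?_⟩
  have h3 := key y⁻¹ (inv_mem hy) _ hz
  have e : y⁻¹ * (y * z * y⁻¹) * y⁻¹⁻¹ = z := by group
  rwa [e] at h3

omit h in
/-- **(a)** : `F ≤ Λ`. -/
theorem F_le {F : Subgroup G} {k b : G} (FA : F ≤ A) (QF : ∀ q ∈ Q, ∀ f ∈ F, q * f = f * q)
    (CQ : A ⊓ centralizer (Q : Set G) ≤ L) (kF : ∀ f ∈ F, k * f = f * k) (bF : ∀ f ∈ F, b * f = f * b)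
    (hC : ∀ l ∈ L, k * l = l * k → b * l = l * b → l ∈ Λ) : F ≤ Λ := fun f hf =>
  hC f (CQ ⟨FA hf, mem_centralizer_iff.2 fun q hq => QF q hq f hf⟩) (kF f hf) (bF f hf)

end Sit

end Cfsg.Agent.Omega.NO3S.WY.Tor.SFiveB

end
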