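import Cfsg.Agent.Mrg.Omega.NO3S.WY.Tor.TYOf
import Cfsg.Agent.Mrg.Omega.NO3S.WY.Tor.Act


/-!
# THEOREM TOR: `TY.act` over the coordinates `Co`
-/

set_option autoImplicit false
set_option linter.unusedSectionVars false

namespace Cfsg.Agent.Omega.NO3S.WY.Tor.Co

open Subgroup Cfsg Cfsg.Agent.ZN Cfsg.Agent.ZN.ChoiceBase
open Cfsg.Agent.Omega.FrameFF (cv)

universe u

variable {G : Type u} [Group G] [Finite G] {ι : Type} {F : Type} [Field F] {S B Q M X L : Subgroup G}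
  {V : ι → Subgroup G} {z : ι → G} {𝓦 : Set (Subgroup G)} {j : ι} {Y : Subgroup G}

/-- **the five lines of `W_j`** -/
theorem act_five [Finite F] [CharP F 2] (o : Co F S B Q M X L V z 𝓦 j Y) :
    ∃ (ℓ : Fin 5 → Subgroup G) (π : ↥Y →* Equiv.Perm (Fin 5)), ℓ 0 = V j ⊔ o.F0 ∧ (∀ a, ℓ a ≤ o.Wj) ∧
      (∀ a b, a ≠ b → ℓ a ⊓ ℓ b = o.F0) ∧ (∀ (y : Y) a, cj (y : G) (ℓ a) = ℓ (π y a)) ∧
      alternatingGroup (Fin 5) ≤ π.range ∧ ∀ y : Y, π y = 1 → ∀ w ∈ o.Wj, (y : G) * w * (y : G)⁻¹ * w⁻¹ ∈ o.F0 := by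
  obtain ⟨ℓ, π, h0, h1, h2, h3, h4, h5⟩ := Act.act o.nat.toNatK o.c4 o.YU o.BY o.B2 o.W_le o.YW
  refine ⟨ℓ, π, h0.trans ?_, h1, h2, h3, h4, h5⟩
  have hD : V j ⊔ o.F0 ≤ o.Wj := sup_le o.VW inf_le_left
  ext w
  constructor
  · rintro ⟨hw, -, hw0⟩
    exact (o.line' hw).1 hw0
  · intro hw
    exact ⟨hD hw, o.W_le (hD hw), (o.line' (hD hw)).2 hw⟩

/-- **all of `TY`** -/
theorem ty' [Finite F] [CharP F 2] (o : Co F S B Q M X L V z 𝓦 j Y) : TY S B Q M X V z 𝓦 j Y o.Wj o.F0 :=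
  o.ty o.act_five

end Cfsg.Agent.Omega.NO3S.WY.Tor.Co
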