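import Cfsg.Agent.Mrg.Omega.NO3S.WY.Tor.Frame
import Cfsg.Agent.Mrg.Omega.NO3b.K0.FullOff
import Cfsg.Agent.Mrg.Omega.SQ1.Choice


/-!
# THEOREM TOR: first facts on the frame
-/

set_option autoImplicit false
set_option linter.unusedSectionVars false

namespace Cfsg.Agent.Omega.NO3S.WY.Tor

open Subgroup Cfsg Cfsg.Agent.ZN Cfsg.Agent.ZN.ChoiceBase
open Cfsg.Agent.ZN.ChoiceSit (Syl)
open Cfsg.Agent.MinSimple.MinParabolic (IsMinPar)
open Cfsg.Agent.MinSimple.VModule (oddGen oddGen_le mem_oddGen)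
open Cfsg.Agent.Omega.SQ1.Bau (mem_sup_comm card_sup_comm)

universe u

variable {G : Type u} [Group G] {ι : Type}

theorem conj_mem {A : Subgroup G} {g x : G} (h : g ∈ normalizer (A : Set G)) (hx : x ∈ A) : g * x * g⁻¹ ∈ A :=
  (mem_normalizer_iff.1 h x).1 hx

theorem comm_iff {a b : G} : a * b * a⁻¹ * b⁻¹ = 1 ↔ a * b = b * a := by
  constructor
  · intro h
    have h1 := mul_inv_eq_one.1 h
    exact mul_inv_eq_iff_eq_mul.1 h1
  · intro h
    rw [h]; group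

theorem mem_cj' {g x : G} {A : Subgroup G} (hx : x ∈ A) : g * x * g⁻¹ ∈ cj g A := by
  rw [mem_cj]
  have : g⁻¹ * (g * x * g⁻¹) * g = x := by group
  rwa [this]

/-- an element of odd order which stabilises `x A`, `A ≤ C(k)`, `x² = 1`, `A` of exponent 2, commutes with `x` -/
theorem odd_comm {k x a : G} (ho : Odd (orderOf k)) (ha : a * a = 1) (hka : k * a = a * k) (_hax : a * x = x * a)
    (h : k * x * k⁻¹ * x⁻¹ = a) : k * x = x * k := by
  have h1 : k * x * k⁻¹ = a * x := by rw [← h]; group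
  have key : ∀ n : ℕ, k ^ n * x * (k ^ n)⁻¹ = a ^ n * x := by
    intro n
    induction n with
    | zero => simp
    | succ n ih =>
      have e : k ^ (n + 1) * x * (k ^ (n + 1))⁻¹ = k * (k ^ n * x * (k ^ n)⁻¹) * k⁻¹ := by rw [pow_succ']; group
      have e2 : k * a ^ n = a ^ n * k := (Commute.pow_right (show Commute k a from hka) n)
      calc k ^ (n + 1) * x * (k ^ (n + 1))⁻¹ = k * (a ^ n * x) * k⁻¹ := by rw [e, ih]
        _ = (k * a ^ n) * x * k⁻¹ := by group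
        _ = a ^ n * (k * x * k⁻¹) := by rw [e2]; group
        _ = a ^ n * (a * x) := by rw [h1]
        _ = a ^ (n + 1) * x := by rw [pow_succ]; group
  obtain ⟨m, hm⟩ := ho
  have h2 := key (orderOf k)
  rw [pow_orderOf_eq_one] at h2
  have h3 : a ^ orderOf k = a := by
    rw [hm, pow_succ, pow_mul, pow_two, ha, one_pow, one_mul]
  rw [h3] at h2
  have h4 : a = 1 := by
    have : x = a * x := by simpa using h2
    exact mul_eq_right.1 this.symm
  rw [h4, one_mul] at h1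
  exact mul_inv_eq_iff_eq_mul.1 h1

namespace Cx

variable {S B Q M X L : Subgroup G} {V : ι → Subgroup G} {z : ι → G} (c : Cx S B Q M X L V z)
include c

theorem VL (i : ι) : V i ≤ L := by rw [c.eL]; exact le_iSup V i

theorem VX (i : ι) : V i ≤ X := (c.VL i).trans c.LX

theorem zX (i : ι) : z i ∈ X := c.VX i (c.zV i)

theorem QS : Q ≤ S := c.QB.trans c.BS

theorem B2 : IsPGroup 2 B := c.S2.to_le c.BS

theorem SQ : S ≤ normalizer (Q : Set G) := fun s hs => by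
  rw [mem_normalizer_iff_cj]
  exact c.wc s (by
    have h1 := cj_mono s c.QS
    rwa [cj_eq_of_mem_normalizer (le_normalizer hs)] at h1)

theorem BQ : B ≤ normalizer (Q : Set G) := c.BS.trans c.SQ

theorem SX : S ≤ normalizer (X : Set G) := c.SM.trans c.MX

theorem VV_L (j : ι) : VV V j ≤ L := iSup₂_le fun i _ => c.VL i

theorem VV_X (j : ι) : VV V j ≤ X := (c.VV_L j).trans c.LX

theorem V_VV {i j : ι} (h : i ≠ j) : V i ≤ VV V j := le_iSup₂_of_le (f := fun i (_ : i ≠ j) => V i) i h le_rfl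

theorem Lam_VV (j : ι) : Lam z j ≤ VV V j :=
  iSup₂_le fun i hi => ((zpowers_le).2 (c.zV i)).trans (c.V_VV hi)

theorem Lam_X (j : ι) : Lam z j ≤ X := (c.Lam_VV j).trans (c.VV_X j)

theorem V_VV_bot (j : ι) : V j ⊓ VV V j = ⊥ := c.ind j

theorem L_eq (j : ι) : L ≤ V j ⊔ VV V j := by
  rw [c.eL]
  refine iSup_le fun i => ?_
  by_cases h : i = j
  · rw [h]; exact le_sup_left
  · exact (c.V_VV h).trans le_sup_right

theorem xc {x y : G} (hx : x ∈ X) (hy : y ∈ X) : x * y = y * x := c.Xc x hx y hy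

theorem inv_eq {x : G} (hx : x ∈ X) : x⁻¹ = x := by
  have := c.Xs x hx
  exact inv_eq_of_mul_eq_one_left this

/-- `l = v v'`, `v ∈ V_j`, `v' ∈ V_(j)` -/
theorem split (j : ι) {l : G} (hl : l ∈ L) : ∃ v ∈ V j, ∃ v' ∈ VV V j, l = v * v' :=
  mem_sup_comm (fun _ ha _ hb => c.xc (c.VX j ha) (c.VV_X j hb)) (c.L_eq j hl)

theorem V_ne_bot (i : ι) : V i ≠ ⊥ := fun h => c.z1 i (by
  have := c.zV i
  rwa [h, mem_bot] at this)

theorem V_disj {i j : ι} (h : i ≠ j) : V i ⊓ V j = ⊥ :=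
  le_bot_iff.1 ((inf_le_inf_left _ (c.V_VV h.symm)).trans (c.ind i).le)

theorem V_inj {i j : ι} (h : V i = V j) : i = j := by
  by_contra hne
  have := c.V_disj hne
  rw [h, inf_idem] at this
  exact c.V_ne_bot j this

theorem V_of_mem {i j : ι} {v : G} (hi : v ∈ V i) (hj : v ∈ V j) (h1 : v ≠ 1) : i = j := by
  by_contra hne
  have : v ∈ V i ⊓ V j := ⟨hi, hj⟩
  rw [c.V_disj hne, mem_bot] at this
  exact h1 this

/-- `g ∈ N(Q)` normalises `V_(j)` if it normalises `V_j` -/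
theorem norm_VV {g : G} (hQ : g ∈ normalizer (Q : Set G)) {j : ι} (hj : cj g (V j) = V j) :
    cj g (VV V j) ≤ VV V j := by
  unfold VV
  rw [ChoiceBase.cj, Subgroup.map_iSup]
  refine iSup_le fun i => ?_
  rw [Subgroup.map_iSup]
  refine iSup_le fun hi => ?_
  obtain ⟨m, hm⟩ := c.perm g hQ i
  have hm' : Subgroup.map (MulAut.conj g).toMonoidHom (V i) = V m := hm
  have hmj : m ≠ j := by
    rintro rfl
    apply hi
    apply c.V_inj
    have h1 : cj g (V i) = cj g (V m) := by rw [hm, hj]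
    have h2 := congrArg (cj g⁻¹) h1
    rwa [cj_inv_cj, cj_inv_cj] at h2
  rw [hm']
  exact c.V_VV hmj

theorem norm_VV' [Finite G] {g : G} (hQ : g ∈ normalizer (Q : Set G)) {j : ι} (hj : cj g (V j) = V j) :
    g ∈ normalizer ((VV V j : Subgroup G) : Set G) := mem_normalizer_of_cj_le (c.norm_VV hQ hj)

theorem norm_L [Finite G] : normalizer (Q : Set G) ≤ normalizer (L : Set G) := fun g hg => by
  refine mem_normalizer_of_cj_le ?_
  conv_lhs => rw [c.eL]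
  rw [ChoiceBase.cj, Subgroup.map_iSup]
  refine iSup_le fun i => ?_
  obtain ⟨m, hm⟩ := c.perm g hg i
  have hm' : Subgroup.map (MulAut.conj g).toMonoidHom (V i) = V m := hm
  rw [hm']
  exact c.VL m

/-- `B` normalises every `V_i` -/
theorem BV (i : ι) : B ≤ normalizer (V i : Set G) := fun b hb => by
  obtain ⟨m, hm⟩ := c.perm b (c.BQ hb) i
  have h1 : z i ∈ V m := by
    rw [← hm, mem_cj]
    have := c.Bz b hb i
    have e : b⁻¹ * z i * b = z i := by rw [mul_assoc, ← this]; group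
    rw [e]
    exact c.zV i
  have h2 := c.V_of_mem (c.zV i) h1 (c.z1 i)
  rw [mem_normalizer_iff_cj, hm, h2]

theorem BVj {i : ι} {b : G} (hb : b ∈ B) : cj b (V i) = V i := cj_eq_of_mem_normalizer (c.BV i hb)

end Cx

namespace TY

variable {S B Q M X L : Subgroup G} {V : ι → Subgroup G} {z : ι → G} {𝓦 : Set (Subgroup G)} {j : ι}
  {Y W F : Subgroup G}

theorem BY (h : TY S B Q M X V z 𝓦 j Y W F) : B ≤ Y := h.min.le

theorem QY (c : Cx S B Q M X L V z) (h : TY S B Q M X V z 𝓦 j Y W F) : Q ≤ Y := c.QB.trans h.BY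

theorem FX (h : TY S B Q M X V z 𝓦 j Y W F) : F ≤ X := h.FW.trans h.WX

theorem F_VV (c : Cx S B Q M X L V z) (h : TY S B Q M X V z 𝓦 j Y W F) : F ≤ VV V j := h.FL.trans (c.Lam_VV j)

/-- `Y` centralises `Λ_j` -/
theorem cLam (h : TY S B Q M X V z 𝓦 j Y W F) {y x : G} (hy : y ∈ Y) (hx : x ∈ Lam z j) : y * x = x * y := by
  have h1 : Lam z j ≤ centralizer (Y : Set G) := iSup₂_le fun i hi => by
    rw [zpowers_le, mem_centralizer_iff]
    exact fun y hy => h.Yz y hy i hi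
  exact mem_centralizer_iff.1 (h1 hx) y hy

theorem cF (h : TY S B Q M X V z 𝓦 j Y W F) {y f : G} (hy : y ∈ Y) (hf : f ∈ F) : y * f = f * y :=
  h.cLam hy (h.FL hf)

theorem VjF_bot (c : Cx S B Q M X L V z) (h : TY S B Q M X V z 𝓦 j Y W F) : V j ⊓ F = ⊥ :=
  le_bot_iff.1 ((inf_le_inf_left _ (h.F_VV c)).trans (c.ind j).le)

/-- elements of `V_j F` -/
theorem mem_VF (c : Cx S B Q M X L V z) (h : TY S B Q M X V z 𝓦 j Y W F) {x : G} :
    x ∈ V j ⊔ F ↔ ∃ v ∈ V j, ∃ f ∈ F, x = v * f := by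
  constructor
  · exact fun hx => mem_sup_comm (fun _ ha _ hb => c.xc (c.VX j ha) (h.FX hb)) hx
  · rintro ⟨v, hv, f, hf, rfl⟩
    exact mul_mem ((le_sup_left : V j ≤ V j ⊔ F) hv) ((le_sup_right : F ≤ V j ⊔ F) hf)

theorem VF_L (c : Cx S B Q M X L V z) (h : TY S B Q M X V z 𝓦 j Y W F) : V j ⊔ F ≤ L :=
  sup_le (c.VL j) ((h.F_VV c).trans (c.VV_L j))

theorem VF_W (h : TY S B Q M X V z 𝓦 j Y W F) : V j ⊔ F ≤ W := sup_le h.VW h.FW

/-- `W ∩ L = V_j F` -/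
theorem WL (c : Cx S B Q M X L V z) (h : TY S B Q M X V z 𝓦 j Y W F) : W ⊓ L = V j ⊔ F :=
  le_antisymm (fun w hw => h.cWQ w hw.1 fun q hq => c.cQL q hq w hw.2) (le_inf h.VF_W (h.VF_L c))

/-- `W ∩ V_(j) = F` -/
theorem WVV (c : Cx S B Q M X L V z) (h : TY S B Q M X V z 𝓦 j Y W F) : W ⊓ VV V j = F := by
  refine le_antisymm ?_ (le_inf h.FW (h.F_VV c))
  rintro w ⟨hw, hwV⟩
  have h1 : w ∈ V j ⊔ F := by rw [← h.WL c]; exact ⟨hw, c.VV_L j hwV⟩
  obtain ⟨v, hv, f, hf, rfl⟩ := (h.mem_VF c).1 h1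
  have h2 : v ∈ VV V j := by
    have := (VV V j).mul_mem hwV ((VV V j).inv_mem (h.F_VV c hf))
    simpa using this
  have h3 : v ∈ V j ⊓ VV V j := ⟨hv, h2⟩
  rw [c.ind j, mem_bot] at h3
  rw [h3, one_mul]; exact hf

theorem card_VF [Finite G] (c : Cx S B Q M X L V z) (h : TY S B Q M X V z 𝓦 j Y W F) :
    Nat.card ↥(V j ⊔ F) = 4 * Nat.card F := by
  have h1 := card_sup_comm (A := V j) (B := F) (fun _ ha _ hb => c.xc (c.VX j ha) (h.FX hb))
  rw [h.VjF_bot c, Subgroup.card_bot, mul_one, c.cV j] at h1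
  exact h1

theorem syl (c : Cx S B Q M X L V z) (h : TY S B Q M X V z 𝓦 j Y W F) : Syl B Y :=
  ⟨h.BY, c.B2, fun T hT hT2 hBT => le_antisymm
    (c.sylB j T hT2 hBT fun i hi x hx => h.Yz x (hT hx) i hi) hBT⟩

theorem oddB [Finite G] (c : Cx S B Q M X L V z) (h : TY S B Q M X V z 𝓦 j Y W F) : oddGen Y ⊔ B = Y :=
  NO3b.EZero.oddGen_sup_syl (h.syl c)

theorem o2B [Finite G] (c : Cx S B Q M X L V z) (h : TY S B Q M X V z 𝓦 j Y W F) : o2 Y ≤ B :=
  ChoiceSit.o2_le_syl (h.syl c)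

/-- `O₂(Y)` centralises `W` -/
theorem o2_cW [Finite G] (c : Cx S B Q M X L V z) (h : TY S B Q M X V z 𝓦 j Y W F) :
    o2 Y ≤ centralizer (W : Set G) := by
  rw [le_centralizer_iff]
  refine h.gen _ ?_ ?_
  · rw [mem_centralizer_iff]
    exact fun b hb => c.Bz b (h.o2B c hb) j
  · exact (ChoiceSit.le_normalizer_o2 Y).trans
      (normalizer_le_of_cj (F := fun T => centralizer (T : Set G)) (fun g T => (cj_centralizer g T).symm) (o2 Y))

/-- the action on the lines: an element of odd order which moves a line -/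
theorem exists_odd [Finite G] (_h : TY S B Q M X V z 𝓦 j Y W F) {π : ↥Y →* Equiv.Perm (Fin 5)}
    (hπ : alternatingGroup (Fin 5) ≤ π.range) : ∃ y : Y, Odd (orderOf y) ∧ π y ≠ 1 := by
  classical
  have h3 : (Equiv.swap (0 : Fin 5) 1 * Equiv.swap 1 2) ∈ alternatingGroup (Fin 5) := by
    rw [Equiv.Perm.mem_alternatingGroup]
    decide
  obtain ⟨y, hy⟩ := hπ h3
  obtain ⟨k, m, hm, e⟩ := Nat.exists_eq_two_pow_mul_odd (n := orderOf y) (orderOf_pos y).ne'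
  refine ⟨y ^ 2 ^ k, ?_, ?_⟩
  · rw [orderOf_pow_of_dvd (by positivity) ⟨m, e⟩, e, Nat.mul_div_cancel_left _ (by positivity)]
    exact hm
  · rw [map_pow, hy]
    intro h1
    have h4 : orderOf (Equiv.swap (0 : Fin 5) 1 * Equiv.swap 1 2) = 3 := by
      apply orderOf_eq_prime
      · decide
      · decide
    have h5 := orderOf_dvd_of_pow_eq_one h1
    rw [h4] at h5
    have h6 := Nat.Prime.dvd_of_dvd_pow Nat.prime_three h5
    omega

theorem card_line_ne [Finite G] (c : Cx S B Q M X L V z) (h : TY S B Q M X V z 𝓦 j Y W F) : V j ⊔ F ≠ F := by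
  intro e
  have h1 := h.card_VF c
  rw [e] at h1
  have h2 : 0 < Nat.card F := Nat.card_pos
  omega

/-- an element of `Y` which is trivial on `W / F` fixes the lines -/
theorem ker_le {ℓ : Fin 5 → Subgroup G} {π : ↥Y →* Equiv.Perm (Fin 5)} (hW : ∀ a, ℓ a ≤ W)
    (hF : ∀ a, F ≤ ℓ a) (hne : ∀ a, ℓ a ≠ F)
    (hi : ∀ a b, a ≠ b → ℓ a ⊓ ℓ b = F) (hc : ∀ (y : Y) a, cj (y : G) (ℓ a) = ℓ (π y a)) {y : Y}
    (hy : ∀ w ∈ W, (y : G) * w * (y : G)⁻¹ * w⁻¹ ∈ F) : π y = 1 := by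
  ext a
  simp only [Equiv.Perm.coe_one, id_eq]
  have h1 : cj (y : G) (ℓ a) ≤ ℓ a := by
    rintro x ⟨w, hw, rfl⟩
    have h2 := mul_mem (hF a (hy w (hW a hw))) hw
    have e : (y : G) * w * (y : G)⁻¹ * w⁻¹ * w = (y : G) * w * (y : G)⁻¹ := by group
    rw [e] at h2
    exact h2
  by_contra hne'
  have hne2 : π y a ≠ a := fun e => hne' (by rw [e])
  rw [hc] at h1
  have h3 : ℓ (π y a) ≤ F := by
    rw [← hi _ _ hne2]
    exact le_inf le_rfl h1
  exact hne _ (le_antisymm h3 (hF _))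

/-- the elements of `Y` which are trivial on `W / F` -/
def CWF (h : TY S B Q M X V z 𝓦 j Y W F) : Subgroup G where
  carrier := {y | y ∈ Y ∧ ∀ w ∈ W, y * w * y⁻¹ * w⁻¹ ∈ F}
  one_mem' := ⟨one_mem _, fun w _ => by simp⟩
  mul_mem' := by
    rintro a b ⟨ha, ha'⟩ ⟨hb, hb'⟩
    refine ⟨mul_mem ha hb, fun w hw => ?_⟩
    have h1 := hb' w hw
    have h2 := h.cF ha h1
    have e : a * b * w * (a * b)⁻¹ * w⁻¹ = (a * (b * w * b⁻¹ * w⁻¹)) * a⁻¹ * (a * w * a⁻¹ * w⁻¹) := by group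
    rw [e, h2]
    have e2 : b * w * b⁻¹ * w⁻¹ * a * a⁻¹ * (a * w * a⁻¹ * w⁻¹) = (b * w * b⁻¹ * w⁻¹) * (a * w * a⁻¹ * w⁻¹) := by group
    rw [e2]
    exact mul_mem h1 (ha' w hw)
  inv_mem' := by
    rintro a ⟨ha, ha'⟩
    refine ⟨inv_mem ha, fun w hw => ?_⟩
    have h3 : a⁻¹ * w * a ∈ W := by
      have := conj_mem (h.YW (inv_mem ha)) hw
      simpa using this
    have h1 := ha' _ h3
    have h2 := h.cF (inv_mem ha) (inv_mem h1)
    have e : a⁻¹ * w * a⁻¹⁻¹ * w⁻¹ = (a * (a⁻¹ * w * a) * a⁻¹ * (a⁻¹ * w * a)⁻¹)⁻¹ := by group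
    rw [e]
    exact inv_mem h1

theorem mem_CWF (h : TY S B Q M X V z 𝓦 j Y W F) {y : G} :
    y ∈ h.CWF ↔ y ∈ Y ∧ ∀ w ∈ W, y * w * y⁻¹ * w⁻¹ ∈ F := Iff.rfl

theorem CWF_norm (h : TY S B Q M X V z 𝓦 j Y W F) [Finite G] : Y ≤ normalizer (h.CWF : Set G) := by
  intro y hy
  refine mem_normalizer_of_cj_le ?_
  rintro x ⟨u, ⟨hu, hu'⟩, rfl⟩
  refine ⟨mul_mem (mul_mem hy hu) (inv_mem hy), fun w hw => ?_⟩
  have h3 : y⁻¹ * w * y ∈ W := by
    have := conj_mem (h.YW (inv_mem hy)) hw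
    simpa using this
  have h1 := hu' _ h3
  have h2 := h.cF hy h1
  show (y * u * y⁻¹) * w * (y * u * y⁻¹)⁻¹ * w⁻¹ ∈ F
  have e : (y * u * y⁻¹) * w * (y * u * y⁻¹)⁻¹ * w⁻¹ =
      y * (u * (y⁻¹ * w * y) * u⁻¹ * (y⁻¹ * w * y)⁻¹) * y⁻¹ := by group
  rw [e, h2]
  have e2 : ∀ f : G, f * y * y⁻¹ = f := fun f => by group
  rw [e2]
  exact h1

theorem not_odd_CWF [Finite G] (c : Cx S B Q M X L V z) (h : TY S B Q M X V z 𝓦 j Y W F) :
    ¬ oddGen Y ≤ h.CWF := by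
  intro hle
  obtain ⟨ℓ, π, h0, hW, hi, hc, hA, -⟩ := h.act
  obtain ⟨y, hy, hne⟩ := h.exists_odd hA
  have hy' : (y : G) ∈ oddGen Y := mem_oddGen y.2 (by rwa [← Subgroup.orderOf_coe] at hy)
  have hF : ∀ a, F ≤ ℓ a := fun a => by
    have : ∃ b : Fin 5, a ≠ b := by
      by_cases h5 : a = 0
      · exact ⟨1, by rw [h5]; decide⟩
      · exact ⟨0, h5⟩
    obtain ⟨b, hb⟩ := this
    rw [← hi a b hb]; exact inf_le_left
  have hlne : ∀ a, ℓ a ≠ F := by
    intro a e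
    obtain ⟨g, hg⟩ := hA (show Equiv.swap (0 : Fin 5) a * Equiv.swap (0 : Fin 5) a ∈ _ by simp)
    -- transitivity
    have htr : ∃ g : Y, π g 0 = a := by
      by_cases ha : a = 0
      · exact ⟨1, by rw [ha]; simp⟩
      · obtain ⟨b, hb0, hba⟩ : ∃ b : Fin 5, b ≠ 0 ∧ b ≠ a := by
          by_cases h1 : a = 1
          · exact ⟨2, by decide, by rw [h1]; decide⟩
          · exact ⟨1, by decide, fun e => h1 e.symm⟩
        have h3 : (Equiv.swap (0 : Fin 5) a * Equiv.swap 0 b) ∈ alternatingGroup (Fin 5) := by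
          rw [Equiv.Perm.mem_alternatingGroup, map_mul, Equiv.Perm.sign_swap (Ne.symm ha),
            Equiv.Perm.sign_swap hb0.symm]
          decide
        have h4 : (Equiv.swap (0 : Fin 5) b * Equiv.swap 0 a) ∈ alternatingGroup (Fin 5) := by
          rw [Equiv.Perm.mem_alternatingGroup, map_mul, Equiv.Perm.sign_swap (Ne.symm ha),
            Equiv.Perm.sign_swap hb0.symm]
          decide
        obtain ⟨g, hg⟩ := hA h4
        refine ⟨g, ?_⟩
        rw [hg, Equiv.Perm.mul_apply, Equiv.swap_apply_left, Equiv.swap_apply_of_ne_of_ne ha hba.symm]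
    obtain ⟨g, hg⟩ := htr
    have h6 := hc g 0
    rw [hg, h0, e] at h6
    have h7 := card_cj (g : G) (V j ⊔ F)
    rw [h6, h.card_VF c] at h7
    have h8 : 0 < Nat.card F := Nat.card_pos
    omega
  exact hne (ker_le hW hF hlne hi hc (hle hy').2)

/-- an element of `B` which is trivial on `W / F` lies in `O₂(Y)` -/
theorem mem_o2_of [Finite G] (c : Cx S B Q M X L V z) (h : TY S B Q M X V z 𝓦 j Y W F) {b : G} (hb : b ∈ B)
    (hf : ∀ w ∈ W, b * w * b⁻¹ * w⁻¹ ∈ F) : b ∈ o2 Y := by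
  rcases NO3b.K0.min_or (h.syl c) h.min (K := h.CWF) (fun x hx => hx.1) h.CWF_norm with h2 | h2
  · exact absurd h2 (h.not_odd_CWF c)
  · exact h2 ⟨hb, ⟨h.BY hb, hf⟩⟩

/-- `O₂(Y) = C_B(W)` -/
theorem o2W [Finite G] (c : Cx S B Q M X L V z) (h : TY S B Q M X V z 𝓦 j Y W F) :
    o2 Y = B ⊓ centralizer (W : Set G) := by
  refine le_antisymm (le_inf (h.o2B c) (h.o2_cW c)) ?_
  rintro b ⟨hb, hbW⟩
  refine h.mem_o2_of c hb fun w hw => ?_
  have h1 : b * w * b⁻¹ * w⁻¹ = 1 := comm_iff.2 (mem_centralizer_iff.1 hbW w hw).symm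
  rw [h1]; exact one_mem _

/-- `Q ∩ O₂(Y) = C_Q(W)` -/
theorem PIW [Finite G] (c : Cx S B Q M X L V z) (h : TY S B Q M X V z 𝓦 j Y W F) :
    Q ⊓ o2 Y = Q ⊓ centralizer (W : Set G) := by
  rw [h.o2W c, ← inf_assoc, inf_eq_left.2 c.QB]

end TY

end Cfsg.Agent.Omega.NO3S.WY.Tor
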