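import Cfsg.Agent.Mrg.Omega.NO3b.EZeroBase
import Cfsg.Agent.Mrg.Omega.NO3b.UMethod
import Cfsg.Agent.Mrg.Omega.BTwo.Basic


/-!
# THEOREM TOR (helper474 #25011), (1)

Pure group theory, natural form and `S_5` form (#25227 (b)), nonsplit blocks included.
`Y`, `B` Sylow in `Y`, `Q ≤ B`, `O = O₂(Y)`, `A` the elementary abelian group on which the odd kernel lemma `(0)` is
used (`A = V ∩ O₂(C_G(Λ))`), `W = ⟨z^Y⟩`, `F = C_W(O²(Y))` (split: `F = 1`), `X ≤ L` centralised by `h ∈ ⟨Q^Y⟩`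
(natural: `X = ∏_{i≠j} V_i`; `S_5`: `X = C_L(Alt τ)`).

* `One.comm_WΛ`, `One.norm` : `Y` normalises `W L`;
* `One.comm_W` : `[W L, ⟨Q^Y⟩] ≤ W`;
* `One.pi` : `Q ∩ O₂(Y)` is normal in `Y`;
* `One.comm_F` : `[X, ⟨Q^Y⟩] ≤ F`; `One.cent` (split): `⟨Q^Y⟩` centralises `X`; `One.cent_odd` : `O²(Y)` centralises `X`.
-/

set_option autoImplicit false
set_option linter.unusedSectionVars false
set_option linter.dupNamespace false

namespace Cfsg.Agent.Omega.NO3S.WY.Tor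

open Subgroup Cfsg Cfsg.Agent.ZN Cfsg.Agent.ZN.ChoiceBase
open Cfsg.Agent.ZN.ChoiceSit (Syl syl_not_dvd)
open Cfsg.Agent.Omega.NO3b.EZero (cl cl_le le_cl cj_le_cl le_normalizer_cl oddGen_sup_syl)
open Cfsg.Agent.MinSimple.VModule (oddGen oddGen_le mem_oddGen)

universe u

variable {G : Type u} [Group G] [Finite G]

theorem cjs (g : G) (A B : Subgroup G) : cj g (A ⊔ B) = cj g A ⊔ cj g B := Subgroup.map_sup _ _ _

theorem exists_mul {W L : Subgroup G} (hc : ∀ w ∈ W, ∀ v ∈ L, w * v = v * w) {x : G} (hx : x ∈ W ⊔ L) :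
    ∃ w ∈ W, ∃ v ∈ L, w * v = x := by
  let E : Subgroup G :=
    { carrier := {x | ∃ w ∈ W, ∃ v ∈ L, w * v = x}
      one_mem' := ⟨1, one_mem _, 1, one_mem _, one_mul 1⟩
      mul_mem' := by
        rintro _ _ ⟨w, hw, v, hv, rfl⟩ ⟨w', hw', v', hv', rfl⟩
        refine ⟨w * w', mul_mem hw hw', v * v', mul_mem hv hv', ?_⟩
        rw [mul_assoc w w', ← mul_assoc w' v, hc w' hw' v hv]
        group
      inv_mem' := by
        rintro _ ⟨w, hw, v, hv, rfl⟩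
        refine ⟨w⁻¹, inv_mem hw, v⁻¹, inv_mem hv, ?_⟩
        rw [hc _ (inv_mem hw) _ (inv_mem hv), mul_inv_rev] }
  have h1 : W ⊔ L ≤ E := sup_le (fun w hw => ⟨w, hw, 1, one_mem _, mul_one w⟩)
    (fun v hv => ⟨1, one_mem _, v, hv, one_mul v⟩)
  exact h1 hx

theorem mem_sup_of_normalizer_le {Q O : Subgroup G} (hQ : ∀ q ∈ Q, q ∈ normalizer (O : Set G)) {x : G}
    (hx : x ∈ Q ⊔ O) : ∃ q ∈ Q, ∃ o ∈ O, q * o = x := by
  let E : Subgroup G :=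
    { carrier := {x | ∃ q ∈ Q, ∃ o ∈ O, q * o = x}
      one_mem' := ⟨1, one_mem _, 1, one_mem _, one_mul 1⟩
      mul_mem' := by
        rintro _ _ ⟨q, hq, o, ho, rfl⟩ ⟨q', hq', o', ho', rfl⟩
        refine ⟨q * q', mul_mem hq hq', q'⁻¹ * o * q' * o', mul_mem ?_ ho', by group⟩
        have h1 := (mem_normalizer_iff.1 (inv_mem (hQ q' hq')) o).1 ho
        rwa [inv_inv] at h1
      inv_mem' := by
        rintro _ ⟨q, hq, o, ho, rfl⟩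
        refine ⟨q⁻¹, inv_mem hq, q * o⁻¹ * q⁻¹, ?_, by group⟩
        exact (mem_normalizer_iff.1 (hQ q hq) _).1 (inv_mem ho) }
  have h1 : Q ⊔ O ≤ E := sup_le (fun w hw => ⟨w, hw, 1, one_mem _, mul_one w⟩)
    (fun v hv => ⟨1, one_mem _, v, hv, one_mul v⟩)
  exact h1 hx

/-- The elements of `N(M) ∩ N(W)` which centralise `M / W`. -/
def cq (M W : Subgroup G) : Subgroup G where
  carrier := {g | g ∈ normalizer (M : Set G) ∧ g ∈ normalizer (W : Set G) ∧ ∀ x ∈ M, g * x * g⁻¹ * x⁻¹ ∈ W}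
  one_mem' := ⟨one_mem _, one_mem _, fun x _ => by
    have e : (1 : G) * x * 1⁻¹ * x⁻¹ = 1 := by group
    rw [e]; exact one_mem _⟩
  mul_mem' := by
    rintro a b ⟨ha1, ha2, ha3⟩ ⟨hb1, hb2, hb3⟩
    refine ⟨mul_mem ha1 hb1, mul_mem ha2 hb2, fun x hx => ?_⟩
    have h1 := ha3 _ ((mem_normalizer_iff.1 hb1 x).1 hx)
    have e : a * b * x * (a * b)⁻¹ * x⁻¹ = (a * (b * x * b⁻¹) * a⁻¹ * (b * x * b⁻¹)⁻¹) * (b * x * b⁻¹ * x⁻¹) := by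
      group
    rw [e]
    exact mul_mem h1 (hb3 x hx)
  inv_mem' := by
    rintro a ⟨ha1, ha2, ha3⟩
    refine ⟨inv_mem ha1, inv_mem ha2, fun x hx => ?_⟩
    have h1 : a⁻¹ * x * a ∈ M := by
      have := (mem_normalizer_iff.1 (inv_mem ha1) x).1 hx
      rwa [inv_inv] at this
    have h2 := inv_mem (ha3 _ h1)
    have e : a⁻¹ * x * a⁻¹⁻¹ * x⁻¹ = (a * (a⁻¹ * x * a) * a⁻¹ * (a⁻¹ * x * a)⁻¹)⁻¹ := by group
    rw [e]
    exact h2

theorem mem_cq {M W : Subgroup G} {g : G} : g ∈ cq M W ↔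
    g ∈ normalizer (M : Set G) ∧ g ∈ normalizer (W : Set G) ∧ ∀ x ∈ M, g * x * g⁻¹ * x⁻¹ ∈ W := Iff.rfl

theorem conj_mem_cq {M W : Subgroup G} {n g : G} (h1 : n ∈ normalizer (M : Set G)) (h2 : n ∈ normalizer (W : Set G))
    (hg : g ∈ cq M W) : n * g * n⁻¹ ∈ cq M W := by
  obtain ⟨a1, a2, a3⟩ := mem_cq.1 hg
  refine mem_cq.2 ⟨mul_mem (mul_mem h1 a1) (inv_mem h1), mul_mem (mul_mem h2 a2) (inv_mem h2), fun x hx => ?_⟩
  have h3 : n⁻¹ * x * n ∈ M := by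
    have := (mem_normalizer_iff.1 (inv_mem h1) x).1 hx
    rwa [inv_inv] at this
  have h4 := (mem_normalizer_iff.1 h2 _).1 (a3 _ h3)
  have e : n * g * n⁻¹ * x * (n * g * n⁻¹)⁻¹ * x⁻¹ = n * (g * (n⁻¹ * x * n) * g⁻¹ * (n⁻¹ * x * n)⁻¹) * n⁻¹ := by group
  rw [e]
  exact h4

/-- `⟨Q^Y⟩ ≤ C(M/W)` if `Q` centralises `M/W` and `Y` normalises `M`, `W`. -/
theorem cl_le_cq {M W Q Y : Subgroup G} (h1 : Y ≤ normalizer (M : Set G)) (h2 : Y ≤ normalizer (W : Set G))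
    (h3 : Q ≤ cq M W) : cl Q Y ≤ cq M W := by
  refine cl_le fun y hy => ?_
  rintro _ ⟨q, hq, rfl⟩
  exact conj_mem_cq (h1 hy) (h2 hy) (h3 hq)

structure One (Y B Q O A L W X F Λ : Subgroup G) (h : G) : Prop where
  ker0 : ∀ N₁ : Subgroup G, N₁ ≤ A → Y ≤ normalizer (N₁ : Set G) → ∀ v ∈ A,
    (∀ g ∈ Y, g ∈ normalizer (Q : Set G) → g * v * g⁻¹ * v⁻¹ ∈ N₁) → ∀ y ∈ Y, y * v * y⁻¹ * v⁻¹ ∈ N₁
  Aab : ∀ a ∈ A, ∀ b ∈ A, a * b = b * a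
  Asq : ∀ a ∈ A, a * a = 1
  syl : Syl B Y
  QB : Q ≤ B
  OB : O ≤ B
  YO : Y ≤ normalizer (O : Set G)
  LA : L ≤ A
  BL : B ≤ normalizer (L : Set G)
  WA : W ≤ A
  YW : Y ≤ normalizer (W : Set G)
  OW : O ≤ centralizer (W : Set G)
  QL : Q ≤ centralizer (L : Set G)
  LO : ∀ o ∈ O, ∀ v ∈ L, o * v * o⁻¹ * v⁻¹ ∈ Λ
  ΛL : Λ ≤ L
  YΛ : Y ≤ centralizer (Λ : Set G)
  WΛ : W ⊓ Λ ≤ F
  FW : F ≤ W
  YF : Y ≤ normalizer (F : Set G)
  hN : ∀ g ∈ Y, g ∈ normalizer (Q : Set G) → ∀ v ∈ L, g * v * g⁻¹ * v⁻¹ ∈ W ⊔ Λ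
  CL : O ⊓ centralizer (L : Set G) ≤ Q
  KB : cl Q Y ⊓ B ≤ Q ⊔ O
  XL : X ≤ L
  hK : h ∈ cl Q Y
  hX : ∀ v ∈ X, h * v = v * h
  hfix : ∀ w ∈ W, (∀ q ∈ Q, q * w * q⁻¹ * w⁻¹ ∈ F) → h * w * h⁻¹ * w⁻¹ ∈ F → w ∈ F

namespace One

variable {Y B Q O A L W X F Λ : Subgroup G} {h : G} (H : One Y B Q O A L W X F Λ h)
include H

theorem QY : Q ≤ Y := H.QB.trans H.syl.1

theorem OY : O ≤ Y := H.OB.trans H.syl.1

theorem ΛA : Λ ≤ A := H.ΛL.trans H.LA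

theorem WL_A : W ⊔ L ≤ A := sup_le H.WA H.LA

theorem YnΛ : Y ≤ normalizer (Λ : Set G) := H.YΛ.trans (centralizer_le_normalizer _)

theorem YnWΛ : Y ≤ normalizer ((W ⊔ Λ : Subgroup G) : Set G) := by
  intro y hy
  rw [mem_normalizer_iff_cj, cjs, cj_eq_of_mem_normalizer (H.YW hy), cj_eq_of_mem_normalizer (H.YnΛ hy)]

/-- (0) for `L` modulo `W Λ` -/
theorem comm_WΛ {y v : G} (hy : y ∈ Y) (hv : v ∈ L) : y * v * y⁻¹ * v⁻¹ ∈ W ⊔ Λ :=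
  H.ker0 (W ⊔ Λ) (sup_le H.WA H.ΛA) H.YnWΛ v (H.LA hv) (fun g hg hgQ => H.hN g hg hgQ v hv) y hy

/-- **`Y` normalises `W L`.** -/
theorem norm : Y ≤ normalizer ((W ⊔ L : Subgroup G) : Set G) := by
  have key : ∀ y ∈ Y, cj y (W ⊔ L) ≤ W ⊔ L := by
    intro y hy
    rw [cjs, cj_eq_of_mem_normalizer (H.YW hy)]
    refine sup_le le_sup_left ?_
    rintro _ ⟨v, hv, rfl⟩
    have h1 : y * v * y⁻¹ * v⁻¹ ∈ W ⊔ L := (sup_le_sup_left H.ΛL W) (H.comm_WΛ hy hv)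
    have e : (MulAut.conj y).toMonoidHom v = y * v * y⁻¹ * v⁻¹ * v := by
      simp only [MulEquiv.toMonoidHom_eq_coe, MonoidHom.coe_coe, MulAut.conj_apply]
      group
    rw [e]
    exact mul_mem h1 (mem_sup_right hv)
  intro y hy
  rw [mem_normalizer_iff_cj]
  exact Subgroup.eq_of_le_of_card_ge (key y hy) (card_cj _ _).ge

theorem Q_cq : Q ≤ cq (W ⊔ L) W := by
  intro q hq
  refine mem_cq.2 ⟨H.norm (H.QY hq), H.YW (H.QY hq), fun x hx => ?_⟩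
  obtain ⟨w, hw, v, hv, rfl⟩ := exists_mul (fun w hw v hv => H.Aab w (H.WA hw) v (H.LA hv)) hx
  have h1 : q * v = v * q := (mem_centralizer_iff.1 (H.QL hq) v hv).symm
  have e : q * (w * v) * q⁻¹ * (w * v)⁻¹ = (q * w * q⁻¹) * (q * v) * q⁻¹ * v⁻¹ * w⁻¹ := by group
  rw [e, h1]
  have e2 : q * w * q⁻¹ * (v * q) * q⁻¹ * v⁻¹ * w⁻¹ = (q * w * q⁻¹) * w⁻¹ := by group
  rw [e2]
  exact mul_mem ((mem_normalizer_iff.1 (H.YW (H.QY hq)) w).1 hw) (inv_mem hw)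

/-- `[W L, ⟨Q^Y⟩] ≤ W` -/
theorem cl_cq : cl Q Y ≤ cq (W ⊔ L) W := cl_le_cq H.norm H.YW H.Q_cq

theorem comm_W {k v : G} (hk : k ∈ cl Q Y) (hv : v ∈ W ⊔ L) : k * v * k⁻¹ * v⁻¹ ∈ W :=
  (mem_cq.1 (H.cl_cq hk)).2.2 v hv

theorem cl_Y : cl Q Y ≤ Y := cl_le fun y hy => by
  rw [← cj_eq_of_mem_normalizer (le_normalizer hy : y ∈ normalizer (Y : Set G))]
  exact cj_mono y H.QY

/-- `Q ∩ O₂(Y)` centralises `W L`, and it is `C_{O₂(Y)}(W L)`. -/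
theorem pi_eq : Q ⊓ O = O ⊓ centralizer ((W ⊔ L : Subgroup G) : Set G) := by
  refine le_antisymm (le_inf inf_le_right ?_) (le_inf ?_ inf_le_left)
  · rw [← le_centralizer_iff]
    refine sup_le ?_ ?_
    · rw [le_centralizer_iff]
      exact inf_le_right.trans H.OW
    · rw [le_centralizer_iff]
      exact inf_le_left.trans H.QL
  · exact (inf_le_inf_left O (centralizer_le (SetLike.coe_subset_coe.2 (le_sup_right : L ≤ W ⊔ L)))).trans H.CL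

/-- **`Q ∩ O₂(Y)` is normal in `Y`.** -/
theorem pi : Y ≤ normalizer ((Q ⊓ O : Subgroup G) : Set G) := by
  rw [H.pi_eq]
  intro y hy
  rw [mem_normalizer_iff_cj, cj_inf, cj_centralizer, cj_eq_of_mem_normalizer (H.YO hy),
    cj_eq_of_mem_normalizer (H.norm hy)]

/-- the Sylow 2-subgroup of `⟨Q^Y⟩` centralises `L` modulo `F` -/
theorem comm_syl {k v : G} (hk : k ∈ cl Q Y ⊓ B) (hv : v ∈ L) : k * v * k⁻¹ * v⁻¹ ∈ F := by
  have hOQ : ∀ q ∈ Q, q ∈ normalizer (O : Set G) := fun q hq => H.YO (H.QY hq)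
  obtain ⟨q, hq, o, ho, rfl⟩ : ∃ q ∈ Q, ∃ o ∈ O, q * o = k := by
    have h1 : k ∈ Q ⊔ O := H.KB hk
    exact mem_sup_of_normalizer_le hOQ h1
  have ho' : o ∈ cl Q Y := by
    have h1 := mul_mem (inv_mem (le_cl Q Y hq)) hk.1
    have e : q⁻¹ * (q * o) = o := by group
    rwa [e] at h1
  have h1 : o * v * o⁻¹ * v⁻¹ ∈ F := H.WΛ ⟨H.comm_W ho' (mem_sup_right hv), H.LO o ho v hv⟩
  have h2 := (mem_normalizer_iff.1 (H.YF (H.QY hq)) _).1 h1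
  have h3 : q * v⁻¹ = v⁻¹ * q := (mem_centralizer_iff.1 (H.QL hq) _ (inv_mem hv)).symm
  have e : q * o * v * (q * o)⁻¹ * v⁻¹ = q * (o * v * o⁻¹ * v⁻¹) * q⁻¹ := by
    calc q * o * v * (q * o)⁻¹ * v⁻¹ = q * (o * v * o⁻¹) * (q⁻¹ * v⁻¹) := by group
      _ = q * (o * v * o⁻¹) * (v⁻¹ * q⁻¹) := by
          have h4 : q⁻¹ * v⁻¹ = v⁻¹ * q⁻¹ := by
            have h5 : q⁻¹ * (q * v⁻¹) * q⁻¹ = q⁻¹ * (v⁻¹ * q) * q⁻¹ := by rw [h3]
            have h6 : q⁻¹ * (q * v⁻¹) * q⁻¹ = v⁻¹ * q⁻¹ := by group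
            have h7 : q⁻¹ * (v⁻¹ * q) * q⁻¹ = q⁻¹ * v⁻¹ := by group
            rw [h6, h7] at h5
            exact h5.symm
          rw [h4]
      _ = _ := by group
  rw [e]
  exact h2

/-- `[X, ⟨Q^Y⟩] ≤ F` -/
theorem comm_F {k v : G} (hk : k ∈ cl Q Y) (hv : v ∈ X) : k * v * k⁻¹ * v⁻¹ ∈ F := by
  have hvL : v ∈ L := H.XL hv
  have hvA : v ∈ A := H.LA hvL
  have hY : cl Q Y ≤ Y := H.cl_Y
  have hc : ∀ x ∈ Y, ∀ a ∈ A, x * a * x⁻¹ ∈ A → a⁻¹ * x * a * x⁻¹ = x * a * x⁻¹ * a⁻¹ := by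
    intro x _ a ha h1
    have h2 := H.Aab _ (inv_mem ha) _ h1
    calc a⁻¹ * x * a * x⁻¹ = a⁻¹ * (x * a * x⁻¹) := by group
      _ = _ := h2
  have hkA : ∀ x ∈ cl Q Y, x * v * x⁻¹ ∈ A := by
    intro x hx
    have h1 := H.WA (H.comm_W hx (mem_sup_right hvL))
    have e : x * v * x⁻¹ = (x * v * x⁻¹ * v⁻¹) * v := by group
    rw [e]
    exact mul_mem h1 hvA
  have hodd : Odd ((cl Q Y ⊓ B).relIndex (cl Q Y)) := by
    have h1 := NO3b.UMethod.not_dvd_inf H.syl.1 (syl_not_dvd H.syl) hY (le_normalizer_cl Q Y)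
    exact Nat.not_even_iff_odd.1 fun h2 => h1 h2.two_dvd
  obtain ⟨w, hw, hx⟩ := BTwo.Avg.avg (X := cl Q Y) (P := cl Q Y ⊓ B) (Y := W) (D := F) (c := v) inf_le_left hodd H.FW
    (fun x hx y hy => (mem_normalizer_iff.1 (H.YW (hY hx)) y).1 hy)
    (fun x hx y hy => (mem_normalizer_iff.1 (H.YF (hY hx)) y).1 hy)
    (fun x hx y hy => by
      rw [H.Aab x (H.WA hx) y (H.WA (H.FW hy)), mul_inv_cancel_right]
      exact hy)
    (fun y hy => by rw [H.Asq y (H.WA hy)]; exact one_mem _)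
    (fun x hx => by
      rw [hc x (hY hx) v hvA (hkA x hx)]
      exact H.comm_W hx (mem_sup_right hvL))
    (fun x hx => by
      rw [hc x (hY hx.1) v hvA (hkA x hx.1)]
      exact H.comm_syl hx hvL)
  -- `[v w, x] ≡ [v, x] [w, x]`
  have key : ∀ x ∈ cl Q Y, x * v * x⁻¹ * v⁻¹ ∈ F → x * w * x⁻¹ * w⁻¹ ∈ F := by
    intro x hx1 h1
    have h2 := hx x hx1
    have hwx : x * w * x⁻¹ ∈ A := H.WA ((mem_normalizer_iff.1 (H.YW (hY hx1)) w).1 hw)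
    have h3 : (v * w)⁻¹ * x * (v * w) * x⁻¹ = (x * v * x⁻¹ * v⁻¹) * (x * w * x⁻¹ * w⁻¹) := by
      have h4 := H.Aab _ (inv_mem (H.WA hw)) _ (mul_mem (mul_mem (inv_mem hvA) (hkA x hx1)) hwx)
      have h5 := H.Aab _ (inv_mem hvA) _ (hkA x hx1)
      calc (v * w)⁻¹ * x * (v * w) * x⁻¹ = w⁻¹ * (v⁻¹ * (x * v * x⁻¹) * (x * w * x⁻¹)) := by group
        _ = v⁻¹ * (x * v * x⁻¹) * (x * w * x⁻¹) * w⁻¹ := h4
        _ = x * v * x⁻¹ * v⁻¹ * (x * w * x⁻¹) * w⁻¹ := by rw [h5]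
        _ = _ := by group
    rw [h3] at h2
    exact (Subgroup.mul_mem_cancel_left _ h1).1 h2
  have hwF : w ∈ F := by
    refine H.hfix w hw (fun q hq => key q (le_cl Q Y hq) ?_) (key h H.hK ?_)
    · have h1 : q * v = v * q := (mem_centralizer_iff.1 (H.QL hq) v hvL).symm
      rw [h1, mul_inv_cancel_right, mul_inv_cancel]
      exact one_mem _
    · rw [H.hX v hv, mul_inv_cancel_right, mul_inv_cancel]
      exact one_mem _
  have h2 := hx k hk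
  have hwx : k * w * k⁻¹ ∈ F := (mem_normalizer_iff.1 (H.YF (hY hk)) w).1 hwF
  have h5 := H.Aab _ (inv_mem hvA) _ (hkA k hk)
  have e : (v * w)⁻¹ * k * (v * w) * k⁻¹ = w⁻¹ * (k * v * k⁻¹ * v⁻¹) * (k * w * k⁻¹) := by
    calc (v * w)⁻¹ * k * (v * w) * k⁻¹ = w⁻¹ * (v⁻¹ * (k * v * k⁻¹)) * (k * w * k⁻¹) := by group
      _ = _ := by rw [h5]
  rw [e] at h2
  have h3 := (Subgroup.mul_mem_cancel_right _ hwx).1 h2
  exact (Subgroup.mul_mem_cancel_left _ (inv_mem hwF)).1 h3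

/-- **Split: `⟨Q^Y⟩` centralises `X`.** -/
theorem cent (hF : F = ⊥) : cl Q Y ≤ centralizer (X : Set G) := by
  intro k hk
  rw [mem_centralizer_iff]
  intro v hv
  have h1 := H.comm_F hk hv
  rw [hF, mem_bot] at h1
  have h2 : k * v * k⁻¹ * v⁻¹ * (v * k) = k * v := by group
  rw [h1, one_mul] at h2
  exact h2

/-- `Y = ⟨Q^Y⟩ B` ==> `O²(Y) ≤ ⟨Q^Y⟩` -/
theorem odd_le (hYB : Y ≤ cl Q Y ⊔ B) : oddGen Y ≤ cl Q Y :=
  Cfsg.Agent.MinSimple.VModule.oddGen_le_of_sup (le_normalizer_cl Q Y) hYB H.syl.1 H.cl_Y H.syl.2.1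

/-- **`O²(Y)` centralises `X`** (nonsplit blocks included). -/
theorem cent_odd (hYB : Y ≤ cl Q Y ⊔ B) (hF : oddGen Y ≤ centralizer (F : Set G)) :
    oddGen Y ≤ centralizer (X : Set G) := by
  rw [Cfsg.Agent.MinSimple.VModule.oddGen_def, closure_le]
  rintro k ⟨hk, ho⟩
  have hk' : k ∈ oddGen Y := mem_oddGen hk ho
  change k ∈ centralizer (X : Set G)
  rw [mem_centralizer_iff]
  intro v hv
  have h1 := H.comm_F (H.odd_le hYB hk') hv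
  set f := k * v * k⁻¹ * v⁻¹ with hf
  have hkf : k * f = f * k := (mem_centralizer_iff.1 (hF hk') f h1).symm
  have hff : f * f = 1 := H.Asq f (H.WA (H.FW h1))
  have e0 : k * v * k⁻¹ = f * v := by rw [hf]; group
  have key : ∀ n : ℕ, k ^ n * v * (k ^ n)⁻¹ = f ^ n * v := by
    intro n
    induction n with
    | zero => simp
    | succ n ih =>
      have hkn : k * f ^ n = f ^ n * k := (Commute.pow_right (show Commute k f from hkf) n)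
      calc k ^ (n + 1) * v * (k ^ (n + 1))⁻¹ = k * (k ^ n * v * (k ^ n)⁻¹) * k⁻¹ := by rw [pow_succ']; group
        _ = k * f ^ n * v * k⁻¹ := by rw [ih]; group
        _ = f ^ n * (k * v * k⁻¹) := by rw [hkn]; group
        _ = _ := by rw [e0, ← mul_assoc, ← pow_succ]
  have h2 := key (orderOf k)
  rw [pow_orderOf_eq_one] at h2
  obtain ⟨m, hm⟩ := ho
  have h3 : f ^ orderOf k = f := by
    rw [hm, pow_succ, pow_mul, pow_two, hff, one_pow, one_mul]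
  rw [h3] at h2
  have h4 : f = 1 := by
    have e : (1 : G) * v * 1⁻¹ = v := by group
    rw [e] at h2
    calc f = f * v * v⁻¹ := by group
      _ = v * v⁻¹ := by rw [← h2]
      _ = 1 := by group
  rw [h4, one_mul] at e0
  calc v * k = k * v * k⁻¹ * k := by rw [e0]
    _ = k * v := by group

end One

end Cfsg.Agent.Omega.NO3S.WY.Tor
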