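import Cfsg.Agent.Mrg.Omega.NO3S.WY.Tor.Frame
import Cfsg.Agent.Mrg.Omega.NO3S.WY.Tor.Lit
import Cfsg.Agent.Mrg.Omega.NO3b.EZeroBase
import Cfsg.Agent.PLocal.OffenderStep


/-!
# THEOREM TOR, (2+) over the frame: `W^g = W`

* `TY.Syl_B` : `B` is a Sylow 2-subgroup of `Y`; `TY.le_comm` : `W = [W, O²(Y)]` (`F = 1`);
* `Cx.cj_VV` : `g ∈ N(Q)`, `V_j^g = V_j`: `V_(j)^g = V_(j)`;
* `Cx.odd_index` : `C_B(V_(j))` has odd index in every `N ≥ C_B(V_(j))` centralising `V_(j)`;
* `TY.cj_W_eq` : **(2+)**.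
-/

set_option autoImplicit false
set_option linter.unusedSectionVars false

namespace Cfsg.Agent.Omega.NO3S.WY.Tor

open Subgroup Cfsg Cfsg.Agent.ZN Cfsg.Agent.ZN.ChoiceBase
open Cfsg.Agent.ZN.ChoiceSit (Syl syl_not_dvd exists_syl)
open Cfsg.Agent.MinSimple.MinParabolic (IsMinPar)
open Cfsg.Agent.MinSimple.VModule (oddGen oddGen_le le_normalizer_oddGen)
open scoped commutatorElement

universe u

variable {G : Type u} [Group G] [Finite G] {ι : Type} {S B Q M X L : Subgroup G} {V : ι → Subgroup G} {z : ι → G}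
  {𝓦 : Set (Subgroup G)} {j : ι} {Y W F : Subgroup G}

namespace UniF

theorem le_VV {i : ι} (h : i ≠ j) : V i ≤ VV V j := le_iSup₂_of_le i h le_rfl

theorem QS (c : Cx S B Q M X L V z) : Q ≤ S := c.QB.trans c.BS

/-- `S` normalises `Q` -/
theorem SQ (c : Cx S B Q M X L V z) {s : G} (hs : s ∈ S) : s ∈ normalizer (Q : Set G) := by
  rw [mem_normalizer_iff_cj]
  refine c.wc s ?_
  rintro _ ⟨q, hq, rfl⟩
  exact S.mul_mem (S.mul_mem hs (QS c hq)) (S.inv_mem hs)

theorem V_ne (c : Cx S B Q M X L V z) (i : ι) : V i ≠ ⊥ := by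
  intro h
  have := c.cV i
  rw [h, Subgroup.card_bot] at this
  omega

theorem V_inj (c : Cx S B Q M X L V z) {i k : ι} (h : V i = V k) : i = k := by
  by_contra hne
  have h1 : V i ≤ VV V i := h.le.trans (le_VV (Ne.symm hne))
  have h2 := c.ind i
  rw [inf_eq_left.2 h1] at h2
  exact V_ne c i h2

/-- `B` normalises `V_i` -/
theorem cj_V (c : Cx S B Q M X L V z) {b : G} (hb : b ∈ B) (i : ι) : cj b (V i) = V i := by
  obtain ⟨k, hk⟩ := c.perm b (SQ c (c.BS hb)) i
  rw [hk]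
  by_contra hne
  have h1 : z i ∈ V k := by
    rw [← hk, mem_cj]
    have := c.Bz b hb i
    rw [show b⁻¹ * z i * b = b⁻¹ * (z i * b) by group, ← this, inv_mul_cancel_left]
    exact c.zV i
  have h2 : z i ∈ VV V i := le_VV (fun h => hne (by rw [h])) h1
  have h3 : z i ∈ V i ⊓ VV V i := ⟨c.zV i, h2⟩
  rw [c.ind i] at h3
  exact c.z1 i (by simpa using h3)

/-- `g ∈ N(Q)`, `V_j^g = V_j`: `V_(j)^g = V_(j)` -/
theorem cj_VV (c : Cx S B Q M X L V z) {g : G} (hg : g ∈ normalizer (Q : Set G)) (hj : cj g (V j) = V j) :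
    cj g (VV V j) = VV V j := by
  refine Subgroup.eq_of_le_of_card_ge ?_ (card_cj _ _).ge
  rw [cj_le_iff]
  refine iSup₂_le fun i hi => ?_
  rw [← cj_le_iff]
  obtain ⟨k, hk⟩ := c.perm g hg i
  rw [hk]
  refine le_VV fun h => hi ?_
  subst h
  have h1 : cj g (V i) = cj g (V k) := hk.trans hj.symm
  have h2 := congrArg (cj g⁻¹) h1
  rw [cj_inv_cj, cj_inv_cj] at h2
  exact V_inj c h2

theorem B_norm_VV (c : Cx S B Q M X L V z) : B ≤ normalizer (VV V j : Set G) := fun b hb =>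
  mem_normalizer_iff_cj.2 (cj_VV c (SQ c (c.BS hb)) (cj_V c hb j))

/-- `B` is a Sylow 2-subgroup of every `N ≥ B` centralising the `z_i`, `i ≠ j` -/
theorem syl_of (c : Cx S B Q M X L V z) {N : Subgroup G} (h1 : B ≤ N)
    (h2 : ∀ y ∈ N, ∀ i, i ≠ j → y * z i = z i * y) : Syl B N :=
  ⟨h1, c.S2.to_le c.BS, fun T hT hT2 hBT => le_antisymm (c.sylB j T hT2 hBT fun i hi x hx => h2 x (hT hx) i hi) hBT⟩

/-- `C_B(V_(j))` has odd index in `N`. -/
theorem odd_index (c : Cx S B Q M X L V z) {N : Subgroup G} (hN : N ≤ centralizer (VV V j : Set G))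
    (hB : B ⊓ centralizer (VV V j : Set G) ≤ N) : ¬ 2 ∣ (B ⊓ centralizer (VV V j : Set G)).relIndex N := by
  set C := centralizer (VV V j : Set G) with hC
  have hBC : B ≤ normalizer (C : Set G) := by
    intro b hb
    rw [mem_normalizer_iff_cj, hC, cj_centralizer, cj_eq_of_mem_normalizer (B_norm_VV c hb)]
  have hz : ∀ y ∈ B ⊔ C, ∀ i, i ≠ j → y * z i = z i * y := by
    intro y hy i hi
    have h1 : B ⊔ C ≤ centralizer ((zpowers (z i) : Subgroup G) : Set G) := by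
      refine sup_le (fun b hb => ?_) (fun x hx => ?_)
      · rw [mem_centralizer_iff]
        rintro _ ⟨n, rfl⟩
        exact ((show Commute b (z i) from c.Bz b hb i).zpow_right n).eq.symm
      · rw [mem_centralizer_iff]
        rintro _ ⟨n, rfl⟩
        exact mem_centralizer_iff.1 hx _ (le_VV hi (zpow_mem (c.zV i) n))
    exact (mem_centralizer_iff.1 (h1 hy) (z i) (mem_zpowers _)).symm
  have hs := syl_not_dvd (syl_of c (le_sup_left : B ≤ B ⊔ C) hz)
  -- `|C : B ∩ C| = |BC : B|`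
  have h1 := ZN.Block.card_sup_mul_card_inf hBC
  have h2 := ZN.Block.card_mul_relIndex' (le_sup_left : B ≤ B ⊔ C)
  have h3 := ZN.Block.card_mul_relIndex' (inf_le_right : B ⊓ C ≤ C)
  have h4 : B.relIndex (B ⊔ C) = (B ⊓ C).relIndex C := by
    rw [← h2, ← h3] at h1
    have h5 : (Nat.card B * Nat.card ↥(B ⊓ C)) * B.relIndex (B ⊔ C) =
        (Nat.card B * Nat.card ↥(B ⊓ C)) * (B ⊓ C).relIndex C := by
      calc (Nat.card B * Nat.card ↥(B ⊓ C)) * B.relIndex (B ⊔ C) =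
          Nat.card B * B.relIndex (B ⊔ C) * Nat.card ↥(B ⊓ C) := by ring
        _ = Nat.card B * (Nat.card ↥(B ⊓ C) * (B ⊓ C).relIndex C) := h1
        _ = _ := by ring
    exact Nat.eq_of_mul_eq_mul_left (Nat.mul_pos Nat.card_pos Nat.card_pos) h5
  rw [h4, ← relIndex_mul_relIndex (B ⊓ C) N C hB hN] at hs
  exact fun h => hs (h.mul_right _)

end UniF

open UniF

/-- `B` is a Sylow 2-subgroup of `Y` -/
theorem TY.syl_B (c : Cx S B Q M X L V z) (h : TY S B Q M X V z 𝓦 j Y W F) : Syl B Y :=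
  syl_of c h.min.le h.Yz

/-- `W = [W, O²(Y)]` -/
theorem TY.le_comm (c : Cx S B Q M X L V z) (h : TY S B Q M X V z 𝓦 j Y W F) (hF : F = ⊥) :
    W ≤ ⁅W, oddGen Y⁆ := by
  have hY : Y ≤ normalizer ((⁅W, oddGen Y⁆ : Subgroup G) : Set G) := by
    intro y hy
    rw [mem_normalizer_iff_cj]
    show (⁅W, oddGen Y⁆ : Subgroup G).map (MulAut.conj y).toMonoidHom = _
    rw [map_commutator]
    congr 1
    · exact cj_eq_of_mem_normalizer (h.YW hy)
    · exact cj_eq_of_mem_normalizer (le_normalizer_oddGen Y hy)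
  refine h.gen _ ?_ hY
  have hDW : ⁅W, oddGen Y⁆ ≤ W := by
    rw [commutator_comm]
    exact commutator_le.2 fun k hk w hw => by
      rw [commutatorElement_def]
      exact W.mul_mem ((mem_normalizer_iff.1 (h.YW (oddGen_le Y hk)) w).1 hw) (W.inv_mem hw)
  have hW2 : IsPGroup 2 W := c.S2.to_le (h.WX.trans c.XS)
  have zn : ∀ {y : G}, y * z j = z j * y → y ∈ normalizer ((zpowers (z j) : Subgroup G) : Set G) := by
    intro y e
    refine centralizer_le_normalizer _ (mem_centralizer_iff.2 ?_)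
    rintro _ ⟨n, rfl⟩
    exact ((show Commute y (z j) from e).zpow_right n).eq.symm
  -- `D ≠ 1`
  have hne : ⁅W, oddGen Y⁆ ≠ ⊥ := by
    intro h0
    have h1 : oddGen Y ≤ centralizer (W : Set G) := by
      rw [commutator_comm, commutator_eq_bot_iff_le_centralizer] at h0
      exact h0
    have h2 : Y ≤ normalizer ((zpowers (z j) : Subgroup G) : Set G) := by
      rw [← NO3b.EZero.oddGen_sup_syl (h.syl_B c)]
      refine sup_le (fun y hy => ?_) (fun y hy => ?_)
      · exact zn ((mem_centralizer_iff.1 (h1 hy) (z j) (h.VW (c.zV j))).symm)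
      · exact zn (c.Bz y hy j)
    have h3 := h.gen _ (mem_zpowers (z j)) h2
    have h4 : Nat.card W ≤ Nat.card (zpowers (z j)) := Nat.card_mono (Set.toFinite _) h3
    have h5 : Nat.card (zpowers (z j)) ≤ 2 := by
      rw [Nat.card_zpowers]
      refine Nat.le_of_dvd (by norm_num) (orderOf_dvd_of_pow_eq_one ?_)
      rw [pow_two]
      exact c.Xs _ (h.WX (h.VW (c.zV j)))
    have h6 := h.cW
    have h7 : 0 < Nat.card F := Nat.card_pos
    omega
  -- a `B`-fixed element of `D`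
  have h8 := PLocal.OffenderStep.inf_centralizer_ne_bot (⁅W, oddGen Y⁆) B
    (hW2.to_le hDW) (c.S2.to_le c.BS) (h.min.le.trans hY) hne
  obtain ⟨⟨d, hd⟩, hd1⟩ := Subgroup.ne_bot_iff_exists_ne_one.1 h8
  have hd1' : d ≠ 1 := fun e => hd1 (Subtype.ext e)
  have hdB : ∀ b ∈ B, b * d = d * b := fun b hb => mem_centralizer_iff.1 hd.2 b hb
  have hdW : d ∈ W := hDW hd.1
  have hdV : d ∈ V j := by
    have := h.cWQ d hdW fun q hq => hdB q (c.QB hq)
    rwa [hF, sup_bot_eq] at this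
  -- `C_{V_j}(t_j) = ⟨d⟩`
  obtain ⟨t, ht, -, v, hv, htv⟩ := c.t j
  set H := V j ⊓ centralizer ({t} : Set G) with hH
  have hlt : H < V j := by
    refine lt_of_le_of_ne inf_le_left fun e => htv ?_
    have : v ∈ H := e.symm ▸ hv
    exact mem_centralizer_singleton_iff.1 this.2 |>.symm ▸ rfl
  have hdvd : Nat.card H ∣ 4 := by
    rw [← c.cV j]; exact Subgroup.card_dvd_of_le inf_le_left
  have hlt' : Nat.card H < 4 := by
    rw [← c.cV j]
    exact lt_of_le_of_ne (Nat.card_mono (Set.toFinite _) inf_le_left) fun e =>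
      hlt.ne (Subgroup.eq_of_le_of_card_ge inf_le_left e.ge)
  have hle2 : Nat.card H ≤ 2 := by
    have h9 : Nat.card H ∣ 4 := hdvd
    have h10 : Nat.card H ≠ 3 := by intro e; rw [e] at h9; omega
    omega
  have hdH : zpowers d ≤ H := by
    rw [zpowers_le]
    exact ⟨hdV, mem_centralizer_singleton_iff.2 (hdB t ht).symm⟩
  have hd2 : Nat.card (zpowers d) = 2 := by
    rw [Nat.card_zpowers]
    refine orderOf_eq_prime ?_ hd1'
    rw [pow_two]; exact c.Xs _ (h.WX hdW)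
  have hE : zpowers d = H := Subgroup.eq_of_le_of_card_ge hdH (hd2.symm ▸ hle2)
  have hzH : z j ∈ H := ⟨c.zV j, mem_centralizer_singleton_iff.2 (c.Bz t ht j).symm⟩
  rw [← hE] at hzH
  exact (zpowers_le.2 hd.1 : zpowers d ≤ _) hzH

/-- **(2+)** -/
theorem TY.cj_W_eq (c : Cx S B Q M X L V z) (h : TY S B Q M X V z 𝓦 j Y W F) (hF : F = ⊥)
    (hc : oddGen Y ≤ centralizer (VV V j : Set G))
    (uni : ∀ g ∈ M, g ∈ normalizer (Q : Set G) → cj g (V j) = V j → cj g W ≤ W ⊔ L) {g : G} (hg : g ∈ M)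
    (hgQ : g ∈ normalizer (Q : Set G)) (hgV : cj g (V j) = V j) : cj g W = W := by
  have hLX : L ≤ X := c.LX
  have hVL : ∀ i, V i ≤ L := fun i => by rw [c.eL]; exact le_iSup V i
  have hVVL : VV V j ≤ L := iSup₂_le fun i _ => hVL i
  have hLe : L ≤ W ⊔ VV V j := by
    rw [c.eL]
    refine iSup_le fun i => ?_
    by_cases hi : i = j
    · rw [hi]; exact h.VW.trans le_sup_left
    · exact (le_VV hi).trans le_sup_right
  have hWX : W ⊔ VV V j ≤ X := sup_le h.WX (hVVL.trans hLX)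
  -- `W ∩ V_(j) = 1`
  have hinf : W ⊓ VV V j = ⊥ := by
    rw [eq_bot_iff]
    rintro w ⟨hw, hw'⟩
    have h1 := h.cWQ w hw fun q hq => c.cQL q hq w (hVVL hw')
    rw [hF, sup_bot_eq] at h1
    have h2 : w ∈ V j ⊓ VV V j := ⟨h1, hw'⟩
    rw [c.ind j] at h2
    exact h2
  have hinf2 : cj g W ⊓ VV V j = ⊥ := by
    conv_lhs => rw [← cj_VV c hgQ hgV]
    rw [← cj_inf, hinf]
    exact Subgroup.map_bot _
  have hKW : oddGen Y ≤ normalizer (W : Set G) := (oddGen_le Y).trans h.YW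
  have hBs : B ⊓ centralizer (VV V j : Set G) ≤ centralizer (VV V j : Set G) := inf_le_right
  have hK2 : cj g (oddGen Y) ≤ centralizer (VV V j : Set G) := by
    have := cj_mono g hc
    rwa [cj_centralizer, cj_VV c hgQ hgV] at this
  refine UniEq.eq_of_le (Lam := VV V j) (K := oddGen Y) (K₂ := cj g (oddGen Y))
    (Bs := B ⊓ centralizer (VV V j : Set G)) (fun x hx y hy => c.Xc x (hWX hx) y (hWX hy))
    (fun x hx => by rw [pow_two]; exact c.Xs x (hWX hx)) hinf ?_ (card_cj _ _) hinf2 hc hK2 hBs hKW ?_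
    (inf_le_left.trans (h.min.le.trans h.YW)) (h.le_comm c hF) ?_ ?_
  · exact (uni g hg hgQ hgV).trans (sup_le le_sup_left hLe)
  · have := cj_mono g hKW
    rwa [cj_normalizer] at this
  · have := cj_mono g (h.le_comm c hF)
    refine this.trans ?_
    show (⁅W, oddGen Y⁆ : Subgroup G).map (MulAut.conj g).toMonoidHom ≤ _
    rw [map_commutator]
  · exact odd_index c (sup_le (sup_le hc hK2) hBs) le_sup_right

end Cfsg.Agent.Omega.NO3S.WY.Tor
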