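import Cfsg.Agent.Mrg.Omega.NO3S.WY.Tor.Frame
import Cfsg.Agent.Mrg.Omega.NO3S.WY.Tor.Lit
import Cfsg.Agent.Mrg.Omega.EK3.Base
import Cfsg.Agent.Mrg.Omega.NO3S.WY.Tor.TYOf
import Cfsg.Agent.Mrg.Omega.NO3S.WY.Tor.Base
import Cfsg.Agent.Mrg.Omega.NO3S.WY.OddKerA
import Cfsg.Agent.Mrg.Omega.NO3S.WY.TorFive
import Cfsg.Agent.Mrg.Omega.NO3S.Level.Cut
import Cfsg.Agent.Mrg.Omega.S5.Plug
import Cfsg.Agent.Mrg.Omega.NTwo.Core
import Cfsg.Agent.ZN.ChoiceBase
import Cfsg.Agent.Mrg.Omega.NO3S.WY.Tor.End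
import Cfsg.Agent.Mrg.Omega.NO3S.WY.Tor.UniF
import Cfsg.Agent.Mrg.Omega.NO3S.WY.Tor.UniB

section


/-!
# THEOREM TOR: the frame `Cx` over `MulL`

`MulL S P B ZJ L W Z C A 2`, `Z i = {1, z i}`, `WQ S P B Y`, `Md S P Y V`.

* `exists_z` : the generators `z i`;
* `perm_W` : `N_G(Q)` permutes the `W i` (from the fusion in `Z_J`: `Bg.fus`);
* `syl_Lam` : a 2-group `T ≥ B` which centralises all `z i`, `i ≠ j`, lies in `B`;
* `exists_t`, `exists_d`;
* `cx_of` : `Cx S B (o2 P) (GX S P Y) V (zl S P) W z`; `LO` : `V_P ≤ O₂(C_G(z i))`.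
-/

set_option autoImplicit false
set_option linter.unusedSectionVars false
set_option linter.dupNamespace false

namespace Cfsg.Agent.Omega.NO3S.WY.Tor

open Subgroup Cfsg Cfsg.Agent.ZN Cfsg.Agent.ZN.ChoiceBase Cfsg.Agent.Omega.MinPar Cfsg.Agent.Omega.Frame
open Cfsg.Agent.ZN.ChoiceSit (Syl)
open Cfsg.Agent.Omega.NO3S.Level
open Cfsg.Agent.Omega.NO3S.RedC
open Cfsg.Agent.Omega.NO3S.EThree.Frame (Bg Fg)
open Cfsg.Agent.Omega.Node.MulX (MulL)

universe u

variable {G : Type u} [Group G] [Finite G]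

section bg

variable {S : Sylow 2 G} {P B ZJ : Subgroup G} {ι : Type} {L W Z C : ι → Subgroup G}

theorem exists_z (h : Bg S P B ZJ L W Z C 2) : ∃ z : ι → G, ∀ i x, x ∈ Z i ↔ x = 1 ∨ x = z i := by
  have key : ∀ i, ∃ y : G, ∀ x, x ∈ Z i ↔ x = 1 ∨ x = y := by
    intro i
    obtain ⟨y, hy, hy1⟩ : ∃ y ∈ Z i, y ≠ 1 := by
      by_contra hcon
      push Not at hcon
      exact h.Z_ne i ((eq_bot_iff_forall _).2 hcon)
    have h2 : y ^ 2 = 1 := h.fr.Vsq (h.fr.ZV i hy)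
    have e : zpowers y = Z i := by
      refine Subgroup.eq_of_le_of_card_ge (by rwa [zpowers_le]) ?_
      rw [h.fr.cardZ, Nat.card_zpowers, orderOf_eq_prime h2 hy1]
    refine ⟨y, fun x => ⟨fun hx => ?_, ?_⟩⟩
    · rw [← e, mem_zpowers_iff] at hx
      obtain ⟨n, rfl⟩ := hx
      rcases Int.even_or_odd' n with ⟨m, rfl | rfl⟩
      · left
        rw [zpow_mul]
        have : y ^ (2 : ℤ) = 1 := by exact_mod_cast h2
        rw [this, one_zpow]
      · right
        rw [zpow_add, zpow_mul]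
        have : y ^ (2 : ℤ) = 1 := by exact_mod_cast h2
        rw [this, one_zpow, one_mul, zpow_one]
    · rintro (rfl | rfl)
      · exact one_mem _
      · exact hy
  choose z hz using key
  exact ⟨z, hz⟩

variable (h : Bg S P B ZJ L W Z C 2) {z : ι → G} (hz : ∀ i x, x ∈ Z i ↔ x = 1 ∨ x = z i)
include h hz

theorem Z_eq (i : ι) : Z i = zpowers (z i) := by
  symm
  refine Subgroup.eq_of_le_of_card_ge ?_ ?_
  · rw [zpowers_le]
    exact EK3.z_mem_Z h hz i
  · rw [h.fr.cardZ, Nat.card_zpowers, orderOf_eq_prime (EK3.z_sq h hz i) (EK3.z_ne h hz i)]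

theorem zW (i : ι) : z i ∈ W i := (h.fr.blk i).ZV (EK3.z_mem_Z h hz i)

theorem cardW (i : ι) : Nat.card (W i) = 4 := by
  rw [(h.fr.blk i).card, h.fr.cardZ]

/-- `W i = {1, z, v, vz}` for every `v ∈ W i - Z i` -/
theorem four (i : ι) {v : G} (hv : v ∈ W i) (hvZ : v ∉ Z i) {x : G} (hx : x ∈ W i) :
    x = 1 ∨ x = z i ∨ x = v ∨ x = v * z i := by
  have hzW := zW h hz i
  have hsq := fun {y : G} (hy : y ∈ W i) => h.fr.Vsq (h.fr.WV i hy)
  have hz1 := EK3.z_ne h hz i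
  have hv1 : v ≠ 1 := fun e => hvZ (e ▸ one_mem _)
  have hvz : v ≠ z i := fun e => hvZ (e ▸ EK3.z_mem_Z h hz i)
  have hzz : z i * z i = 1 := by rw [← pow_two]; exact hsq hzW
  by_contra hcon
  push Not at hcon
  obtain ⟨h1, h2, h3, h4⟩ := hcon
  have hfin : (Set.range ![(1 : G), z i, v, v * z i, x]).ncard ≤ 4 := by
    rw [← cardW h hz i]
    refine Set.ncard_le_ncard ?_ (Set.toFinite _)
    rintro _ ⟨j, rfl⟩
    fin_cases j
    · exact one_mem _
    · exact hzW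
    · exact hv
    · exact mul_mem hv hzW
    · exact hx
  have hinj : Function.Injective ![(1 : G), z i, v, v * z i, x] := by
    have hvz1 : v * z i ≠ 1 := fun e => hvz (by
      calc v = v * z i * z i := by rw [mul_assoc, hzz, mul_one]
        _ = z i := by rw [e, one_mul])
    have hvz2 : v * z i ≠ z i := fun e => hv1 (by
      calc v = v * z i * (z i)⁻¹ := by group
        _ = 1 := by rw [e, mul_inv_cancel])
    have hvz3 : v * z i ≠ v := fun e => hz1 (by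
      calc z i = v⁻¹ * (v * z i) := by group
        _ = 1 := by rw [e, inv_mul_cancel])
    intro a b hab
    fin_cases a <;> fin_cases b <;> simp_all [eq_comm]
  rw [Set.ncard_range_of_injective hinj] at hfin
  simp at hfin

/-- the `i`-th component of `c ∈ V_P` can be moved into `Z i` by an element of `P ∩ C(C i)` -/
theorem exists_move (i : ι) {w : G} (hw : w ∈ W i) : ∃ l ∈ P, l ∈ centralizer (C i : Set G) ∧ l * w * l⁻¹ ∈ Z i := by
  by_cases hw1 : w = 1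
  · subst hw1
    exact ⟨1, one_mem _, one_mem _, by simp⟩
  obtain ⟨l, hl, hlc, y, hy, e⟩ := h.tr i w hw hw1
  refine ⟨l⁻¹, inv_mem hl, inv_mem hlc, ?_⟩
  have : l⁻¹ * w * l⁻¹⁻¹ = y := by rw [← e]; group
  rwa [this]

/-- every element of `V_P` is conjugate in `P` to an element of `Z_J` -/
theorem exists_to_ZJ [Finite ι] {c : G} (hc : c ∈ zl (S : Subgroup G) P) : ∃ n ∈ P, n * c * n⁻¹ ∈ ZJ := by
  classical
  have : Fintype ι := Fintype.ofFinite ι
  have key : ∀ s : Finset ι, ∃ n ∈ P, n * c * n⁻¹ ∈ zl (S : Subgroup G) P ∧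
      ∀ i ∈ s, ∃ w ∈ Z i, ∃ d ∈ C i, n * c * n⁻¹ = w * d := by
    intro s
    induction s using Finset.induction_on with
    | empty => exact ⟨1, one_mem _, by simpa using hc, fun i hi => by simp at hi⟩
    | insert j s hj ih =>
      obtain ⟨n, hn, hnV, hns⟩ := ih
      obtain ⟨w, hw, d, hd, e⟩ := h.fr.WC j _ hnV
      obtain ⟨l, hl, hlc, hlw⟩ := exists_move h hz j hw
      have hPV : P ≤ normalizer (zl (S : Subgroup G) P : Set G) := ZN.le_normalizer_zl _ _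
      refine ⟨l * n, mul_mem hl hn, ?_, fun i hi => ?_⟩
      · have e1 : l * n * c * (l * n)⁻¹ = l * (n * c * n⁻¹) * l⁻¹ := by group
        rw [e1]
        exact (mem_normalizer_iff.1 (hPV hl) _).1 hnV
      · have e1 : l * n * c * (l * n)⁻¹ = l * (n * c * n⁻¹) * l⁻¹ := by group
        rcases Finset.mem_insert.1 hi with rfl | hi
        · refine ⟨_, hlw, d, hd, ?_⟩
          rw [e1, e]
          have h3 := mem_centralizer_iff.1 hlc d hd
          calc l * (w * d) * l⁻¹ = l * w * l⁻¹ * (l * d * l⁻¹) := by group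
            _ = l * w * l⁻¹ * d := by rw [← h3]; group
        · have hij : i ≠ j := fun e => hj (e ▸ hi)
          obtain ⟨w', hw', d', hd', e'⟩ := hns i hi
          have hlCi : l * d' * l⁻¹ ∈ C i := by
            obtain ⟨σ, hσ⟩ := h.perm l hl
            have h3 : cj l (W i) = W i := mem_normalizer_iff_cj.1 (centralizer_le_normalizer _
              (centralizer_le (h.fr.WjC j i hij.symm) hlc))
            have h4 : σ i = i := h.W_inj ((hσ i).1.symm.trans h3)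
            have h5 := (hσ i).2
            rw [h4] at h5
            rw [← h5]
            exact ⟨d', hd', rfl⟩
          refine ⟨w', hw', _, hlCi, ?_⟩
          rw [e1, e']
          have h3 := mem_centralizer_iff.1 hlc w' (h.fr.WjC j i hij.symm ((h.fr.blk i).ZV hw'))
          calc l * (w' * d') * l⁻¹ = l * w' * l⁻¹ * (l * d' * l⁻¹) := by group
            _ = w' * (l * d' * l⁻¹) := by rw [← h3]; group
  obtain ⟨n, hn, hnV, hns⟩ := key Finset.univ
  refine ⟨n, hn, (h.fr.mem_ZJ _).2 ⟨hnV, fun b hb => ?_⟩⟩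
  -- `b` fixes the components
  have h1 : b * (n * c * n⁻¹) * b⁻¹ * (n * c * n⁻¹)⁻¹ = 1 := by
    have hbV : b * (n * c * n⁻¹) * b⁻¹ ∈ zl (S : Subgroup G) P :=
      (mem_normalizer_iff.1 (h.bau_norm hb) _).1 hnV
    refine h.fr.C0 _ (mul_mem hbV (inv_mem hnV)) fun i => ?_
    obtain ⟨w, hw, d, hd, e⟩ := hns i (Finset.mem_univ i)
    rw [e]
    have h3 := (h.fr.blk i).cZ b hb w hw
    have h4 := h.fr.BC i b hb d hd
    have h5 : b * (w * d) * b⁻¹ * (w * d)⁻¹ = w * (b * d * b⁻¹ * d⁻¹) * w⁻¹ := by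
      calc b * (w * d) * b⁻¹ * (w * d)⁻¹ = (b * w) * d * b⁻¹ * d⁻¹ * w⁻¹ := by group
        _ = (w * b) * d * b⁻¹ * d⁻¹ * w⁻¹ := by rw [h3]
        _ = w * (b * d * b⁻¹ * d⁻¹) * w⁻¹ := by group
    have h6 : b * d * b⁻¹ * d⁻¹ ∈ C i := mul_mem h4 (inv_mem hd)
    rw [h5, h.fr.Vc (h.fr.WV i ((h.fr.blk i).ZV hw)) (h.fr.CV i h6), mul_assoc, mul_inv_cancel, mul_one]
    exact h6
  calc b * (n * c * n⁻¹) = b * (n * c * n⁻¹) * b⁻¹ * (n * c * n⁻¹)⁻¹ * (n * c * n⁻¹) * b := by group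
    _ = n * c * n⁻¹ * b := by rw [h1, one_mul]

/-- a `G`-conjugate of `z i` in `V_P` lies in some `W j` -/
theorem mem_W_of_conj [Finite ι] {i : ι} {g : G} (hg : g * z i * g⁻¹ ∈ zl (S : Subgroup G) P) :
    ∃ j, g * z i * g⁻¹ ∈ W j := by
  obtain ⟨n, hn, hnJ⟩ := exists_to_ZJ h hz hg
  have e1 : n * (g * z i * g⁻¹) * n⁻¹ = (n * g) * z i * (n * g)⁻¹ := by group
  obtain ⟨j, hj⟩ := h.fus (i := i) (x := n * (g * z i * g⁻¹) * n⁻¹) (g := n * g) hnJ (by
    have : (n * g)⁻¹ * (n * (g * z i * g⁻¹) * n⁻¹) * (n * g) = z i := by group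
    rw [this]
    exact EK3.z_mem_Z h hz i)
  obtain ⟨σ, hσ⟩ := h.perm n⁻¹ (inv_mem hn)
  refine ⟨σ j, ?_⟩
  rw [← (hσ j).1]
  refine ⟨_, (h.fr.blk j).ZV hj, ?_⟩
  simp only [MulEquiv.coe_toMonoidHom, MulAut.conj_apply]
  group

/-- **`N_G(V_P)` permutes the `W i`.** -/
theorem perm_W [Finite ι] {g : G} (hg : g ∈ normalizer (zl (S : Subgroup G) P : Set G)) (i : ι) :
    ∃ j, cj g (W i) = W j := by
  -- every element of `W i` goes into some `W j`
  have key : ∀ w ∈ W i, w ≠ 1 → ∃ j, g * w * g⁻¹ ∈ W j := by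
    intro w hw hw1
    obtain ⟨l, hl, -, y, hy, e⟩ := h.tr i w hw hw1
    have hy1 : y ≠ 1 := fun e1 => hw1 (by rw [← e, e1]; group)
    have hyz : y = z i := EK3.eq_z h hz hy hy1
    subst hyz
    have e1 : g * w * g⁻¹ = (g * l) * z i * (g * l)⁻¹ := by rw [← e]; group
    have h1 : (g * l) * z i * (g * l)⁻¹ ∈ zl (S : Subgroup G) P := by
      rw [← e1]
      exact (mem_normalizer_iff.1 hg _).1 (h.fr.WV i hw)
    rw [e1]
    exact mem_W_of_conj h hz h1
  have hz1 := EK3.z_ne h hz i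
  have hzW := zW h hz i
  obtain ⟨j, hj⟩ := key (z i) hzW hz1
  refine ⟨j, Subgroup.eq_of_le_of_card_ge ?_ (by rw [card_cj, cardW h hz, cardW h hz])⟩
  rintro _ ⟨w, hw, rfl⟩
  change g * w * g⁻¹ ∈ W j
  by_cases hw1 : w = 1
  · rw [hw1]; simp
  by_cases hwz : w = z i
  · rw [hwz]; exact hj
  obtain ⟨m, hm⟩ := key w hw hw1
  obtain ⟨m', hm'⟩ := key (w * z i) (mul_mem hw hzW) (fun e => hwz (by
    have h3 : w = (z i)⁻¹ := by rw [← mul_eq_one_iff_eq_inv]; exact e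
    rw [h3, inv_eq_iff_mul_eq_one, ← pow_two]
    exact EK3.z_sq h hz i))
  have hinj : ∀ x : G, x ≠ 1 → g * x * g⁻¹ ≠ 1 := fun x hx e => hx (conj_eq_one_iff.1 e)
  by_cases hmj : m = j
  · rw [← hmj]; exact hm
  exfalso
  have e2 : g * (w * z i) * g⁻¹ = (g * w * g⁻¹) * (g * z i * g⁻¹) := by group
  rw [e2] at hm'
  by_cases h3 : m' = m
  · -- then `g z g⁻¹ ∈ W m ∩ W j`
    subst h3
    have h4 : g * z i * g⁻¹ ∈ W m' := by
      have := mul_mem (inv_mem hm) hm'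
      rwa [inv_mul_cancel_left] at this
    have h5 : g * z i * g⁻¹ ∈ W m' ⊓ W j := ⟨h4, hj⟩
    rw [h.W_disj hmj, mem_bot] at h5
    exact hinj _ hz1 h5
  · -- `g w g⁻¹ ∈ W m`, the other two in `C m`
    have h4 : (g * w * g⁻¹) * (g * z i * g⁻¹) ∈ C m := h.fr.WjC m m' (Ne.symm h3) hm'
    have h5 : g * z i * g⁻¹ ∈ C m := h.fr.WjC m j hmj hj
    have h6 : g * w * g⁻¹ ∈ C m := by
      have := mul_mem h4 (inv_mem h5)
      rwa [mul_inv_cancel_right] at this
    have h7 : g * w * g⁻¹ ∈ W m ⊓ C m := ⟨hm, h6⟩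
    rw [h.fr.dir m, mem_bot] at h7
    exact hinj _ hw1 h7

/-- **`B` is a Sylow 2-subgroup of `C_G(z_i : i ≠ j)`.** -/
theorem syl_Lam [Finite ι] (j : ι) {T : Subgroup G} (hT : IsPGroup 2 T) (hB : B ≤ T)
    (hc : ∀ i, i ≠ j → ∀ x ∈ T, x * z i = z i * x) : T ≤ B := by
  have hTn := h.le_norm_B hT hB
  have h1 : ∀ x ∈ T, x * z j = z j * x := by
    intro x hx
    obtain ⟨m, hm⟩ := EK3.cj_Z h hz (hTn hx) j
    by_cases hmj : m = j
    · rw [hmj] at hm
      exact mul_inv_eq_iff_eq_mul.1 hm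
    exfalso
    apply hmj
    have h2 := hc m hmj x hx
    apply EK3.z_inj h hz
    have h3 : x * z m * x⁻¹ = z m := by rw [h2]; group
    have h4 : x * z j * x⁻¹ = x * z m * x⁻¹ := hm.trans h3.symm
    have h5 : z j = z m := by
      have := congrArg (fun t => x⁻¹ * t * x) h4
      simpa [mul_assoc] using this
    exact h5.symm
  have h2 : T ≤ centralizer (ZJ : Set G) := fun x hx => EK3.mem_cent_ZJ h hz fun i => by
    by_cases hi : i = j
    · rw [hi]; exact h1 x hx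
    · exact hc i hi x hx
  exact (h.syl_B.2.2 T h2 hT hB).le

theorem exists_W_not_Z (i : ι) : ∃ v ∈ W i, v ∉ Z i := by
  by_contra hcon
  push Not at hcon
  have h1 := Subgroup.card_le_of_le (show W i ≤ Z i from hcon)
  rw [cardW h hz, h.fr.cardZ] at h1
  omega

theorem exists_t (i : ι) : ∃ t ∈ B, (∀ j, j ≠ i → ∀ v ∈ W j, t * v = v * t) ∧ ∃ v ∈ W i, t * v ≠ v * t := by
  obtain ⟨v, hv, hvZ⟩ := exists_W_not_Z h hz i
  obtain ⟨t, ht, htc, e⟩ := h.root i v hv hvZ (z i) (EK3.z_mem_Z h hz i)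
  refine ⟨t, ht, fun j hj w hw => (mem_centralizer_iff.1 htc w (h.fr.WjC i j hj.symm hw)).symm, v, hv, fun e1 => ?_⟩
  apply EK3.z_ne h hz i
  rw [← e, e1]
  group

/-- `d_i` -/
theorem exists_d [Finite ι] (i : ι) : ∃ d ∈ P, Odd (orderOf d) ∧ (∀ j, j ≠ i → ∀ v ∈ W j, d * v = v * d) ∧
    d * z i * d⁻¹ ≠ z i := by
  obtain ⟨v, hv, hvZ⟩ := exists_W_not_Z h hz i
  have hv1 : v ≠ 1 := fun e => hvZ (e ▸ one_mem _)
  obtain ⟨t, ht, htc, et⟩ := h.root i v hv hvZ (z i) (EK3.z_mem_Z h hz i)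
  obtain ⟨l, hl, hlc, y, hy, el⟩ := h.tr i v hv hv1
  have hy1 : y ≠ 1 := fun e1 => hv1 (by rw [← el, e1]; group)
  have hyz : y = z i := EK3.eq_z h hz hy hy1
  subst hyz
  have htP : t ∈ P := h.hyp.star.isLoc.le (h.BS ht)
  -- `a` : an element of `P ∩ C(C i)` with `z ↦ v ↦ v z`
  have hzt : t * z i * t⁻¹ = z i := by
    rw [(h.fr.blk i).cZ t ht (z i) (EK3.z_mem_Z h hz i)]; group
  have hzz : z i * z i = 1 := by rw [← pow_two]; exact EK3.z_sq h hz i
  have htv : t * v * t⁻¹ = v * z i := by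
    have h1 : t * v * t⁻¹ = z i * v := by rw [← et]; group
    rw [h1]
    exact h.fr.Vc (h.fr.WV i (zW h hz i)) (h.fr.WV i hv)
  have key : ∃ a ∈ P, a ∈ centralizer (C i : Set G) ∧ ∃ v' ∈ W i, v' ∉ Z i ∧ a * z i * a⁻¹ = v' ∧
      a * v' * a⁻¹ = v' * z i := by
    have hlW : l * v * l⁻¹ ∈ W i := by
      have h1 := h.fix hl hlc i
      rw [← h1]
      exact ⟨v, hv, rfl⟩
    have hlv1 : l * v * l⁻¹ ≠ 1 := fun e => hv1 (conj_eq_one_iff.1 e)
    have hlvv : l * v * l⁻¹ ≠ v := by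
      intro e
      have h1 : l * v * l⁻¹ = l * z i * l⁻¹ := e.trans el.symm
      have h2 : v = z i := by
        have := congrArg (fun t => l⁻¹ * t * l) h1
        simpa [mul_assoc] using this
      exact hvZ (h2 ▸ EK3.z_mem_Z h hz i)
    rcases four h hz i hv hvZ hlW with h1 | h1 | h1 | h1
    · exact absurd h1 hlv1
    · -- `l` interchanges `z` and `v`: take `t l`
      refine ⟨t * l, mul_mem htP hl, mul_mem htc hlc, v * z i, mul_mem hv (zW h hz i), ?_, ?_, ?_⟩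
      · intro hcon
        apply hvZ
        have := mul_mem hcon (inv_mem (EK3.z_mem_Z h hz i))
        rwa [mul_inv_cancel_right] at this
      · calc t * l * z i * (t * l)⁻¹ = t * (l * z i * l⁻¹) * t⁻¹ := by group
          _ = v * z i := by rw [el, htv]
      · calc t * l * (v * z i) * (t * l)⁻¹ = t * ((l * v * l⁻¹) * (l * z i * l⁻¹)) * t⁻¹ := by group
          _ = t * (z i * v) * t⁻¹ := by rw [h1, el]
          _ = (t * z i * t⁻¹) * (t * v * t⁻¹) := by group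
          _ = z i * (v * z i) := by rw [hzt, htv]
          _ = v * z i * z i := by
            rw [h.fr.Vc (h.fr.WV i (zW h hz i)) (h.fr.WV i (mul_mem hv (zW h hz i)))]
    · exact absurd h1 hlvv
    · exact ⟨l, hl, hlc, v, hv, hvZ, el, h1⟩
  obtain ⟨a, ha, hac, v', hv', hvZ', e1, e2⟩ := key
  have hc : ∀ j, j ≠ i → ∀ w ∈ W j, a * w = w * a := fun j hj w hw =>
    (mem_centralizer_iff.1 hac w (h.fr.WjC i j hj.symm hw)).symm
  have e3 : a * (v' * z i) * a⁻¹ = z i := by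
    calc a * (v' * z i) * a⁻¹ = (a * v' * a⁻¹) * (a * z i * a⁻¹) := by group
      _ = v' * z i * v' := by rw [e1, e2]
      _ = z i * (v' * v') := by
        rw [h.fr.Vc (h.fr.WV i hv') (h.fr.WV i (zW h hz i)), mul_assoc]
      _ = z i := by rw [← pow_two, h.fr.Vsq (h.fr.WV i hv'), mul_one]
  -- `a` has order 3 on `z i`
  have hne1 : a * z i * a⁻¹ ≠ z i := fun e => hvZ' (by rw [← e1, e]; exact EK3.z_mem_Z h hz i)
  have e5 : a ^ 3 * z i * (a ^ 3)⁻¹ = z i := by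
    have e4 : a ^ 3 = a * a * a := by rw [pow_succ, pow_two]
    calc a ^ 3 * z i * (a ^ 3)⁻¹ = a * (a * (a * z i * a⁻¹) * a⁻¹) * a⁻¹ := by rw [e4]; group
      _ = z i := by rw [e1, e2, e3]
  -- the odd part of `a`
  set n := orderOf a with hn
  have hn0 : n ≠ 0 := (orderOf_pos a).ne'
  obtain ⟨s, m, hm, hnm⟩ := Nat.exists_eq_two_pow_mul_odd hn0
  refine ⟨a ^ 2 ^ s, pow_mem ha _, ?_, fun j hj w hw => ?_, ?_⟩
  · rw [orderOf_pow' a (by positivity), ← hn, hnm]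
    have : Nat.gcd (2 ^ s * m) (2 ^ s) = 2 ^ s := Nat.gcd_mul_right_left _ _
    rw [this, Nat.mul_div_cancel_left _ (by positivity)]
    exact hm
  · exact Commute.pow_left (show Commute a w from hc j hj w hw) _
  · -- `2 ^ s` is prime to `3`
    intro e
    apply hne1
    -- stabiliser of `z i`
    have hst1 : a ^ 3 ∈ centralizer ({z i} : Set G) := by
      rw [mem_centralizer_singleton_iff]
      exact mul_inv_eq_iff_eq_mul.1 e5
    have hst2 : a ^ 2 ^ s ∈ centralizer ({z i} : Set G) := by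
      rw [mem_centralizer_singleton_iff]
      exact mul_inv_eq_iff_eq_mul.1 e
    have hcop : Nat.Coprime 3 (2 ^ s) := Nat.Coprime.pow_right _ (by norm_num)
    have hgcd := Nat.gcd_eq_gcd_ab 3 (2 ^ s)
    rw [hcop] at hgcd
    have : a ∈ centralizer ({z i} : Set G) := by
      have e6 : a = (a ^ 3) ^ (Nat.gcdA 3 (2 ^ s)) * (a ^ 2 ^ s) ^ (Nat.gcdB 3 (2 ^ s)) := by
        have e7 : a = a ^ (1 : ℤ) := (zpow_one a).symm
        conv_lhs => rw [e7]
        have e8 : (1 : ℤ) = (3 : ℕ) * Nat.gcdA 3 (2 ^ s) + ((2 ^ s : ℕ) : ℤ) * Nat.gcdB 3 (2 ^ s) := by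
          exact_mod_cast hgcd
        conv_lhs => rw [e8]
        rw [zpow_add, zpow_mul, zpow_mul, zpow_natCast, zpow_natCast]
      rw [e6]
      exact mul_mem (zpow_mem hst1 _) (zpow_mem hst2 _)
    rw [mul_inv_eq_iff_eq_mul]
    exact mem_centralizer_singleton_iff.1 this

theorem W_le_VV_C (i : ι) : VV W i ≤ C i := iSup_le fun j => iSup_le fun hj => h.fr.WjC i j (Ne.symm hj)

end bg

/-- `V_P ≤ O₂(C_G(z_i))` -/
theorem L_le_o2_cent {S : Sylow 2 G} {P B ZJ : Subgroup G} {ι : Type} [Finite ι] {L W Z C : ι → Subgroup G}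
    (h : Bg S P B ZJ L W Z C 2) {z : ι → G} (hz : ∀ i x, x ∈ Z i ↔ x = 1 ∨ x = z i) (i : ι) :
    zl (S : Subgroup G) P ≤ o2 (centralizer ({z i} : Set G)) := by
  have e : normalizer (Z i : Set G) = centralizer ({z i} : Set G) := by
    ext x
    rw [mem_centralizer_singleton_iff]
    constructor
    · intro hx
      have h1 := (mem_normalizer_iff.1 hx (z i)).1 (EK3.z_mem_Z h hz i)
      have h2 := EK3.eq_z h hz h1 (fun e => EK3.z_ne h hz i (conj_eq_one_iff.1 e))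
      exact mul_inv_eq_iff_eq_mul.1 h2
    · intro hx
      have h2 : x ∈ centralizer (Z i : Set G) := by
        rw [mem_centralizer_iff]
        intro y hy
        rcases (hz i y).1 hy with rfl | rfl
        · simp
        · exact hx.symm
      exact centralizer_le_normalizer _ h2
  rw [← e]
  exact h.V_le i

/-- **The frame `Cx` of THEOREM TOR over `MulL`.** -/
theorem cx_of {S : Sylow 2 G} {P B ZJ Y V : Subgroup G} {k : ℕ} {L W Z C A : Fin k → Subgroup G}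
    (h : MulL S P B ZJ L W Z C A 2) (hY : WQ S P B Y) (hV : Md S P Y V) {z : Fin k → G}
    (hz : ∀ i x, x ∈ Z i ↔ x = 1 ∨ x = z i) :
    Cx (S : Subgroup G) B (o2 P) (GX (S : Subgroup G) P Y) V (zl (S : Subgroup G) P) W z where
  char2 := h.cl.ctx.char2
  S2 := S.isPGroup'
  Sidx := by
    have : Fact (Nat.Prime 2) := ⟨Nat.prime_two⟩
    exact S.not_dvd_index
  SM := hY.S_le
  MX := hV.norm
  XS := hV.le.trans hY.V_le_S
  Xc := fun x hx y hy => Lev.zc_comm (hV.le hx) (hV.le hy)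
  Xs := fun x hx => by rw [← pow_two]; exact hY.V_sq x (hV.le hx)
  LX := hY.L_le_zl.trans hV.ge
  QB := h.bg.fr.QB
  BS := h.bg.BS
  cXQ := fun x hx hc => by
    rw [← hY.cvQ]
    exact ⟨hV.le hx, mem_centralizer_iff.2 hc⟩
  cQL := fun q hq l hl => h.bg.fr.cQ hq hl
  cSL := fun s hs hc => by
    rw [← IsParS.inf_centralizer S h.cl.ctx.char2 h.cl.pss.par]
    exact ⟨hs, mem_centralizer_iff.2 fun l hl => (hc l hl).symm⟩
  wc := fun g hg => h.cl.wc.eq g hg
  perm := fun g hg i => perm_W h.bg hz (h.cl.norm_o2_le hg) i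
  eL := le_antisymm (Cfsg.Agent.Omega.Node.MultiOf.Fg_V_le h.bg.fr) (iSup_le h.bg.fr.WV)
  ind := fun i => le_bot_iff.1 ((inf_le_inf_left _ (W_le_VV_C h.bg hz i)).trans (h.bg.fr.dir i).le)
  cV := fun i => cardW h.bg hz i
  zV := fun i => zW h.bg hz i
  z1 := fun i => EK3.z_ne h.bg hz i
  zS := fun s hs i => EK3.cj_Z h.bg hz (h.bg.S_norm_B hs) i
  Bz := fun b hb i => (h.bg.fr.blk i).cZ b hb _ (EK3.z_mem_Z h.bg hz i)
  memB := fun s hs hc => by
    rw [h.bg.eqB]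
    exact ⟨hs, EK3.mem_cent_ZJ h.bg hz hc⟩
  t := fun i => exists_t h.bg hz i
  d := fun i => by
    obtain ⟨d, hd, h1, h2, h3⟩ := exists_d h.bg hz i
    exact ⟨d, hY.P_le hd, MinSimple.VModule.le_normalizer_o2 P hd, h1, h2, h3⟩
  tr := fun i j => h.bg.trans i j
  LO := fun i => L_le_o2_cent h.bg hz i
  sylB := fun j T hT hB hc => syl_Lam h.bg hz j hT hB hc

end Cfsg.Agent.Omega.NO3S.WY.Tor

end

section


/-!
# THEOREM TOR: the instance `TorP ⟹ Cx, Off, Co`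

* `off_of` : `FamT` gives `Off` (the 2-groups of the family);
* `co_of`, `TorP.exists_co` : coordinates.
-/

set_option autoImplicit false
set_option linter.unusedSectionVars false
set_option linter.dupNamespace false

namespace Cfsg.Agent.Omega.NO3S.WY.Tor

open Subgroup Cfsg Cfsg.Agent.ZN Cfsg.Agent.ZN.ChoiceBase
open Cfsg.Agent.ZN.ChoiceSit (Syl)
open Cfsg.Agent.MinSimple.MinParabolic (IsMinPar)
open Cfsg.Agent.Omega.NO3S.Level
open Cfsg.Agent.Omega.NO3S.RedC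
open Cfsg.Agent.Omega.NO3S.EThree.Frame (Bg Fg)
open Cfsg.Agent.Omega.FFThm (OffM ElemM NatK NatKM ActsSL)
open Cfsg.Agent.Omega.NO1.BestOff (Best)
open Cfsg.Agent.Omega.FrameFF (cv)
open Cfsg.Agent.Omega.Node.MulX (MulL)
open Cfsg.Agent.Lib.SL2Mat (up)

universe u

variable {G : Type u} [Group G] [Finite G]

/-- a best offender beats all its subgroups -/
theorem best_le {U A : Subgroup G} (h : Best U A) {A' : Subgroup G} (hA : A' ≤ A) :
    Nat.card A' * Nat.card ↥(U ⊓ centralizer (A' : Set G)) ≤ Nat.card A * Nat.card ↥(U ⊓ centralizer (A : Set G)) := by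
  have h1 := h.max (A' ⊔ (A ⊓ centralizer (U : Set G))) (sup_le hA inf_le_left) le_sup_right
  refine le_trans (Nat.mul_le_mul (Subgroup.card_le_of_le le_sup_left) (Subgroup.card_le_of_le ?_)) h1
  refine le_inf inf_le_left ?_
  rw [le_centralizer_iff]
  exact sup_le (le_centralizer_iff.1 inf_le_right) (inf_le_right.trans (centralizer_le inf_le_left))

/-- **`Off`** -/
theorem off_of {S : Sylow 2 G} {P Y V : Subgroup G} {𝓕 : Set (Subgroup G)} (h : FamT S P Y V 𝓕) :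
    Off (S : Subgroup G) (o2 P) (GX (S : Subgroup G) P Y) V (zl (S : Subgroup G) P) {A | A ∈ 𝓕 ∧ IsPGroup 2 A} where
  cj := fun A hA g hg => ⟨h.cj A hA.1 g hg, isPGroup_cj g hA.2⟩
  AM := fun A hA => h.le A hA.1
  A2 := fun A hA => hA.2
  AQ := fun A hA hS => h.pas A hA.1 hS
  quad := fun A hA hS g hg D hD hDL x hx hxO a ha b hb => by
    have h1 := (h.her A hA.1 hS g hg D (zpowers x) hD hDL ((zpowers_le).2 hx) ((zpowers_le).2 hxO)).2
    exact (h1 a ha b hb x (mem_zpowers x)).symm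
  best := fun A hA hS g hg D hD hDL U hU hUO A' hA' =>
    best_le (h.her A hA.1 hS g hg D U hD hDL hU hUO).1 hA'

section inst

variable {S : Sylow 2 G} {P B ZJ : Subgroup G} {k : ℕ} {L W Z C A : Fin k → Subgroup G} {j : Fin k}
  {Y V : Subgroup G} {𝓕 : Set (Subgroup G)} {z : Fin k → G}

theorem WQ_of_WJ (h : WJ S P B Z j Y) : WQ S P B Y := h.toWY.toWQ

/-- **`Co`** -/
def co_of {F : Type} [Field F] (h : MulL S P B ZJ L W Z C A 2) (wj : WJ S P B Z j Y) (hf : FamT S P Y V 𝓕)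
    (hz : ∀ i x, x ∈ Z i ↔ x = 1 ∨ x = z i) (N : NatKM F B Y (zl B Y) (cv B Y) 1) (c4 : Nat.card F = 4)
    (line : ∀ v ∈ zl B Y, N.e v 0 1 = 0 ↔ v ∈ W j ⊔ cv B Y)
    (rt : ∀ q ∈ o2 P, ∃ b : F, ActsSL N.e (zl B Y) (cv B Y) q fun _ => up b) :
    Co F (S : Subgroup G) B (o2 P) (GX (S : Subgroup G) P Y) V (zl (S : Subgroup G) P) W z
      {A | A ∈ 𝓕 ∧ IsPGroup 2 A} j Y where
  cx := cx_of h wj.toWQ hf.md hz
  syl := wj.syl
  min := wj.min
  c2 := wj.c2
  YM := wj.toWQ.Y_le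
  cen := fun y hy i hi => by
    have h1 := mem_centralizer_iff.1 (wj.cen i hi hy) (z i) ((hz i _).2 (Or.inr rfl))
    exact h1.symm
  zcB := by
    rw [h.bg.fr.zcB]
    refine le_antisymm ((EK3.ZJ_le h.bg).trans (iSup_mono fun i x hx => ?_)) (iSup_le fun i => ?_)
    · rcases (hz i x).1 hx with rfl | rfl
      · exact one_mem _
      · exact mem_zpowers _
    · exact (zpowers_le).2 (h.fr.Z_le i ((hz i _).2 (Or.inr rfl)))
  zX := wj.toWQ.zcT_le.trans (wj.toWQ.L_le_zl.trans hf.md.ge)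
  nat := N
  c4 := c4
  line := line
  rt := rt
  act := by
    obtain ⟨A₀, hA, h1, h2⟩ := hf.act
    exact ⟨A₀, ⟨hA, S.isPGroup'.to_le (h1.trans wj.toWQ.o2P_le)⟩, h1.trans wj.toWQ.o2P_le, h1, h2⟩
  best := fun A₀ hA hS U hU hUO A' hA' => by
    have hz1 : ∀ i, z i ≠ 1 := EK3.z_ne h.bg hz
    obtain ⟨i, hi⟩ := h.bg.two j
    have h1 : Lam z j ≠ ⊥ := by
      intro h0
      have h3 : z i ∈ Lam z j := le_trans (le_iSup (fun _ : i ≠ j => zpowers (z i)) hi)
        (le_iSup (fun i => ⨆ (_ : i ≠ j), zpowers (z i)) i) (mem_zpowers _)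
      rw [h0, mem_bot] at h3
      exact hz1 i h3
    have h2 : Lam z j ≤ cj 1 (zl (S : Subgroup G) P) := by
      rw [cj_one]
      exact iSup_le fun i => iSup_le fun _ => (zpowers_le).2 (h.bg.fr.ZV i ((hz i _).2 (Or.inr rfl)))
    have h3 := best_le (hf.her A₀ hA.1 hS 1 (one_mem _) (Lam z j) U h1 h2 hU hUO).1 (A' := A') (by rwa [cj_one])
    rwa [cj_one] at h3
  two := h.bg.two j

end inst

end Cfsg.Agent.Omega.NO3S.WY.Tor

end

section


/-!
# THEOREM TOR (0): the odd kernel lemma over the frame (helper491)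

* `TY.lines` : the five lines contain `F` properly;
* `nil_of_min` : odd normal subgroups of (quotients of) a minimal parabolic are nilpotent: no Feit-Thompson;
* `TY.datKer` : helper570's `OddKer.Dat` for `Y`, `Q`, `O₂(Y)`;
* `TY.odd_ker` : a vector of a section `N / N₀` of `X` which is fixed by `N_Y(Q)` is fixed by `Y`;
* `TY.ker0` : helper594's `Ker0`.
-/

set_option autoImplicit false
set_option linter.unusedSectionVars false
set_option linter.unusedVariables false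

namespace Cfsg.Agent.Omega.NO3S.WY.Tor

open Subgroup Cfsg Cfsg.Agent.ZN Cfsg.Agent.ZN.ChoiceBase
open Cfsg.Agent.ZN.ChoiceSit (Syl)
open Cfsg.Agent.MinSimple.MinParabolic (IsMinPar)
open scoped commutatorElement

universe u

variable {G : Type u} [Group G] {ι : Type} {S B Q M X L : Subgroup G} {V : ι → Subgroup G} {z : ι → G}
  {𝓦 : Set (Subgroup G)} {j : ι} {Y W F : Subgroup G}

theorem relIndex_sup_normal {H : Type*} [Group H] [Finite H] (K B : Subgroup H) [K.Normal] :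
    B.relIndex (K ⊔ B) = B.relIndex K := by
  have e1 : K.relIndex (K ⊔ B) = K.relIndex B := relIndex_sup_left _ _
  have e2 := relIndex_mul_relIndex (K ⊓ B) K (K ⊔ B) inf_le_left le_sup_left
  have e3 := relIndex_mul_relIndex (K ⊓ B) B (K ⊔ B) inf_le_right le_sup_right
  rw [e1, inf_relIndex_left] at e2
  rw [inf_relIndex_right] at e3
  have e4 : K.relIndex B ≠ 0 := by
    intro h
    have := Subgroup.relIndex_eq_zero_of_le_right (le_top : B ≤ ⊤) h
    rw [relIndex_top_right] at this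
    exact index_ne_zero_of_finite this
  have e5 : K.relIndex B * B.relIndex (K ⊔ B) = K.relIndex B * B.relIndex K := by
    rw [e3, ← e2, mul_comm]
  exact Nat.eq_of_mul_eq_mul_left (Nat.pos_of_ne_zero e4) e5

/-- `ψ : Y → H` surjective, `B ≤ Y` a 2-subgroup with a unique maximal overgroup, `K ⊴ H` odd, `⟨ψ⁻¹(K), B⟩ ≠ Y`: then `K` is
nilpotent. -/
theorem nil_of_min {Y H : Type*} [Group Y] [Finite Y] [Group H] [Finite H] (ψ : Y →* H) (hψ : Function.Surjective ψ)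
    {B M : Subgroup Y} (hB : IsPGroup 2 B) (hM : M ≠ ⊤) (hmax : ∀ X : Subgroup Y, B ≤ X → X ≠ ⊤ → X ≤ M)
    (K : Subgroup H) [hKn : K.Normal] (hodd : Odd (Nat.card K)) (hKB : K.comap ψ ⊔ B ≠ ⊤) : Group.IsNilpotent K := by
  have h2 : Fact (Nat.Prime 2) := ⟨Nat.prime_two⟩
  refine (Group.isNilpotent_of_finite_tfae (G := K)).out 0 3 |>.2 fun p hp P => ?_
  have hp' : Fact (Nat.Prime p) := hp
  -- a Sylow `p`-subgroup fixed by `B`
  have hB' : IsPGroup 2 (B.map ψ) := hB.map ψ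
  let _ : MulAction (B.map ψ) (Sylow p K) :=
    MulAction.compHom (Sylow p K) ((MulAut.conjNormal (H := K)).comp (B.map ψ).subtype)
  have hcard : ¬ 2 ∣ Nat.card (Sylow p K) := by
    intro h
    have h3 := (h.trans (Sylow.card_dvd_index P)).trans (index_dvd_card (P : Subgroup K))
    rcases hodd with ⟨m, hm⟩
    omega
  obtain ⟨P₀, hP₀⟩ := hB'.nonempty_fixed_point_of_prime_not_dvd_card (Sylow p K) hcard
  have hfix : ∀ b ∈ B.map ψ, MulAut.conjNormal (H := K) b • P₀ = P₀ := fun b hb =>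
    MulAction.mem_fixedPoints.1 hP₀ ⟨b, hb⟩
  set R : Subgroup H := (P₀ : Subgroup K).map K.subtype with hR
  have hBR : B.map ψ ≤ normalizer (R : Set H) := by
    have key : ∀ b ∈ B.map ψ, ∀ x ∈ R, b * x * b⁻¹ ∈ R := by
      intro b hb x hx
      obtain ⟨k, hk, rfl⟩ := hx
      have h3 : MulAut.conjNormal (H := K) b • k ∈ (MulAut.conjNormal (H := K) b • P₀ : Sylow p K) :=
        Subgroup.smul_mem_pointwise_smul _ _ _ hk
      rw [hfix b hb] at h3
      refine ⟨_, h3, ?_⟩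
      simp
    intro b hb
    rw [mem_normalizer_iff]
    intro x
    refine ⟨fun hx => key b hb x hx, fun hx => ?_⟩
    have h3 := key b⁻¹ (inv_mem hb) _ hx
    have e : b⁻¹ * (b * x * b⁻¹) * b⁻¹⁻¹ = x := by group
    rwa [e] at h3
  have hFr : normalizer (R : Set H) ⊔ K = ⊤ := Sylow.normalizer_sup_eq_top P₀
  have hRtop : normalizer (R : Set H) = ⊤ := by
    by_contra hne
    have h4 : (normalizer (R : Set H)).comap ψ ≤ M := by
      refine hmax _ ?_ ?_
      · rw [← map_le_iff_le_comap]; exact hBR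
      · intro h5
        apply hne
        rw [eq_top_iff]
        intro x _
        obtain ⟨y, rfl⟩ := hψ x
        have : y ∈ (normalizer (R : Set H)).comap ψ := h5 ▸ mem_top y
        exact this
    have h5 : K.comap ψ ≤ M := le_sup_left.trans (hmax _ le_sup_right hKB)
    have h6 := comap_sup_eq ψ (normalizer (R : Set H)) K hψ
    rw [hFr, comap_top] at h6
    exact hM (top_le_iff.1 (h6 ▸ sup_le h4 h5))
  have hP₀n : (P₀ : Subgroup K).Normal := by
    refine ⟨fun k hk g => ?_⟩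
    have h3 : (g : H) ∈ normalizer (R : Set H) := hRtop ▸ mem_top _
    have h4 : (g : H) * (k : H) * (g : H)⁻¹ ∈ R := (mem_normalizer_iff.1 h3 _).1 ⟨k, hk, rfl⟩
    obtain ⟨k', hk', e⟩ := h4
    have : k' = g * k * g⁻¹ := Subtype.ext (by simpa using e)
    rwa [← this]
  have hu := Sylow.unique_of_normal P₀ hP₀n
  have : P = P₀ := Subsingleton.elim _ _
  rw [this]
  exact hP₀n


/-- the kernel is solvable -/
theorem sol_of_min {Y : Type*} [Group Y] [Finite Y] {B M K D : Subgroup Y} (nD : D.Normal) (hD : IsPGroup 2 D)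
    (hB : IsPGroup 2 B) (hM : M ≠ ⊤) (hmax : ∀ X : Subgroup Y, B ≤ X → X ≠ ⊤ → X ≤ M) [hK : K.Normal]
    (hDK : D ≤ K) (hko : Odd (D.relIndex K)) (hKB : K ⊔ B ≠ ⊤) : Group.IsSolvable ↥K := by
  have hnD := nD
  refine OddKer.sol_of_quot K D nD hD ?_
  set ψ : Y →* Y ⧸ D := QuotientGroup.mk' D with hψ
  have hsur : Function.Surjective ψ := QuotientGroup.mk'_surjective D
  have hker : ψ.ker = D := QuotientGroup.ker_mk' D
  set φ : ↥K →* Y ⧸ D := ψ.comp K.subtype with hφ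
  have hkφ : φ.ker = D.subgroupOf K := by
    ext x
    rw [MonoidHom.mem_ker, mem_subgroupOf]
    exact QuotientGroup.eq_one_iff (x : Y)
  have hr : φ.range = K.map ψ := by rw [hφ, MonoidHom.range_comp, range_subtype]
  have hn : (K.map ψ).Normal := hK.map ψ hsur
  have hodd : Odd (Nat.card (K.map ψ)) := by
    rw [← hr, ← index_ker, hkφ]
    exact hko
  have hcom : (K.map ψ).comap ψ = K := by rw [comap_map_eq, hker, sup_eq_left.2 hDK]
  have hnil := nil_of_min ψ hsur hB hM hmax (K.map ψ) hodd (by rwa [hcom])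
  have hs : Group.IsSolvable ↥(K.map ψ) := IsNilpotent.to_isSolvable
  have e : (↥K ⧸ D.subgroupOf K) ≃* ↥(K.map ψ) :=
    ((QuotientGroup.quotientMulEquivOfEq hkφ.symm).trans (QuotientGroup.quotientKerEquivRange φ)).trans
      (MulEquiv.subgroupCongr hr)
  exact Group.isSolvable_of_isSolvable_injective (f := e.toMonoidHom) e.injective

/-- the alternating group of degree 5 is not a 2-group -/
theorem not_two_alt {X : Subgroup (Equiv.Perm (Fin 5))} (hX : IsPGroup 2 X) : ¬ alternatingGroup (Fin 5) ≤ X := by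
  intro hle
  have h3 : (Equiv.swap (0 : Fin 5) 1 * Equiv.swap 1 2) ∈ X := hle (by
    rw [Equiv.Perm.mem_alternatingGroup]
    decide)
  obtain ⟨k, hk⟩ := hX ⟨_, h3⟩
  have h4 : orderOf (Equiv.swap (0 : Fin 5) 1 * Equiv.swap 1 2) = 3 := by
    apply orderOf_eq_prime
    · decide
    · decide
  have h5 : (Equiv.swap (0 : Fin 5) 1 * Equiv.swap 1 2) ^ 2 ^ k = 1 := congrArg Subtype.val hk
  have h6 := orderOf_dvd_of_pow_eq_one h5
  rw [h4] at h6
  have h7 := Nat.Prime.dvd_of_dvd_pow Nat.prime_three h6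
  omega

namespace TY

/-- the five lines contain `F` properly -/
theorem lines [Finite G] (c : Cx S B Q M X L V z) (h : TY S B Q M X V z 𝓦 j Y W F) {ℓ : Fin 5 → Subgroup G}
    {π : ↥Y →* Equiv.Perm (Fin 5)} (h0 : ℓ 0 = V j ⊔ F) (hi : ∀ a b, a ≠ b → ℓ a ⊓ ℓ b = F)
    (hc : ∀ (y : Y) a, cj (y : G) (ℓ a) = ℓ (π y a)) (hA : alternatingGroup (Fin 5) ≤ π.range) :
    (∀ a, F ≤ ℓ a) ∧ ∀ a, ℓ a ≠ F := by
  have hF : ∀ a, F ≤ ℓ a := fun a => by
    have : ∃ b : Fin 5, a ≠ b := by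
      by_cases h5 : a = 0
      · exact ⟨1, by rw [h5]; decide⟩
      · exact ⟨0, h5⟩
    obtain ⟨b, hb⟩ := this
    rw [← hi a b hb]; exact inf_le_left
  refine ⟨hF, ?_⟩
  intro a e
  have htr : ∃ g : Y, π g 0 = a := by
    by_cases ha : a = 0
    · exact ⟨1, by rw [ha]; simp⟩
    · obtain ⟨b, hb0, hba⟩ : ∃ b : Fin 5, b ≠ 0 ∧ b ≠ a := by
        by_cases h1 : a = 1
        · exact ⟨2, by decide, by rw [h1]; decide⟩
        · exact ⟨1, by decide, fun e => h1 e.symm⟩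
      have h4 : (Equiv.swap (0 : Fin 5) b * Equiv.swap 0 a) ∈ alternatingGroup (Fin 5) := by
        rw [Equiv.Perm.mem_alternatingGroup, map_mul, Equiv.Perm.sign_swap (Ne.symm ha),
          Equiv.Perm.sign_swap hb0.symm]
        decide
      obtain ⟨g, hg⟩ := hA h4
      refine ⟨g, ?_⟩
      rw [hg, Equiv.Perm.mul_apply, Equiv.swap_apply_left, Equiv.swap_apply_of_ne_of_ne ha hba.symm]
  obtain ⟨g, hg⟩ := htr
  have h6 := hc g 0
  rw [hg, h0, e] at h6
  have h7 := card_cj (g : G) (V j ⊔ F)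
  rw [h6, h.card_VF c] at h7
  have h8 : 0 < Nat.card F := Nat.card_pos
  omega

/-- `q² ∈ C(W)` for `q ∈ Q` -/
theorem sq_comm (c : Cx S B Q M X L V z) (h : TY S B Q M X V z 𝓦 j Y W F) {q : G} (hq : q ∈ Q) {w : G} (hw : w ∈ W) :
    (q * q) * w = w * (q * q) := by
  have h1 := h.quad q hq w hw
  set u := q * w * q⁻¹ * w⁻¹ with hu
  have h2 : q * u = u * q := c.cQL q hq u (h.VF_L c h1)
  have h3 : u * u = 1 := c.Xs u (((h.VF_L c).trans c.LX) h1)
  have e1 : q * w = u * w * q := by rw [hu]; group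
  calc q * q * w = q * (q * w) := by group
    _ = q * u * w * q := by rw [e1]; group
    _ = u * (q * w) * q := by rw [h2]; group
    _ = (u * u) * w * q * q := by rw [e1]; group
    _ = w * (q * q) := by rw [h3]; group

/-- **helper570's data** -/
theorem datKer [Finite G] (c : Cx S B Q M X L V z) (h : TY S B Q M X V z 𝓦 j Y W F) :
    ∃ π : ↥Y →* Equiv.Perm (Fin 5), OddKer.Dat π (Q.subgroupOf Y) ((o2 Y).subgroupOf Y) := by
  obtain ⟨ℓ, π, h0, hW, hi, hc, hA, hk⟩ := h.act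
  obtain ⟨hF, hne⟩ := h.lines c h0 hi hc hA
  have hQY := h.QY c
  -- `O₂(Y)` is trivial on the lines
  have hDk : ∀ d : ↥Y, (d : G) ∈ o2 Y → π d = 1 := by
    intro d hd
    refine ker_le hW hF hne hi hc fun w hw => ?_
    have h1 : (d : G) * w * (d : G)⁻¹ * w⁻¹ = 1 := comm_iff.2 (mem_centralizer_iff.1 (h.o2_cW c hd) w hw).symm
    rw [h1]; exact one_mem _
  have hDle : (o2 Y).subgroupOf Y ≤ π.ker := fun d hd => hDk d (mem_subgroupOf.1 hd)
  -- `q ∈ Q` fixes `ℓ 0`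
  have hq0 : ∀ q : ↥Y, (q : G) ∈ Q → π q 0 = 0 := by
    intro q hq
    have h1 : cj (q : G) (ℓ 0) = ℓ 0 := by
      refine cj_eq_of_mem_normalizer ?_
      rw [h0]
      have h2 : Q ≤ centralizer ((V j ⊔ F : Subgroup G) : Set G) := fun x hx =>
        mem_centralizer_iff.2 fun l hl => (c.cQL x hx l (h.VF_L c hl)).symm
      exact (h2.trans (centralizer_le_normalizer _)) hq
    by_contra hne'
    have h2 := hc q 0
    rw [h1] at h2
    have h3 := hi 0 (π q 0) (Ne.symm hne')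
    rw [← h2, inf_idem] at h3
    exact hne 0 h3
  -- `q² = 1` on the lines
  have hq2 : ∀ q : ↥Y, (q : G) ∈ Q → π q * π q = 1 := by
    intro q hq
    rw [← map_mul]
    refine ker_le hW hF hne hi hc fun w hw => ?_
    have h1 : ((q * q : ↥Y) : G) * w * ((q * q : ↥Y) : G)⁻¹ * w⁻¹ = 1 := comm_iff.2 (h.sq_comm c hq hw)
    rw [h1]; exact one_mem _
  -- free on the other lines
  have hfree : ∀ q : ↥Y, (q : G) ∈ Q → ∀ i, i ≠ 0 → π q i = i → (q : G) ∈ centralizer (W : Set G) := by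
    intro q hq i hi0 hqi
    obtain ⟨w, hw, hwF⟩ : ∃ w ∈ ℓ i, w ∉ F := by
      by_contra hcon
      push Not at hcon
      exact hne i (le_antisymm hcon (hF i))
    have hwV : w ∉ V j ⊔ F := by
      intro h2
      apply hwF
      rw [← hi i 0 hi0, h0]
      exact ⟨hw, h2⟩
    have h2 : (q : G) * w * (q : G)⁻¹ * w⁻¹ ∈ F := by
      have h3 : (q : G) * w * (q : G)⁻¹ ∈ cj (q : G) (ℓ i) := mem_cj' hw
      rw [hc, hqi] at h3
      have h4 : (q : G) * w * (q : G)⁻¹ * w⁻¹ ∈ ℓ i := (ℓ i).mul_mem h3 ((ℓ i).inv_mem hw)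
      have h5 : (q : G) * w * (q : G)⁻¹ * w⁻¹ ∈ ℓ 0 := by
        rw [h0]
        exact h.quad _ hq w (hW i hw)
      rw [← hi i 0 hi0]
      exact mem_inf.2 ⟨h4, h5⟩
    rw [mem_centralizer_iff]
    intro u hu
    exact (h.free _ hq w (hW i hw) hwV h2 u hu).symm
  -- transitive on the other lines
  have hqt : ∀ i : Fin 5, i ≠ 0 → ∀ k : Fin 5, k ≠ 0 → ∃ q : ↥Y, (q : G) ∈ Q ∧ π q i = k := by
    intro i hi0 k hk0
    set K : Subgroup ↥Q := (Q ⊓ centralizer (W : Set G)).subgroupOf Q with hK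
    have hcard : Nat.card (↥Q ⧸ K) = 4 := by
      have h1 := Subgroup.card_mul_index K
      have h2 : Nat.card K = Nat.card ↥(Q ⊓ centralizer (W : Set G)) :=
        Nat.card_congr (subgroupOfEquivOfLe inf_le_left).toEquiv
      have h3 := h.cardQ
      have h4 : 0 < Nat.card ↥(Q ⊓ centralizer (W : Set G)) := Nat.card_pos
      rw [h2, h3, mul_comm] at h1
      have h5 : K.index = 4 := Nat.eq_of_mul_eq_mul_right h4 h1
      exact h5
    let e : ↥Q → ↥Y := fun q => ⟨(q : G), hQY q.2⟩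
    have hnz : ∀ q : ↥Q, π (e q) i ≠ 0 := by
      intro q hq
      apply hi0
      have h1 := hq0 (e q) q.2
      exact (π (e q)).injective (hq.trans h1.symm)
    let f : ↥Q ⧸ K → {k : Fin 5 // k ≠ 0} := fun x => ⟨π (e x.out) i, hnz _⟩
    have hinj : Function.Injective f := by
      intro x y hxy
      have h1 : π (e x.out) i = π (e y.out) i := congrArg Subtype.val hxy
      have h2 : π (e (x.out⁻¹ * y.out)) i = i := by
        have h3 : e (x.out⁻¹ * y.out) = (e x.out)⁻¹ * e y.out := rfl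
        rw [h3, map_mul, map_inv, Equiv.Perm.mul_apply, ← h1]
        simp
      have h4 := hfree _ (x.out⁻¹ * y.out).2 i hi0 h2
      have h5 : x.out⁻¹ * y.out ∈ K := mem_subgroupOf.2 ⟨(x.out⁻¹ * y.out).2, h4⟩
      rw [← QuotientGroup.eq] at h5
      rw [← x.out_eq', ← y.out_eq']
      exact h5
    have hbij := hinj.bijective_of_nat_card_le (by
      rw [hcard, Nat.card_eq_fintype_card]
      decide)
    obtain ⟨x, hx⟩ := hbij.2 ⟨k, hk0⟩
    exact ⟨e x.out, x.out.2, congrArg Subtype.val hx⟩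
  -- the index of `O₂(Y)` in the kernel is odd
  have hko : Odd (((o2 Y).subgroupOf Y).relIndex π.ker) := by
    have h2 : B.subgroupOf Y ⊓ π.ker ≤ (o2 Y).subgroupOf Y := by
      rintro b ⟨hb, hbk⟩
      rw [mem_subgroupOf]
      exact h.mem_o2_of c (mem_subgroupOf.1 hb) (hk b hbk)
    have h3 : ¬ 2 ∣ (B.subgroupOf Y).index := ChoiceSit.syl_not_dvd (h.syl c)
    have h4 : (B.subgroupOf Y).relIndex (π.ker ⊔ B.subgroupOf Y) * (π.ker ⊔ B.subgroupOf Y).index =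
        (B.subgroupOf Y).index := relIndex_mul_index le_sup_right
    have h5 : (B.subgroupOf Y).relIndex (π.ker ⊔ B.subgroupOf Y) = (B.subgroupOf Y).relIndex π.ker :=
      relIndex_sup_normal _ _
    have h6 : (B.subgroupOf Y ⊓ π.ker).relIndex π.ker = (B.subgroupOf Y).relIndex π.ker := inf_relIndex_right _ _
    have h7 : (B.subgroupOf Y ⊓ π.ker).relIndex ((o2 Y).subgroupOf Y) * ((o2 Y).subgroupOf Y).relIndex π.ker =
        (B.subgroupOf Y ⊓ π.ker).relIndex π.ker := relIndex_mul_relIndex _ _ _ h2 hDle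
    rw [← Nat.not_even_iff_odd, even_iff_two_dvd]
    intro h8
    apply h3
    rw [← h4, h5, ← h6, ← h7]
    exact Dvd.dvd.mul_right (Dvd.dvd.mul_left h8 _) _
  -- the kernel is solvable
  have hsol : Group.IsSolvable ↥π.ker := by
    obtain ⟨M₀, hM₀, hmax⟩ := h.min.exists_max
    have hnD : ((o2 Y).subgroupOf Y).Normal := normal_subgroupOf_of_le_normalizer (ChoiceSit.le_normalizer_o2 Y)
    have hB' : IsPGroup 2 (B.subgroupOf Y) := c.B2.comap_of_injective Y.subtype Y.subtype_injective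
    have hD' : IsPGroup 2 ((o2 Y).subgroupOf Y) :=
      (ChoiceSit.isPGroup_o2 Y).comap_of_injective Y.subtype Y.subtype_injective
    refine sol_of_min (M := M₀.subgroupOf Y) hnD hD' hB' ?_ (fun X' hX' hne' => ?_) hDle hko ?_
    · intro e
      rw [subgroupOf_eq_top] at e
      exact hM₀.not_ge e
    · have h1 : X'.map Y.subtype ≤ M₀ := by
        refine hmax _ ?_ (lt_of_le_of_ne (map_subtype_le _) fun e => hne' ?_)
        · intro b hb
          exact ⟨⟨b, h.BY hb⟩, hX' (mem_subgroupOf.2 hb), rfl⟩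
        · rw [eq_top_iff]
          rintro ⟨x, hx⟩ -
          have hx2 : x ∈ X'.map Y.subtype := e.ge hx
          obtain ⟨x', hx', e'⟩ := hx2
          have : x' = ⟨x, hx⟩ := Subtype.ext e'
          rwa [← this]
      intro x hx
      exact mem_subgroupOf.2 (h1 ⟨x, hx, rfl⟩)
    · intro e
      refine not_two_alt (hB'.map π) (hA.trans ?_)
      have h1 : (π.ker ⊔ B.subgroupOf Y).map π = (B.subgroupOf Y).map π := by
        rw [Subgroup.map_sup, (π.ker.map_eq_bot_iff (f := π)).2 le_rfl, bot_sup_eq]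
      rw [← h1, e, MonoidHom.range_eq_map]
  refine ⟨π, OddKer.Dat.of π hQY (ChoiceSit.o2_le Y) (ChoiceSit.le_normalizer_o2 Y) (ChoiceSit.isPGroup_o2 Y)
    (c.B2.to_le c.QB) hDk hko hsol ?_ hq0 hq2 hqt ((h.o2B c).trans c.BQ) ?_⟩
  · have h1 : (Equiv.swap (0 : Fin 5) 1 * Equiv.swap 1 2) ∈ alternatingGroup (Fin 5) := by
      rw [Equiv.Perm.mem_alternatingGroup]; decide
    obtain ⟨g, hg⟩ := hA h1
    refine ⟨g, ?_⟩
    rw [hg]; decide
  · intro y hy hyn
    have h1 : cj y Q ≤ S := by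
      have h2 : cj y Q ≤ cj y (Q ⊔ o2 Y) := cj_mono y le_sup_left
      rw [cj_eq_of_mem_normalizer hyn] at h2
      exact h2.trans ((sup_le c.QB (h.o2B c)).trans c.BS)
    rw [mem_normalizer_iff_cj]
    exact c.wc y h1

/-- **THEOREM TOR (0)**: a vector of the section `N / N₀` of `X` fixed by `N_Y(Q)` is fixed by `Y`. -/
theorem odd_ker [Finite G] (c : Cx S B Q M X L V z) (h : TY S B Q M X V z 𝓦 j Y W F) {N N₀ : Subgroup G}
    (hN : N ≤ X) (h01 : N₀ ≤ N) (nN : Y ≤ normalizer (N : Set G)) (nN0 : Y ≤ normalizer (N₀ : Set G))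
    (hQ : ∀ n ∈ N, ∀ a ∈ Q, ∀ b ∈ Q, b * (a * n * a⁻¹ * n⁻¹) * b⁻¹ * (a * n * a⁻¹ * n⁻¹)⁻¹ ∈ N₀) {v : G} (hv : v ∈ N)
    (hf : ∀ y ∈ Y, y ∈ normalizer (Q : Set G) → y * v * y⁻¹ * v⁻¹ ∈ N₀) : ∀ y ∈ Y, y * v * y⁻¹ * v⁻¹ ∈ N₀ := by
  obtain ⟨π, d⟩ := h.datKer c
  refine OddKer.sect d (h.QY c) ⟨h01, nN, nN0, fun a ha b hb => ?_, fun a ha => ?_⟩
    (fun b hb a ha x hx => hQ x hx a ha b hb) hv hf
  · have e : ⁅a, b⁆ = 1 := commutatorElement_eq_one_iff_mul_comm.2 (c.xc (hN ha) (hN hb))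
    rw [e]; exact one_mem _
  · rw [c.Xs a (hN ha)]; exact one_mem _

/-- `KerY Q X Y` of `OneTY.lean` (helper150), unfolded -/
theorem ker_all [Finite G] (c : Cx S B Q M X L V z) (h : TY S B Q M X V z 𝓦 j Y W F) :
    ∀ N N₀ : Subgroup G, N ≤ X → N₀ ≤ N → Y ≤ normalizer (N : Set G) → Y ≤ normalizer (N₀ : Set G) →
      (∀ n ∈ N, ∀ y ∈ o2 Y, y * n * y⁻¹ * n⁻¹ ∈ N₀) →
      (∀ n ∈ N, ∀ a ∈ Q, ∀ b ∈ Q, b * (a * n * a⁻¹ * n⁻¹) * b⁻¹ * (a * n * a⁻¹ * n⁻¹)⁻¹ ∈ N₀) →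
      ∀ v ∈ N, (∀ y ∈ Y, y ∈ normalizer (Q : Set G) → y * v * y⁻¹ * v⁻¹ ∈ N₀) → ∀ y ∈ Y, y * v * y⁻¹ * v⁻¹ ∈ N₀ :=
  fun _ _ hN h01 nN nN0 _ hQ _ hv hf => h.odd_ker c hN h01 nN nN0 hQ hv hf

/-- helper594's `Ker0` for a `Y`-invariant subgroup of `X` on which `Q` is quadratic -/
theorem ker0 [Finite G] (c : Cx S B Q M X L V z) (h : TY S B Q M X V z 𝓦 j Y W F) {A : Subgroup G} (hA : A ≤ X)
    (nA : Y ≤ normalizer (A : Set G)) (qd : ∀ q ∈ Q, ∀ q' ∈ Q, ∀ x ∈ A, ⁅q, ⁅q', x⁆⁆ = 1) : OddKer.Ker0 Y Q A := by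
  obtain ⟨π, d⟩ := h.datKer c
  exact OddKer.ker0 d (h.QY c) nA (fun a ha b hb => c.xc (hA ha) (hA hb)) (fun a ha => c.Xs a (hA ha)) qd

end TY

end Cfsg.Agent.Omega.NO3S.WY.Tor

end

section


/-!
# (TOR) for one block `S₅`: the data at the base triple `{0, 1, 4}`

`CaseL S P`, `V_P` = the even subsets of the letters `{0,..,4}` (`Five S P p`: `p i` = the complement of the letter `i`,
`Ω₁(Z(S)) = ⟨p 4⟩`, `B = C_S(nn p)`, `nn p = {0, 1}`, `aa p = {2, 3}`).

`SBase` : `Y` is a weird minimal parabolic over `B`, `Y ≤ C(aa p)`, `K = O²(Y)`, `W = ⟨(nn p)^K⟩`, `W ∩ V_P` is the line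
of `W` centralised by `Q = O₂(P)`, `A ≤ Q` is a member of the family (a `W_F`) which moves `W`.

`SBase.false_of` is in `Tor/SEnd.lean`.
-/

set_option autoImplicit false
set_option linter.unusedSectionVars false

namespace Cfsg.Agent.Omega.NO3S.WY.TorFive

open Subgroup Cfsg Cfsg.Agent.ZN Cfsg.Agent.ZN.ChoiceBase
open Cfsg.Agent.Omega.FFThm (OffM ElemM NoOverM SymKM)
open Cfsg.Agent.Omega.FrameFF (cv)
open Cfsg.Agent.Omega.NO1.BestOff (Best)
open Cfsg.Agent.Omega.NO3S.Level (CaseL)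
open Cfsg.Agent.Omega.NTwo (nn aa)

universe u

variable {G : Type u} [Group G] [Finite G]

/-- The base triple `{0, 1, 4}`. -/
structure SBase (S : Sylow 2 G) (P : Subgroup G) (p : Fin 5 → G) (M X W K A : Subgroup G) : Prop where
  cl : CaseL S P
  sym : Nonempty (SymKM (S : Subgroup G) P (zl (S : Subgroup G) P) (cv (S : Subgroup G) P) 1 2)
  five : Sym.Exit.Five S P p
  PM : P ≤ M
  MX : M ≤ normalizer (X : Set G)
  Xc : X ≤ centralizer (X : Set G)
  Xs : ∀ x ∈ X, x ^ 2 = 1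
  LX : zl (S : Subgroup G) P ≤ X
  KM : K ≤ M
  WX : W ≤ X
  nW : nn p ∈ W
  vW : p 0 * p 4 ∈ W
  /-- `W = ⟨(nn p)^K⟩` -/
  gen : ∀ U : Subgroup G, nn p ∈ U → K ≤ normalizer (U : Set G) → W ≤ U
  KW : K ≤ normalizer (W : Set G)
  QW : o2 P ≤ normalizer (W : Set G)
  /-- `O²(Y)` centralises `C_L((0 1 4)) = ⟨p 2, p 3⟩` -/
  K2 : ∀ k ∈ K, k * p 2 * k⁻¹ = p 2
  K3 : ∀ k ∈ K, k * p 3 * k⁻¹ = p 3
  /-- `C_Q(W)` is normal in `Y` -/
  PI : K ≤ normalizer ((o2 P ⊓ centralizer (W : Set G) : Subgroup G) : Set G)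
  /-- `W ∩ L ≤ V_{014} ⟨aa p⟩` -/
  WL : W ⊓ zl (S : Subgroup G) P ≤ closure {p 0 * p 1, p 0 * p 4, aa p}
  /-- `[W, Q] ≤ W ∩ L`, `C_W(q) ≤ W ∩ L` for `q ∈ Q - C(W)` -/
  quad : ∀ q ∈ o2 P, ∀ w ∈ W, q * w * q⁻¹ * w⁻¹ ∈ zl (S : Subgroup G) P
  free : ∀ q ∈ o2 P, ∀ w ∈ W, w ∉ zl (S : Subgroup G) P → q * w = w * q → q ∈ centralizer (W : Set G)
  /-- `|W : W ∩ L| ≥ 4`, `|Q : C_Q(W)| ≤ 4` -/
  idxW : 4 ≤ (zl (S : Subgroup G) P).relIndex W
  idxQ : (centralizer (W : Set G)).relIndex (o2 P) ≤ 4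
  /-- `V_{014} ≤ [W, Q]` -/
  comm : ∀ Z' : Subgroup G, CIn (o2 P) W Z' → p 0 * p 1 ∈ Z' ∧ p 0 * p 4 ∈ Z'
  /-- the lines of `W / F` meet trivially -/
  ti : ∀ g ∈ K ⊔ o2 P, ∀ x : G, (x = p 0 * p 1 ∨ x = p 0 * p 4 ∨ x = p 1 * p 4) →
    g * x * g⁻¹ ∈ zl (S : Subgroup G) P → g ∈ normalizer ((W ⊓ zl (S : Subgroup G) P : Subgroup G) : Set G)
  /-- `A` moves a line through three different elements -/
  reg : ∃ y ∈ K ⊔ o2 P, ∃ t ∈ A, ∃ t' ∈ A,
    t ∉ normalizer (cj y (W ⊓ zl (S : Subgroup G) P) : Set G) ∧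
    t' ∉ normalizer (cj y (W ⊓ zl (S : Subgroup G) P) : Set G) ∧
    t * t' ∉ normalizer (cj y (W ⊓ zl (S : Subgroup G) P) : Set G)
  /-- an element of `B` acting as the transposition `(0 1)` acts on `W / F` as an involution of `S₅ - A₅` -/
  mvB : ∀ b ∈ (S : Subgroup G), b * p 0 * b⁻¹ = p 1 → b * p 1 * b⁻¹ = p 0 → b * p 2 * b⁻¹ = p 2 →
    b * p 3 * b⁻¹ = p 3 → 2 < (centralizer ({b} : Set G)).relIndex W
  AQ : A ≤ o2 P
  mv : ¬ A ≤ centralizer (W : Set G)
  /-- (*) for the conjugates of `A` under `P`, `D = ⟨p 4⟩` -/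
  best : ∀ g ∈ P, ∀ U ≤ X, U ≤ o2 (centralizer (zc (S : Subgroup G) : Set G)) → Best U (cj g A)
  qd : ∀ g ∈ P, ∀ x ∈ X, x ∈ o2 (centralizer (zc (S : Subgroup G) : Set G)) → ∀ a ∈ cj g A, ∀ b ∈ cj g A,
    (a * x * a⁻¹ * x⁻¹) * b = b * (a * x * a⁻¹ * x⁻¹)

end Cfsg.Agent.Omega.NO3S.WY.TorFive

end

section


/-!
# Five points: small facts for (TOR), one block `S₅`

* `not_mem` : `p a p d ∉ ⟨p a p b, p a p c, p d p e⟩`-type statements;
* `swap_of` : `b ∈ S` with `|L : C_L(b)| ≤ 2`, moving `L = ⟨p i⟩`, acts as `(0 1)` or `(2 3)`.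
-/

set_option autoImplicit false
set_option linter.unusedSectionVars false

namespace Cfsg.Agent.Omega.NO3S.WY.TorFive

open Subgroup Cfsg Cfsg.Agent.ZN Cfsg.Agent.ZN.ChoiceBase
open Cfsg.Agent.Omega.NTwo (nn aa Fv Std)

universe u

variable {G : Type u} [Group G] {S P : Subgroup G} {p : Fin 5 → G}

/-- `{a, d} ∉ ⟨{a, b}, {a, c}, {e, d}⟩` for `e ≠ d` different from `a, b, c` -/
theorem not_mem (h : Fv P p) {a b c d e : Fin 5} (had : a ≠ d) (hae : a ≠ e) (hbd : b ≠ d) (hbe : b ≠ e)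
    (hcd : c ≠ d) (hce : c ≠ e) (hde : d ≠ e) :
    p a * p d ∉ closure ({p a * p b, p a * p c, p e * p d} : Set G) := by
  intro hm
  obtain ⟨g, -, hg⟩ := h.full (Equiv.swap d e)
  have ha : g * p a * g⁻¹ = p a := by rw [hg, Equiv.swap_apply_of_ne_of_ne had hae]
  have hb : g * p b * g⁻¹ = p b := by rw [hg, Equiv.swap_apply_of_ne_of_ne hbd hbe]
  have hc : g * p c * g⁻¹ = p c := by rw [hg, Equiv.swap_apply_of_ne_of_ne hcd hce]
  have hd : g * p d * g⁻¹ = p e := by rw [hg, Equiv.swap_apply_left]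
  have he : g * p e * g⁻¹ = p d := by rw [hg, Equiv.swap_apply_right]
  have h1 : closure ({p a * p b, p a * p c, p e * p d} : Set G) ≤ centralizer ({g} : Set G) := by
    rw [closure_le]
    rintro x hx
    rw [SetLike.mem_coe, mem_centralizer_singleton_iff]
    have key : g * x * g⁻¹ = x := by
      rcases hx with rfl | rfl | hx
      · rw [NTwo.cm, ha, hb]
      · rw [NTwo.cm, ha, hc]
      · rw [Set.mem_singleton_iff.1 hx, NTwo.cm, hd, he, h.comm]
    exact (NTwo.comm_iff.1 key).symm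
  have h2 := mem_centralizer_singleton_iff.1 (h1 hm)
  have h3 : g * (p a * p d) * g⁻¹ = p a * p d := NTwo.comm_iff.2 h2.symm
  rw [NTwo.cm, ha, hd] at h3
  exact hde (h.inj (mul_left_cancel h3)).symm

/-- a permutation which moves at most one pair -/
theorem perm_aux : ∀ σ : Equiv.Perm (Fin 5), σ 4 = 4 → σ ≠ 1 →
    (∀ i j, σ i ≠ i → σ j ≠ j → (σ i = i ∨ σ i = j) ∨ i = j) →
    (((σ 0 = 0 ∧ σ 1 = 1) ∨ (σ 0 = 1 ∧ σ 1 = 0)) ∨ ((σ 0 = 2 ∧ σ 1 = 3) ∨ (σ 0 = 3 ∧ σ 1 = 2))) →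
    σ = Equiv.swap 0 1 ∨ σ = Equiv.swap 2 3 := by
  decide +kernel

/-- `p i p j = p k p l`, `i ≠ j` ⟹ `{i, j} = {k, l}` -/
theorem pair_eq (h : Fv P p) {i j k l : Fin 5} (hij : i ≠ j) (e : p i * p j = p k * p l) :
    (k = i ∧ l = j) ∨ (k = j ∧ l = i) := by
  by_cases hki : k = i
  · subst hki
    exact Or.inl ⟨rfl, (h.inj (mul_left_cancel e)).symm⟩
  by_cases hkj : k = j
  · subst hkj
    rw [h.comm] at e
    exact Or.inr ⟨rfl, (h.inj (mul_left_cancel e)).symm⟩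
  exfalso
  -- `l ∉ {i, j}` too; a fifth letter `m` gives a transposition `(k m)`
  have hkl : k ≠ l := by
    rintro rfl
    rw [h.sq] at e
    exact h.mul_ne_one hij e
  obtain ⟨m, hm1, hm2, hm3⟩ := Fv.exists_fourth i j k
  by_cases hml : m = l
  · -- swap `k` with the fifth letter
    have hli : l ≠ i := by rintro rfl; exact hm1 hml
    have hlj : l ≠ j := by rintro rfl; exact hm2 hml
    obtain ⟨m', h1, h2, h3, h4⟩ : ∃ m' : Fin 5, m' ≠ i ∧ m' ≠ j ∧ m' ≠ k ∧ m' ≠ l := by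
      have : ∀ i j k l : Fin 5, ∃ m' : Fin 5, m' ≠ i ∧ m' ≠ j ∧ m' ≠ k ∧ m' ≠ l := by decide
      exact this i j k l
    obtain ⟨g, -, hg⟩ := h.full (Equiv.swap k m')
    have h5 := congrArg (fun x => g * x * g⁻¹) e
    simp only [NTwo.cm] at h5
    rw [hg i, hg j, hg k, hg l, Equiv.swap_apply_of_ne_of_ne (Ne.symm hki) h1.symm,
      Equiv.swap_apply_of_ne_of_ne (Ne.symm hkj) h2.symm, Equiv.swap_apply_left,
      Equiv.swap_apply_of_ne_of_ne hkl.symm h4.symm, e] at h5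
    exact h3 (h.inj (mul_right_cancel h5)).symm
  · obtain ⟨g, -, hg⟩ := h.full (Equiv.swap k m)
    have h5 := congrArg (fun x => g * x * g⁻¹) e
    simp only [NTwo.cm] at h5
    rw [hg i, hg j, hg k, hg l, Equiv.swap_apply_of_ne_of_ne (Ne.symm hki) hm1.symm,
      Equiv.swap_apply_of_ne_of_ne (Ne.symm hkj) hm2.symm, Equiv.swap_apply_left,
      Equiv.swap_apply_of_ne_of_ne hkl.symm (Ne.symm hml), e] at h5
    exact hm3 (h.inj (mul_right_cancel h5)).symm

/-- `b ∈ S` with `|L : C_L(b)| ≤ 2`, `b ∉ C(L)`, acts as `(0 1)` or `(2 3)`. -/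
theorem swap_of [Finite G] (h : Std S P p) {L : Subgroup G} (hL : L = closure (Set.range p)) {b : G} (hb : b ∈ S)
    (hmv : b ∉ centralizer (L : Set G)) (hidx : (centralizer ({b} : Set G)).relIndex L ≤ 2) :
    (∀ i, b * p i * b⁻¹ = p (Equiv.swap 0 1 i)) ∨ ∀ i, b * p i * b⁻¹ = p (Equiv.swap 2 3 i) := by
  obtain ⟨σ, hσ⟩ := h.perm b (h.le hb)
  have hpL : ∀ i, p i ∈ L := fun i => by rw [hL]; exact subset_closure ⟨i, rfl⟩
  -- two letters which are moved
  have hC : ∀ x, x ∈ L → x ∉ centralizer ({b} : Set G) → ∀ y, y ∈ L → y ∉ centralizer ({b} : Set G) →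
      x * y ∈ centralizer ({b} : Set G) := by
    intro x hx hx' y hy hy'
    have h0 : (centralizer ({b} : Set G)).relIndex L ≠ 0 := index_ne_zero_of_finite
    have h1 : (centralizer ({b} : Set G)).relIndex L ≠ 1 := fun e => hx' (relIndex_eq_one.1 e hx)
    have h2 : (centralizer ({b} : Set G)).relIndex L = 2 := by omega
    have h3 : ((centralizer ({b} : Set G)).subgroupOf L).index = 2 := h2
    have h4 := Subgroup.mul_mem_iff_of_index_two h3 (a := ⟨x, hx⟩) (b := ⟨y, hy⟩)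
    rw [mem_subgroupOf, mem_subgroupOf, mem_subgroupOf] at h4
    exact h4.2 ⟨fun h5 => absurd h5 hx', fun h5 => absurd h5 hy'⟩
  have hmem : ∀ i, p i ∈ centralizer ({b} : Set G) ↔ σ i = i := by
    intro i
    rw [mem_centralizer_singleton_iff]
    constructor
    · intro h1
      have h2 : b * p i * b⁻¹ = p i := NTwo.comm_iff.2 h1.symm
      rw [hσ] at h2
      exact h.inj h2
    · intro h1
      have h2 : b * p i * b⁻¹ = p i := by rw [hσ, h1]
      exact (NTwo.comm_iff.1 h2).symm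
  have h4 : σ 4 = 4 := h.inj (by rw [← hσ, h.fix b hb])
  have h1 : σ ≠ 1 := by
    rintro rfl
    apply hmv
    rw [hL, centralizer_closure]
    rw [mem_centralizer_iff]
    rintro _ ⟨i, rfl⟩
    have h2 : b * p i * b⁻¹ = p i := hσ i
    exact (NTwo.comm_iff.1 h2).symm
  have h5 : ∀ i j, σ i ≠ i → σ j ≠ j → (σ i = i ∨ σ i = j) ∨ i = j := by
    intro i j hi hj
    by_cases hij : i = j
    · exact Or.inr hij
    left; right
    have h6 := hC (p i) (hpL i) (fun h7 => hi ((hmem i).1 h7)) (p j) (hpL j) (fun h7 => hj ((hmem j).1 h7))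
    rw [mem_centralizer_singleton_iff] at h6
    have h7 : b * (p i * p j) * b⁻¹ = p i * p j := NTwo.comm_iff.2 h6.symm
    rw [NTwo.cm, hσ, hσ] at h7
    rcases pair_eq h.toFv hij h7.symm with h8 | h8
    · exact absurd h8.1 hi
    · exact h8.1
  have h6 : ((σ 0 = 0 ∧ σ 1 = 1) ∨ (σ 0 = 1 ∧ σ 1 = 0)) ∨ ((σ 0 = 2 ∧ σ 1 = 3) ∨ (σ 0 = 3 ∧ σ 1 = 2)) := by
    rcases h.part b hb with h7 | h7
    · rw [NTwo.cm, hσ, hσ] at h7
      left
      exact pair_eq h.toFv (by decide) h7.symm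
    · rw [NTwo.cm, hσ, hσ] at h7
      right
      exact pair_eq h.toFv (by decide) h7.symm
  rcases perm_aux σ h4 h1 h5 h6 with rfl | rfl
  · exact Or.inl hσ
  · exact Or.inr hσ

end Cfsg.Agent.Omega.NO3S.WY.TorFive

end

section


/-!
# (TOR) for one block `S₅`: the end (helper499 #25327 (2)-(5) = helper150 #25227 (c)-(e))

The conjugates `W^g`, `K^g` (`g ∈ P` moves the triple `{0, 1, 4}` into `{0, 1, 2, 3}`) lie in `C_M(p 4)`;
`R = ⟨C_P(p 4), K^g⟩`, `N = ⟨V_P^R⟩`: this is `TorFive.Five`.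

* **`SBase.false_of`**.
-/

set_option autoImplicit false
set_option linter.unusedSectionVars false

namespace Cfsg.Agent.Omega.NO3S.WY.TorFive

open Subgroup Cfsg Cfsg.Agent.ZN Cfsg.Agent.ZN.ChoiceBase
open Cfsg.Agent.Omega.FFThm (OffM ElemM NoOverM SymKM ActsSym)
open Cfsg.Agent.Omega.FrameFF (cv)
open Cfsg.Agent.Omega.NO1.BestOff (Best)
open Cfsg.Agent.Omega.NO3S.Level (CaseL)
open Cfsg.Agent.Omega.NTwo (nn aa)
open Cfsg.Agent.Omega.NO3b.EZero (cl cj_le_cl le_cl cl_le le_normalizer_cl cent_symm)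
open Cfsg.Agent.Omega.SQ1.Bau (mem_sup_norm)
open Cfsg.Agent.Omega.NO3S.Fld (relIndex_mul_card)

universe u

variable {G : Type u} [Group G] [Finite G]

/-! ### Conjugation -/

theorem relIndex_cj (g : G) (C X : Subgroup G) : (cj g C).relIndex (cj g X) = C.relIndex X := by
  have h1 := relIndex_mul_card X C
  have h2 := relIndex_mul_card (cj g X) (cj g C)
  rw [← cj_inf, card_cj, card_cj, ← h1] at h2
  exact Nat.eq_of_mul_eq_mul_right Nat.card_pos h2

theorem norm_cj {g : G} {A B : Subgroup G} (h : A ≤ normalizer (B : Set G)) :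
    cj g A ≤ normalizer ((cj g B : Subgroup G) : Set G) := by
  rw [← cj_normalizer]; exact cj_mono g h

theorem mem_cj_conj {g x : G} {A : Subgroup G} (h : x ∈ A) : g * x * g⁻¹ ∈ cj g A := by
  rw [mem_cj]
  have e : g⁻¹ * (g * x * g⁻¹) * g = x := by group
  rwa [e]

theorem cj_cent_sing (g x : G) : cj g (centralizer ({x} : Set G)) = centralizer ({g * x * g⁻¹} : Set G) := by
  ext y
  rw [mem_cj, mem_centralizer_singleton_iff, mem_centralizer_singleton_iff]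
  constructor
  · intro h
    have := congrArg (fun z => g * z * g⁻¹) h
    have e1 : g * (g⁻¹ * y * g * x) * g⁻¹ = y * (g * x * g⁻¹) := by group
    have e2 : g * (x * (g⁻¹ * y * g)) * g⁻¹ = g * x * g⁻¹ * y := by group
    simp only [e1, e2] at this
    exact this
  · intro h
    have := congrArg (fun z => g⁻¹ * z * g) h
    have e1 : g⁻¹ * (y * (g * x * g⁻¹)) * g = g⁻¹ * y * g * x := by group
    have e2 : g⁻¹ * (g * x * g⁻¹ * y) * g = x * (g⁻¹ * y * g) := by group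
    simp only [e1, e2] at this
    exact this

/-- the index set: the elements of `P` which move the triple `{0, 1, 4}` into `{0, 1, 2, 3}` -/
def Ix (P : Subgroup G) (p : Fin 5 → G) : Type u := {g : G // g ∈ P ∧ (g * p 2 * g⁻¹ = p 4 ∨ g * p 3 * g⁻¹ = p 4)}

/-- `C_P(z)` -/
abbrev R0 (S : Sylow 2 G) (P : Subgroup G) : Subgroup G := P ⊓ centralizer (zc (S : Subgroup G) : Set G)

/-- `R` -/
abbrev RR (S : Sylow 2 G) (P K : Subgroup G) (p : Fin 5 → G) : Subgroup G := R0 S P ⊔ ⨆ g : Ix P p, cj g.1 K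

/-- `N` -/
abbrev NN (S : Sylow 2 G) (P K : Subgroup G) (p : Fin 5 → G) : Subgroup G := cl (zl (S : Subgroup G) P) (RR S P K p)

namespace SBase

variable {S : Sylow 2 G} {P : Subgroup G} {p : Fin 5 → G} {M X W K A : Subgroup G} (b : SBase S P p M X W K A)
include b

theorem PL : P ≤ normalizer (zl (S : Subgroup G) P : Set G) := le_normalizer_zl _ _

theorem PQ : P ≤ normalizer (o2 P : Set G) := le_normalizer_o2 _

theorem SP : (S : Subgroup G) ≤ P := b.five.std.le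

theorem QS : o2 P ≤ (S : Subgroup G) := b.cl.pss.par.isLoc.o2_le S

theorem QL : o2 P ≤ centralizer (zl (S : Subgroup G) P : Set G) := by
  rw [← b.cl.zc_eq]; exact Level.le_centralizer_zc _

theorem pL (i : Fin 5) : p i ∈ zl (S : Subgroup G) P := by
  rw [b.five.gen]; exact subset_closure ⟨i, rfl⟩

theorem low : zl (S : Subgroup G) P ≤ o2 (centralizer (zc (S : Subgroup G) : Set G)) := b.cl.low P b.cl.pss.par

theorem p4 : p 4 ∈ zc (S : Subgroup G) := by
  rw [ChoiceBase.mem_zc]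
  refine ⟨b.five.std.mem 4, by rw [pow_two]; exact b.five.std.sq 4, fun y hy => ?_⟩
  exact NTwo.comm_iff.1 (b.five.std.fix y hy)

theorem zc_ne : zc (S : Subgroup G) ≠ ⊥ := fun h => b.five.std.ne 4 (by
  have := b.p4
  rw [h] at this
  exact mem_bot.1 this)

/-- `x ∈ C(Ω₁(Z(S)))` iff `x` centralises `p 4` -/
theorem mem_cz {x : G} (h : x * p 4 * x⁻¹ = p 4) : x ∈ centralizer (zc (S : Subgroup G) : Set G) := by
  rw [mem_centralizer_iff]
  intro z hz
  rcases b.five.std.zc4 z hz with rfl | rfl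
  · rw [one_mul, mul_one]
  · exact (NTwo.comm_iff.1 h).symm

theorem gP (g : Ix P p) : g.1 ∈ P := g.2.1

theorem cjQ (g : Ix P p) : cj g.1 (o2 P) = o2 P := cj_eq_of_mem_normalizer (b.PQ g.2.1)

theorem cjL (g : Ix P p) : cj g.1 (zl (S : Subgroup G) P) = zl (S : Subgroup G) P :=
  cj_eq_of_mem_normalizer (b.PL g.2.1)

theorem cjK_cz (g : Ix P p) : cj g.1 K ≤ centralizer (zc (S : Subgroup G) : Set G) := by
  intro x hx
  apply b.mem_cz
  have hk := mem_cj.1 hx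
  obtain ⟨g, hg, h | h⟩ := g
  · have h2 := b.K2 _ hk
    simp only at hx hk h2 ⊢
    rw [← h]
    calc x * (g * p 2 * g⁻¹) * x⁻¹ = g * (g⁻¹ * x * g * p 2 * (g⁻¹ * x * g)⁻¹) * g⁻¹ := by group
      _ = _ := by rw [h2]
  · have h2 := b.K3 _ hk
    simp only at hx hk h2 ⊢
    rw [← h]
    calc x * (g * p 3 * g⁻¹) * x⁻¹ = g * (g⁻¹ * x * g * p 3 * (g⁻¹ * x * g)⁻¹) * g⁻¹ := by group
      _ = _ := by rw [h2]

theorem cjK_M (g : Ix P p) : cj g.1 K ≤ M := by
  have h1 := cj_mono g.1 b.KM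
  rwa [cj_eq_of_mem_normalizer (le_normalizer (b.PM g.2.1))] at h1

theorem RR_M : RR S P K p ≤ M := sup_le (inf_le_left.trans b.PM) (iSup_le b.cjK_M)

theorem RR_cz : RR S P K p ≤ centralizer (zc (S : Subgroup G) : Set G) := sup_le inf_le_right (iSup_le b.cjK_cz)

theorem S_RR : (S : Subgroup G) ≤ RR S P K p :=
  (le_inf b.SP fun x hx => b.mem_cz (b.five.std.fix x hx)).trans le_sup_left

theorem NN_X : NN S P K p ≤ X := cl_le fun r hr => by
  have h1 := cj_mono r b.LX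
  rwa [cj_eq_of_mem_normalizer (b.MX (b.RR_M hr))] at h1

theorem NN_low : NN S P K p ≤ o2 (centralizer (zc (S : Subgroup G) : Set G)) := cl_le fun r hr => by
  have h1 := cj_mono r b.low
  rwa [cj_eq_of_mem_normalizer (le_normalizer_o2 _ (b.RR_cz hr))] at h1

theorem L_NN : zl (S : Subgroup G) P ≤ NN S P K p := le_cl _ _

theorem RN : RR S P K p ≤ normalizer (NN S P K p : Set G) := le_normalizer_cl _ _

theorem WN (g : Ix P p) : cj g.1 W ≤ NN S P K p := by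
  have h1 : W ≤ cj g.1⁻¹ (NN S P K p) := by
    refine b.gen _ ?_ ?_
    · rw [mem_cj, inv_inv]
      exact b.L_NN ((mem_normalizer_iff.1 (b.PL g.2.1) _).1 (mul_mem (b.pL 0) (b.pL 1)))
    · have h2 : cj g.1 K ≤ RR S P K p := (le_iSup (fun g : Ix P p => cj g.1 K) g).trans le_sup_right
      have h3 := norm_cj (g := g.1⁻¹) (h2.trans b.RN)
      rwa [cj_inv_cj] at h3
  have h2 := cj_mono g.1 h1
  rwa [cj_cj_inv] at h2

/-- `Q` normalises the `W^g` -/
theorem QWg (g : Ix P p) : o2 P ≤ normalizer ((cj g.1 W : Subgroup G) : Set G) := by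
  have h1 := norm_cj (g := g.1) b.QW
  rwa [b.cjQ g] at h1

theorem PIg (g : Ix P p) : o2 P ⊓ centralizer ((cj g.1 W : Subgroup G) : Set G) =
    cj g.1 (o2 P ⊓ centralizer (W : Set G)) := by
  rw [cj_inf, b.cjQ g, cj_centralizer]

/-- `free` for `W^g` -/
theorem freeg (g : Ix P p) {q w : G} (hq : q ∈ o2 P) (hw : w ∈ cj g.1 W) (hwL : w ∉ zl (S : Subgroup G) P)
    (h : q * w = w * q) : q ∈ centralizer ((cj g.1 W : Subgroup G) : Set G) := by
  have h1 : g.1⁻¹ * q * g.1 ∈ o2 P := by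
    rw [← b.cjQ g] at hq
    exact mem_cj.1 hq
  have h2 : g.1⁻¹ * w * g.1 ∉ zl (S : Subgroup G) P := fun h3 => hwL (by
    rw [← b.cjL g]; exact mem_cj.2 h3)
  have h3 := b.free _ h1 _ (mem_cj.1 hw) h2 (by
    have := congrArg (fun x => g.1⁻¹ * x * g.1) h
    have e1 : g.1⁻¹ * (q * w) * g.1 = g.1⁻¹ * q * g.1 * (g.1⁻¹ * w * g.1) := by group
    have e2 : g.1⁻¹ * (w * q) * g.1 = g.1⁻¹ * w * g.1 * (g.1⁻¹ * q * g.1) := by group
    simp only [e1, e2] at this
    exact this)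
  rw [← cj_centralizer]
  exact mem_cj.2 h3

theorem idxWg (g : Ix P p) : 4 ≤ (zl (S : Subgroup G) P).relIndex (cj g.1 W) := by
  have h1 := relIndex_cj g.1 (zl (S : Subgroup G) P) W
  rw [b.cjL g] at h1
  rw [h1]; exact b.idxW

theorem idxQg (g : Ix P p) : (centralizer ((cj g.1 W : Subgroup G) : Set G)).relIndex (o2 P) ≤ 4 := by
  have h1 := relIndex_cj g.1 (centralizer (W : Set G)) (o2 P)
  rw [b.cjQ g, cj_centralizer] at h1
  rw [h1]; exact b.idxQ

/-- `C_{W^g}(A') ≤ L` if `A' ≤ Q` moves `W^g` -/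
theorem idxA (g : Ix P p) {A' : Subgroup G} (hA : A' ≤ o2 P) (hne : ¬ A' ≤ centralizer ((cj g.1 W : Subgroup G) : Set G)) :
    4 ≤ (centralizer (A' : Set G)).relIndex (cj g.1 W) := by
  obtain ⟨q, hq, hqn⟩ := SetLike.not_le_iff_exists.1 hne
  have h1 : cj g.1 W ⊓ centralizer (A' : Set G) ≤ zl (S : Subgroup G) P := by
    intro w hw
    by_contra hwL
    exact hqn (b.freeg g (hA hq) hw.1 hwL (mem_centralizer_iff.1 hw.2 q hq))
  have h2 : (zl (S : Subgroup G) P).relIndex (cj g.1 W) ≤ (cj g.1 W ⊓ centralizer (A' : Set G)).relIndex (cj g.1 W) :=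
    relIndex_le_of_le_left h1 index_ne_zero_of_finite
  rw [inf_relIndex_left] at h2
  exact (b.idxWg g).trans h2

theorem noWg (g : Ix P p) (A' : Subgroup G) (hA : A' ≤ o2 P) (hne : ¬ A' ≤ centralizer ((cj g.1 W : Subgroup G) : Set G)) :
    Nat.card A' * Nat.card ↥(cj g.1 W ⊓ centralizer (A' : Set G)) ≤
      Nat.card (cj g.1 W) * Nat.card ↥(A' ⊓ centralizer ((cj g.1 W : Subgroup G) : Set G)) := by
  rw [FFThm.relIndex_le_iff]
  refine le_trans ?_ (b.idxA g hA hne)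
  exact (relIndex_le_of_le_right hA index_ne_zero_of_finite).trans (b.idxQg g)

theorem lineWg (g : Ix P p) (A' : Subgroup G) (hA : A' ≤ o2 P) (ho : OffM (cj g.1 W) A') :
    CIn A' (cj g.1 W) (cj g.1 (W ⊓ zl (S : Subgroup G) P)) ∧ ∀ Z' : Subgroup G, CIn A' (cj g.1 W) Z' →
      cj g.1 (closure {p 0 * p 1, p 0 * p 4}) ≤ Z' := by
  have hcov : ∀ q ∈ o2 P, ∃ a ∈ A', ∃ c ∈ centralizer ((cj g.1 W : Subgroup G) : Set G), q = a * c := by
    have h1 : 4 ≤ (centralizer ((cj g.1 W : Subgroup G) : Set G)).relIndex A' :=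
      (b.idxA g hA ho.ne).trans (FFThm.relIndex_le_iff.1 ho.le)
    have h2 := b.idxQg g
    set C := o2 P ⊓ centralizer ((cj g.1 W : Subgroup G) : Set G) with hC
    have hn : A' ≤ normalizer (C : Set G) := by
      have h3 : o2 P ≤ normalizer (C : Set G) := by
        have h4 := NO3b.EZero.le_normalizer_inf_cent (b.QWg g)
        exact h4
      exact hA.trans h3
    have h3 := NOne.Flat.Off.card_sup_mul_inf hn
    have h4 : A' ⊓ C = A' ⊓ centralizer ((cj g.1 W : Subgroup G) : Set G) := by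
      rw [hC, ← inf_assoc, inf_eq_left.2 hA]
    rw [h4] at h3
    have h5 := relIndex_mul_card A' (centralizer ((cj g.1 W : Subgroup G) : Set G))
    have h6 := relIndex_mul_card (o2 P) (centralizer ((cj g.1 W : Subgroup G) : Set G))
    rw [← hC] at h6
    have hle : A' ⊔ C ≤ o2 P := sup_le hA inf_le_left
    have hge : Nat.card ↥(o2 P) ≤ Nat.card ↥(A' ⊔ C) := by
      have p1 : 0 < Nat.card ↥(A' ⊓ centralizer ((cj g.1 W : Subgroup G) : Set G)) := Nat.card_pos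
      refine Nat.le_of_mul_le_mul_right (c := Nat.card ↥(A' ⊓ centralizer ((cj g.1 W : Subgroup G) : Set G))) ?_ p1
      rw [h3, ← h5, ← h6]
      calc (centralizer ((cj g.1 W : Subgroup G) : Set G)).relIndex (o2 P) * Nat.card C *
            Nat.card ↥(A' ⊓ centralizer ((cj g.1 W : Subgroup G) : Set G))
          ≤ (centralizer ((cj g.1 W : Subgroup G) : Set G)).relIndex A' * Nat.card C *
            Nat.card ↥(A' ⊓ centralizer ((cj g.1 W : Subgroup G) : Set G)) :=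
            Nat.mul_le_mul_right _ (Nat.mul_le_mul_right _ (h2.trans h1))
        _ = _ := by ring
    have he : A' ⊔ C = o2 P := Subgroup.eq_of_le_of_card_ge hle hge
    intro q hq
    rw [← he] at hq
    obtain ⟨a, ha, c, hc, rfl⟩ := mem_sup_norm hn hq
    exact ⟨a, ha, c, hc.2, rfl⟩
  constructor
  · intro q hq w hw
    have hq' : g.1⁻¹ * q * g.1 ∈ o2 P := by
      have h1 := hA hq
      rw [← b.cjQ g] at h1
      exact mem_cj.1 h1
    have hw' := mem_cj.1 hw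
    rw [mem_cj]
    have e : g.1⁻¹ * (q * w * q⁻¹ * w⁻¹) * g.1 = (g.1⁻¹ * q * g.1) * (g.1⁻¹ * w * g.1) * (g.1⁻¹ * q * g.1)⁻¹ *
        (g.1⁻¹ * w * g.1)⁻¹ := by group
    rw [e]
    exact mem_inf.2 ⟨mul_mem ((mem_normalizer_iff.1 (b.QW hq') _).1 hw') (inv_mem hw'), b.quad _ hq' _ hw'⟩
  · intro Z' hZ'
    have h1 : CIn (o2 P) W (cj g.1⁻¹ Z') := by
      intro q hq w hw
      rw [mem_cj, inv_inv]
      have hq' : g.1 * q * g.1⁻¹ ∈ o2 P := by
        rw [← b.cjQ g]; exact mem_cj_conj hq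
      have hw' : g.1 * w * g.1⁻¹ ∈ cj g.1 W := mem_cj_conj hw
      obtain ⟨a, ha, c, hc, h2⟩ := hcov _ hq'
      have h3 := hZ' a ha _ hw'
      have h4 := mem_centralizer_iff.1 hc _ hw'
      have e : g.1 * (q * w * q⁻¹ * w⁻¹) * g.1⁻¹ = (g.1 * q * g.1⁻¹) * (g.1 * w * g.1⁻¹) * (g.1 * q * g.1⁻¹)⁻¹ *
          (g.1 * w * g.1⁻¹)⁻¹ := by group
      rw [e, h2]
      have e2 : a * c * (g.1 * w * g.1⁻¹) * (a * c)⁻¹ * (g.1 * w * g.1⁻¹)⁻¹ =
          a * (c * (g.1 * w * g.1⁻¹)) * c⁻¹ * a⁻¹ * (g.1 * w * g.1⁻¹)⁻¹ := by group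
      rw [e2, ← h4]
      have e3 : a * (g.1 * w * g.1⁻¹ * c) * c⁻¹ * a⁻¹ * (g.1 * w * g.1⁻¹)⁻¹ =
          a * (g.1 * w * g.1⁻¹) * a⁻¹ * (g.1 * w * g.1⁻¹)⁻¹ := by group
      rw [e3]
      exact h3
    have h2 := b.comm _ h1
    have h3 : closure {p 0 * p 1, p 0 * p 4} ≤ cj g.1⁻¹ Z' := by
      rw [closure_le]
      rintro x (rfl | hx)
      · exact h2.1
      · rw [Set.mem_singleton_iff.1 hx]; exact h2.2
    have h4 := cj_mono g.1 h3
    rwa [cj_cj_inv] at h4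

/-- an element of `P` with given letters -/
theorem exists_perm (σ : Equiv.Perm (Fin 5)) : ∃ g ∈ P, ∀ i, g * p i * g⁻¹ = p (σ i) := b.five.std.full σ

theorem conj_mul {g h x y : G} (hx : h * x * h⁻¹ = y) : (g * h) * x * (g * h)⁻¹ = g * y * g⁻¹ := by
  rw [← hx]; group

/-- `sep` from an element `h ∈ P` exchanging `4` and a letter -/
theorem sep_aux (g : Ix P p) (h : G) (hP : h ∈ P) (h0 : h * p 0 * h⁻¹ = p 0) (h1 : h * p 1 * h⁻¹ = p 1)
    (hx : (g.1 * h) * p 2 * (g.1 * h)⁻¹ = p 4 ∨ (g.1 * h) * p 3 * (g.1 * h)⁻¹ = p 4)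
    (hn : p 0 * p 4 ∉ cj h (closure ({p 0 * p 1, p 0 * p 4, aa p} : Set G))) :
    ∃ j : Ix P p, ¬ cj g.1 (closure {p 0 * p 1, p 0 * p 4}) ≤ cj j.1 (W ⊓ zl (S : Subgroup G) P) ∧
      ∀ x ∈ cj j.1 K ⊔ o2 P, cj x (cj g.1 (closure {p 0 * p 1, p 0 * p 4})) ≤ cj g.1 (W ⊓ zl (S : Subgroup G) P) →
        x ∈ normalizer ((cj j.1 (W ⊓ zl (S : Subgroup G) P) : Subgroup G) : Set G) := by
  refine ⟨⟨g.1 * h, mul_mem g.2.1 hP, hx⟩, fun hle => hn ?_, fun x hxK hle => ?_⟩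
  · have h2 : g.1 * (p 0 * p 4) * g.1⁻¹ ∈ cj g.1 (closure {p 0 * p 1, p 0 * p 4}) :=
      mem_cj_conj (subset_closure (by simp))
    have h3 := hle h2
    have h4 := cj_mono (g.1 * h) b.WL h3
    rw [← cj_cj, mem_cj] at h4
    have e : g.1⁻¹ * (g.1 * (p 0 * p 4) * g.1⁻¹) * g.1 = p 0 * p 4 := by group
    rwa [e] at h4
  · simp only at hxK hle ⊢
    set j : Ix P p := ⟨g.1 * h, mul_mem g.2.1 hP, hx⟩ with hj
    -- `x = j x' j⁻¹`
    have hx' : (g.1 * h)⁻¹ * x * (g.1 * h) ∈ K ⊔ o2 P := by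
      have h2 : cj (g.1 * h) (K ⊔ o2 P) = cj (g.1 * h) K ⊔ o2 P := by
        rw [cj, Subgroup.map_sup]
        congr 1
        exact b.cjQ j
      rw [← h2] at hxK
      exact mem_cj.1 hxK
    have h2 : g.1 * (p 0 * p 1) * g.1⁻¹ ∈ cj g.1 (closure {p 0 * p 1, p 0 * p 4}) :=
      mem_cj_conj (subset_closure (by simp))
    have h3 : x * (g.1 * (p 0 * p 1) * g.1⁻¹) * x⁻¹ ∈ zl (S : Subgroup G) P := by
      have h4 := hle (mem_cj_conj (g := x) h2)
      have h5 := cj_mono g.1 (inf_le_right : W ⊓ zl (S : Subgroup G) P ≤ zl (S : Subgroup G) P) h4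
      rwa [b.cjL g] at h5
    have h01 : h * (p 0 * p 1) * h⁻¹ = p 0 * p 1 := by rw [NTwo.cm, h0, h1]
    have h4 : ((g.1 * h)⁻¹ * x * (g.1 * h)) * (p 0 * p 1) * ((g.1 * h)⁻¹ * x * (g.1 * h))⁻¹ ∈ zl (S : Subgroup G) P := by
      have e : ((g.1 * h)⁻¹ * x * (g.1 * h)) * (p 0 * p 1) * ((g.1 * h)⁻¹ * x * (g.1 * h))⁻¹ =
          (g.1 * h)⁻¹ * (x * (g.1 * (h * (p 0 * p 1) * h⁻¹) * g.1⁻¹) * x⁻¹) * ((g.1 * h)⁻¹)⁻¹ := by group
      rw [e, h01]
      exact (mem_normalizer_iff.1 (b.PL (inv_mem (mul_mem g.2.1 hP))) _).1 h3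
    have h5 := b.ti _ hx' _ (Or.inl rfl) h4
    have h6 := norm_cj (g := g.1 * h) (zpowers_le.2 h5)
    have h7 : x ∈ cj (g.1 * h) (zpowers ((g.1 * h)⁻¹ * x * (g.1 * h))) := by
      rw [mem_cj]; exact mem_zpowers _
    exact h6 h7

theorem sep (g : Ix P p) : ∃ j : Ix P p, ¬ cj g.1 (closure {p 0 * p 1, p 0 * p 4}) ≤ cj j.1 (W ⊓ zl (S : Subgroup G) P) ∧
      ∀ x ∈ cj j.1 K ⊔ o2 P, cj x (cj g.1 (closure {p 0 * p 1, p 0 * p 4})) ≤ cj g.1 (W ⊓ zl (S : Subgroup G) P) →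
        x ∈ normalizer ((cj j.1 (W ⊓ zl (S : Subgroup G) P) : Subgroup G) : Set G) := by
  have hcl : ∀ h : G, ∀ c d e : G, h * (p 0 * p 1) * h⁻¹ = c → h * (p 0 * p 4) * h⁻¹ = d → h * aa p * h⁻¹ = e →
      cj h (closure ({p 0 * p 1, p 0 * p 4, aa p} : Set G)) ≤ closure ({c, d, e} : Set G) := by
    intro h c d e hc hd he
    rw [cj, MonoidHom.map_closure, closure_le]
    rintro _ ⟨x, rfl | rfl | hx, rfl⟩
    · exact subset_closure (Or.inl hc)
    · exact subset_closure (Or.inr (Or.inl hd))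
    · rw [Set.mem_singleton_iff.1 hx]
      exact subset_closure (Or.inr (Or.inr he))
  rcases g.2.2 with h | h
  · -- `h = (3 4)`
    obtain ⟨h', hP, hh⟩ := b.exists_perm (Equiv.swap 3 4)
    have s0 : h' * p 0 * h'⁻¹ = p 0 := hh 0
    have s1 : h' * p 1 * h'⁻¹ = p 1 := hh 1
    have s2 : h' * p 2 * h'⁻¹ = p 2 := hh 2
    have s3 : h' * p 3 * h'⁻¹ = p 4 := hh 3
    have s4 : h' * p 4 * h'⁻¹ = p 3 := hh 4
    refine b.sep_aux g h' hP s0 s1 (Or.inl ?_) fun hm => ?_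
    · rw [b.conj_mul s2, h]
    · have h2 := hcl h' (p 0 * p 1) (p 0 * p 3) (p 2 * p 4) (by rw [NTwo.cm, s0, s1]) (by rw [NTwo.cm, s0, s4])
        (by rw [aa, NTwo.cm, s2, s3]) hm
      exact not_mem b.five.std.toFv (a := 0) (b := 1) (c := 3) (d := 4) (e := 2) (by decide) (by decide) (by decide)
        (by decide) (by decide) (by decide) (by decide) h2
  · obtain ⟨h', hP, hh⟩ := b.exists_perm (Equiv.swap 2 4)
    have s0 : h' * p 0 * h'⁻¹ = p 0 := hh 0
    have s1 : h' * p 1 * h'⁻¹ = p 1 := hh 1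
    have s2 : h' * p 2 * h'⁻¹ = p 4 := hh 2
    have s3 : h' * p 3 * h'⁻¹ = p 3 := hh 3
    have s4 : h' * p 4 * h'⁻¹ = p 2 := hh 4
    refine b.sep_aux g h' hP s0 s1 (Or.inr ?_) fun hm => ?_
    · rw [b.conj_mul s3, h]
    · have h2 := hcl h' (p 0 * p 1) (p 0 * p 2) (p 3 * p 4) (by rw [NTwo.cm, s0, s1]) (by rw [NTwo.cm, s0, s4])
        (by rw [aa, NTwo.cm, s2, s3, b.five.std.comm]) hm
      exact not_mem b.five.std.toFv (a := 0) (b := 1) (c := 2) (d := 4) (e := 3) (by decide) (by decide) (by decide)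
        (by decide) (by decide) (by decide) (by decide) h2

/-- an element `x ∈ S` acting as `(0 1)` moves some `W^g` much -/
theorem act01 {x : G} (hx : x ∈ (S : Subgroup G)) (hσ : ∀ i, x * p i * x⁻¹ = p (Equiv.swap 0 1 i)) :
    ∃ g : Ix P p, 2 < (centralizer ({x} : Set G)).relIndex (cj g.1 W) := by
  obtain ⟨g₀, hg₀, hh⟩ := b.exists_perm (Equiv.swap 2 4)
  -- the action of `g₀⁻¹ x g₀`
  have hinv : ∀ i, g₀⁻¹ * p i * g₀ = p (Equiv.swap 2 4 i) := by
    intro i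
    have h1 := hh (Equiv.swap 2 4 i)
    rw [Equiv.swap_apply_self] at h1
    rw [← h1]; group
  set a := g₀⁻¹ * x * g₀ with ha
  have haP : a ∈ P := mul_mem (mul_mem (inv_mem hg₀) (b.SP hx)) hg₀
  have haσ : ∀ i, a * p i * a⁻¹ = p (Equiv.swap 0 1 i) := by
    intro i
    have e : a * p i * a⁻¹ = g₀⁻¹ * (x * (g₀ * p i * g₀⁻¹) * x⁻¹) * g₀ := by rw [ha]; group
    rw [e, hh, hσ, hinv]
    congr 1
    clear e
    revert i
    decide
  -- `a ∈ C_P(L) S`
  set C0 := P ⊓ centralizer (zl (S : Subgroup G) P : Set G) with hC0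
  have hPC : P ≤ normalizer (C0 : Set G) := NO3b.EZero.le_normalizer_inf_cent b.PL
  have hax : a * x⁻¹ ∈ C0 := by
    refine mem_inf.2 ⟨mul_mem haP (inv_mem (b.SP hx)), ?_⟩
    rw [b.five.gen, centralizer_closure, mem_centralizer_iff]
    rintro _ ⟨i, rfl⟩
    have hxi : x⁻¹ * p i * x = p (Equiv.swap 0 1 i) := by
      have h1 := hσ (Equiv.swap 0 1 i)
      rw [Equiv.swap_apply_self] at h1
      rw [← h1]; group
    have h1 : (a * x⁻¹) * p i * (a * x⁻¹)⁻¹ = p i := by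
      have e : (a * x⁻¹) * p i * (a * x⁻¹)⁻¹ = a * (x⁻¹ * p i * x) * a⁻¹ := by group
      rw [e, hxi, haσ, Equiv.swap_apply_self]
    exact (NTwo.comm_iff.1 h1).symm
  have hSC : (S : Subgroup G) ≤ normalizer (C0 : Set G) := b.SP.trans hPC
  have haSC : a ∈ (S : Subgroup G) ⊔ C0 := by
    have h1 : a = (a * x⁻¹) * x := by group
    rw [h1]
    exact mul_mem (mem_sup_right hax) (mem_sup_left hx)
  have h2a : IsPGroup 2 (zpowers a) := by
    have h1 : zpowers a = cj g₀⁻¹ (zpowers x) := by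
      rw [cj, MonoidHom.map_zpowers]
      congr 1
      simp [ha]
    rw [h1]
    exact isPGroup_cj _ (S.isPGroup'.to_le (zpowers_le.2 hx))
  obtain ⟨n, hn, hnS⟩ := NO3b.Union.exists_conj_le (S := S) (N := (S : Subgroup G) ⊔ C0) le_sup_left h2a
    (zpowers_le.2 haSC)
  obtain ⟨s, hs, c, hc, rfl⟩ := mem_sup_norm hSC hn
  have h3 : c * a * c⁻¹ ∈ (S : Subgroup G) := by
    have h4 : (s * c) * a * (s * c)⁻¹ ∈ (S : Subgroup G) := hnS (mem_cj_conj (mem_zpowers a))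
    have h5 := mul_mem (mul_mem (inv_mem hs) h4) hs
    have e : s⁻¹ * ((s * c) * a * (s * c)⁻¹) * s = c * a * c⁻¹ := by group
    rwa [e] at h5
  have hcp : ∀ i, c * p i * c⁻¹ = p i := fun i =>
    NTwo.comm_iff.2 (mem_centralizer_iff.1 hc.2 _ (b.pL i)).symm
  have hcp' : ∀ i, c⁻¹ * p i * c = p i := by
    intro i
    have h1 := hcp i
    calc c⁻¹ * p i * c = c⁻¹ * (c * p i * c⁻¹) * c := by rw [h1]
      _ = p i := by group
  have hb' : ∀ i, (c * a * c⁻¹) * p i * (c * a * c⁻¹)⁻¹ = p (Equiv.swap 0 1 i) := by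
    intro i
    have e : (c * a * c⁻¹) * p i * (c * a * c⁻¹)⁻¹ = c * (a * (c⁻¹ * p i * c) * a⁻¹) * c⁻¹ := by group
    rw [e, hcp', haσ, hcp]
  have h4 := b.mvB _ h3 (hb' 0) (hb' 1) (hb' 2) (hb' 3)
  refine ⟨⟨g₀ * c⁻¹, mul_mem hg₀ (inv_mem hc.1), Or.inl ?_⟩, ?_⟩
  · have e : (g₀ * c⁻¹) * p 2 * (g₀ * c⁻¹)⁻¹ = g₀ * (c⁻¹ * p 2 * c) * g₀⁻¹ := by group
    rw [e, hcp', hh]
    rfl
  · have h5 := relIndex_cj (g₀ * c⁻¹) (centralizer ({c * a * c⁻¹} : Set G)) W
    rw [cj_cent_sing] at h5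
    have e : g₀ * c⁻¹ * (c * a * c⁻¹) * (g₀ * c⁻¹)⁻¹ = x := by rw [ha]; group
    rw [e] at h5
    rw [h5]
    exact h4

theorem actL (A' : Subgroup G) (hA : A' ≤ (S : Subgroup G)) (ho : OffM (zl (S : Subgroup G) P) A') :
    ∃ a ∈ A', ∃ g : Ix P p, (centralizer ({a} : Set G)).relIndex (zl (S : Subgroup G) P) <
      (centralizer ({a} : Set G)).relIndex (cj g.1 W) := by
  obtain ⟨Y⟩ := b.sym
  have hcv : cv (S : Subgroup G) P = ⊥ := b.five.toHyp.cen
  obtain ⟨-, h1⟩ := Y.offM A' hA ho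
  obtain ⟨a, ha, hne⟩ := SetLike.not_le_iff_exists.1 ho.ne
  obtain ⟨τ, hτ, h2⟩ := h1 a ha
  -- `τ 0 ≠ 1`
  have hLn : ∀ y ∈ A', ∀ v ∈ zl (S : Subgroup G) P, y * v * y⁻¹ ∈ zl (S : Subgroup G) P := fun y hy v hv =>
    (mem_normalizer_iff.1 (b.PL (b.SP (hA hy))) v).1 hv
  have hinj : ∀ v ∈ zl (S : Subgroup G) P, ∀ w ∈ zl (S : Subgroup G) P, Y.e v = Y.e w → v = w := by
    intro v hv w hw h
    have hw2 : w * w = 1 := by
      have := b.Xs w (b.LX hw)
      rwa [pow_two] at this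
    have h3 : Y.e (v * w) = 0 := by
      rw [Y.mul v hv w hw, h]
      funext i x
      exact CharTwo.add_self_eq_zero _
    have h4 := (Y.ker _ (mul_mem hv hw)).1 h3
    rw [hcv, mem_bot] at h4
    calc v = v * (w * w) := by rw [hw2, mul_one]
      _ = v * w * w := by rw [mul_assoc]
      _ = w := by rw [h4, one_mul]
  obtain ⟨x, hx⟩ : ∃ x, τ 0 x ≠ x := by
    by_contra hcon
    push Not at hcon
    apply hne
    rw [mem_centralizer_iff]
    intro v hv
    have h3 : a * v * a⁻¹ = v := by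
      refine hinj _ (hLn a ha v hv) _ hv ?_
      funext i y
      have hi : i = 0 := Subsingleton.elim _ _
      subst hi
      have h4 := hτ v hv 0 y
      rw [hcon y] at h4
      exact h4
    exact (NTwo.comm_iff.1 h3).symm
  obtain ⟨-, c, hc, h3⟩ := h2 0 x hx
  set y := τ 0 x with hy
  -- `c` acts as the transposition `(x y)`
  have hact : ∀ v ∈ zl (S : Subgroup G) P, ∀ w, Y.e (c * v * c⁻¹) 0 (Equiv.swap x y w) = Y.e v 0 w := by
    intro v hv w
    have h4 := h3 v hv 0 w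
    simpa using h4
  have hfix : ∀ v ∈ zl (S : Subgroup G) P, Y.e v 0 x = Y.e v 0 y → v ∈ centralizer ({c} : Set G) := by
    intro v hv he
    rw [mem_centralizer_singleton_iff]
    have h4 : c * v * c⁻¹ = v := by
      refine hinj _ (hLn c hc v hv) _ hv ?_
      funext i w
      have hi : i = 0 := Subsingleton.elim _ _
      subst hi
      have h5 := hact v hv (Equiv.swap x y w)
      rw [Equiv.swap_apply_self] at h5
      rw [h5]
      by_cases hwx : w = x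
      · rw [hwx, Equiv.swap_apply_left, he]
      · by_cases hwy : w = y
        · rw [hwy, Equiv.swap_apply_right, he]
        · rw [Equiv.swap_apply_of_ne_of_ne hwx hwy]
    exact (NTwo.comm_iff.1 h4).symm
  have hidx : (centralizer ({c} : Set G)).relIndex (zl (S : Subgroup G) P) ≤ 2 := by
    have h4 : (centralizer ({c} : Set G)).relIndex (zl (S : Subgroup G) P) ∣ 2 := by
      rw [relIndex_dvd_two_iff]
      by_cases hall : ∀ v ∈ zl (S : Subgroup G) P, Y.e v 0 x = Y.e v 0 y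
      · exact ⟨1, one_mem _, fun v hv => Or.inr (hfix v hv (hall v hv))⟩
      · push Not at hall
        obtain ⟨v₀, hv₀, hne₀⟩ := hall
        refine ⟨v₀, hv₀, fun v hv => ?_⟩
        by_cases he : Y.e v 0 x = Y.e v 0 y
        · exact Or.inr (hfix v hv he)
        · left
          apply hfix _ (mul_mem hv hv₀)
          rw [Y.mul v hv v₀ hv₀]
          have hz : ∀ s t s' t' : ZMod 2, s ≠ t → s' ≠ t' → s + s' = t + t' := by decide
          exact hz _ _ _ _ he hne₀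
    exact Nat.le_of_dvd (by norm_num) h4
  have hmv : c ∉ centralizer (zl (S : Subgroup G) P : Set G) := by
    intro hcon
    -- a vector with `e v 0 x ≠ e v 0 y`
    have hxy : x ≠ y := fun h => hx (h ▸ rfl)
    obtain ⟨z, hzx, hzy⟩ : ∃ z : Fin (2 ^ 2 + 1), z ≠ x ∧ z ≠ y := by
      have : ∀ x y : Fin (2 ^ 2 + 1), ∃ z : Fin (2 ^ 2 + 1), z ≠ x ∧ z ≠ y := by decide
      exact this x y
    obtain ⟨v, hv, he⟩ := Y.surj (fun _ w => if w = x ∨ w = z then 1 else 0) (by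
      intro i
      have : ∀ x z : Fin (2 ^ 2 + 1), z ≠ x → ∑ w : Fin (2 ^ 2 + 1), (if w = x ∨ w = z then (1 : ZMod 2) else 0) = 0 := by
        decide
      exact this x z hzx)
    have h4 := hact v hv x
    rw [Equiv.swap_apply_left] at h4
    have h5 : c * v * c⁻¹ = v := NTwo.comm_iff.2 (mem_centralizer_iff.1 hcon v hv).symm
    rw [h5, he] at h4
    simp only [true_or, if_true] at h4
    rw [if_neg (by
      push Not
      exact ⟨fun h => hxy h.symm, fun h => hzy h.symm⟩)] at h4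
    exact zero_ne_one h4
  have hcS := hA hc
  rcases swap_of b.five.std b.five.gen hcS hmv hidx with h4 | h4
  · obtain ⟨g, hg⟩ := b.act01 hcS h4
    exact ⟨c, hc, g, by omega⟩
  · obtain ⟨τ', hτ', h5⟩ := b.five.std.tau
    -- the letters of `τ'`
    obtain ⟨ρ, hρ⟩ := b.five.std.perm τ' (b.SP hτ')
    have h6 : (ρ 0 = 2 ∧ ρ 1 = 3) ∨ (ρ 0 = 3 ∧ ρ 1 = 2) := by
      rw [NTwo.cm, hρ, hρ] at h5
      exact pair_eq b.five.std.toFv (by decide) h5.symm
    have h7 : (ρ 2 = 0 ∧ ρ 3 = 1) ∨ (ρ 2 = 1 ∧ ρ 3 = 0) := by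
      have h8 := b.five.std.s_eq_conj hτ' h5
      rw [aa, NTwo.cm, hρ, hρ] at h8
      exact pair_eq b.five.std.toFv (by decide) h8.symm
    have h8 : ∀ i, (τ' * c * τ'⁻¹) * p i * (τ' * c * τ'⁻¹)⁻¹ = p (Equiv.swap 0 1 i) := by
      intro i
      have hρ' : τ'⁻¹ * p i * τ' = p (ρ.symm i) := by
        have h9 := hρ (ρ.symm i)
        rw [Equiv.apply_symm_apply] at h9
        rw [← h9]; group
      have e : (τ' * c * τ'⁻¹) * p i * (τ' * c * τ'⁻¹)⁻¹ = τ' * (c * (τ'⁻¹ * p i * τ') * c⁻¹) * τ'⁻¹ := by group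
      rw [e, hρ', h4, hρ]
      congr 1
      have : ∀ ρ : Equiv.Perm (Fin 5), ((ρ 2 = 0 ∧ ρ 3 = 1) ∨ (ρ 2 = 1 ∧ ρ 3 = 0)) → ∀ i,
          ρ (Equiv.swap 2 3 (ρ.symm i)) = Equiv.swap 0 1 i := by
        intro ρ h i
        have e1 : ρ * Equiv.swap 2 3 * ρ⁻¹ = Equiv.swap (ρ 2) (ρ 3) := by
          rw [Equiv.swap_apply_apply, mul_assoc]
        have e2 := congrArg (fun σ : Equiv.Perm (Fin 5) => σ i) e1
        simp only [Equiv.Perm.mul_apply] at e2
        rw [show (ρ⁻¹ : Equiv.Perm (Fin 5)) i = ρ.symm i from rfl] at e2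
        rw [e2]
        rcases h with ⟨h1, h2⟩ | ⟨h1, h2⟩
        · rw [h1, h2]
        · rw [h1, h2, Equiv.swap_comm]
      exact this ρ h7 i
    obtain ⟨g, hg⟩ := b.act01 (mul_mem (mul_mem hτ' hcS) (inv_mem hτ')) h8
    have hτ4 : τ'⁻¹ * p 4 * τ' = p 4 := by
      have h9 := b.five.std.fix _ (inv_mem hτ')
      rwa [inv_inv] at h9
    refine ⟨c, hc, ⟨τ'⁻¹ * g.1, mul_mem (inv_mem (b.SP hτ')) g.2.1, ?_⟩, ?_⟩
    · rcases g.2.2 with h9 | h9
      · left
        have e : (τ'⁻¹ * g.1) * p 2 * (τ'⁻¹ * g.1)⁻¹ = τ'⁻¹ * (g.1 * p 2 * g.1⁻¹) * τ' := by group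
        rw [e, h9, hτ4]
      · right
        have e : (τ'⁻¹ * g.1) * p 3 * (τ'⁻¹ * g.1)⁻¹ = τ'⁻¹ * (g.1 * p 3 * g.1⁻¹) * τ' := by group
        rw [e, h9, hτ4]
    · have h9 := relIndex_cj τ'⁻¹ (centralizer ({τ' * c * τ'⁻¹} : Set G)) (cj g.1 W)
      rw [cj_cent_sing, cj_cj] at h9
      have e : τ'⁻¹ * (τ' * c * τ'⁻¹) * τ'⁻¹⁻¹ = c := by group
      rw [e] at h9
      simp only
      rw [h9]
      omega

theorem noOver : NoOverM (zl (S : Subgroup G) P) P := by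
  obtain ⟨A', hA', ho⟩ := b.cl.ff P b.cl.pss
  exact (FF.Glob.ffthmM G (S : Subgroup G) P ⟨b.SP, S.isPGroup', fun _ _ hT hST => S.is_maximal' hT hST⟩
    b.cl.pss.par.toIsMinPar (b.cl.pss.par.isLoc.char2 S b.cl.ctx.char2) ⟨A', hA'.trans b.SP, ho⟩).1

theorem exists_ix : ∃ g : Ix P p, g.1 ∈ P := by
  obtain ⟨g, hg, h⟩ := b.exists_perm (Equiv.swap 2 4)
  exact ⟨⟨g, hg, Or.inl (h 2)⟩, hg⟩

theorem five' : Five (RR S P K p) (S : Subgroup G) (o2 P) (zl (S : Subgroup G) P) (NN S P K p) (R0 S P)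
    (fun g : Ix P p => cj g.1 W) (fun g => cj g.1 K) (fun g => cj g.1 (closure {p 0 * p 1, p 0 * p 4}))
    (fun g => cj g.1 (W ⊓ zl (S : Subgroup G) P)) (fun g => cj g.1 A) where
  Nc := b.NN_X.trans (b.Xc.trans (centralizer_le b.NN_X))
  Ns := fun n hn => b.Xs n (b.NN_X hn)
  RN := b.RN
  SR := b.S_RR
  syl := fun Y hY hY2 => NO3b.Union.exists_conj_le b.S_RR hY2 hY
  QS := b.QS
  SQL := (b.cl.pss.par.inf_centralizer S b.cl.ctx.char2).le
  LN := b.L_NN
  QL := b.QL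
  R0R := le_sup_left
  R0Q := inf_le_left.trans b.PQ
  KR := fun g => (le_iSup (fun g : Ix P p => cj g.1 K) g).trans le_sup_right
  gen := le_rfl
  Ngen := fun Y hLY hRY => cl_le fun r hr => by
    have h1 := cj_mono r hLY
    rwa [cj_eq_of_mem_normalizer (hRY hr)] at h1
  WN := b.WN
  KPI := fun g => by
    rw [b.PIg g]
    exact norm_cj b.PI
  QPI := fun g => NO3b.EZero.le_normalizer_inf_cent (b.QWg g)
  off := by
    obtain ⟨g, hg⟩ := b.exists_ix
    have hle : cj g.1 A ≤ o2 P := by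
      have h1 := cj_mono g.1 b.AQ
      rwa [b.cjQ g] at h1
    refine ⟨cj g.1 A, hle.trans (b.QS.trans b.S_RR), (b.best g.1 hg _ b.NN_X b.NN_low).offM le_rfl fun h => b.mv ?_⟩
    have h1 : cj g.1 A ≤ centralizer ((cj g.1 W : Subgroup G) : Set G) := h.trans (centralizer_le (b.WN g))
    rw [← cj_centralizer] at h1
    have h2 := cj_mono g.1⁻¹ h1
    rwa [cj_inv_cj, cj_inv_cj] at h2
  noL := fun Y hY hE _ => b.noOver Y (hY.trans b.SP) hE
  actL := b.actL
  noW := fun g Y hY _ hne => b.noWg g Y hY hne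
  lineW := fun g Y hY ho => b.lineWg g Y hY ho
  sep := b.sep
  EQ := fun g => by
    have h1 := cj_mono g.1 b.AQ
    rwa [b.cjQ g] at h1
  quad := fun g t ht n hn => by
    rw [mem_centralizer_iff]
    intro y hy
    exact (b.qd g.1 g.2.1 n (b.NN_X hn) (b.NN_low hn) t ht y hy).symm
  reg := fun g => by
    obtain ⟨y, hy, t, ht, t', ht', n1, n2, n3⟩ := b.reg
    have hKQ : cj g.1 (K ⊔ o2 P) = cj g.1 K ⊔ o2 P := by
      rw [cj, Subgroup.map_sup]
      congr 1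
      exact b.cjQ g
    have key : ∀ x : G, x ∉ normalizer (cj y (W ⊓ zl (S : Subgroup G) P) : Set G) →
        g.1 * x * g.1⁻¹ ∉ normalizer ((cj (g.1 * y * g.1⁻¹) (cj g.1 (W ⊓ zl (S : Subgroup G) P)) : Subgroup G) :
          Set G) := by
      intro x hx hcon
      apply hx
      have e : cj (g.1 * y * g.1⁻¹) (cj g.1 (W ⊓ zl (S : Subgroup G) P)) =
          cj g.1 (cj y (W ⊓ zl (S : Subgroup G) P)) := by
        rw [cj_cj, cj_cj]
        congr 1
        group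
      rw [e, ← cj_normalizer, mem_cj] at hcon
      have e2 : g.1⁻¹ * (g.1 * x * g.1⁻¹) * g.1 = x := by group
      rwa [e2] at hcon
    refine ⟨g.1 * y * g.1⁻¹, hKQ ▸ mem_cj_conj hy, g.1 * t * g.1⁻¹, mem_cj_conj ht, g.1 * t' * g.1⁻¹,
      mem_cj_conj ht', key t n1, key t' n2, ?_⟩
    have e : g.1 * t * g.1⁻¹ * (g.1 * t' * g.1⁻¹) = g.1 * (t * t') * g.1⁻¹ := by group
    rw [e]
    exact key _ n3

/-- **(TOR) for one block `S₅`.** -/
theorem false_of : False := b.five'.false_of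

end SBase

end Cfsg.Agent.Omega.NO3S.WY.TorFive

end

section


/-!
# THEOREM TOR: the glue over the frame `Cx`, `Off`, `TY`, `Pr`

`TY.false_of` : the contradiction from the literals of the pieces of bb #26054 / #26158:
(0) = `TY.ker_all` (570, 491), (1) = `TY.cent_VV` (150), (2) = `UniB.uni` (822), `F_eq` (2F), (2+) = `TY.cj_W_eq` (613), (3) = `TY.W_le_o2`
(150), (4+) = `FourTY.kc` (594), (Sig) and (6) = `TY.false_end`.
-/

set_option autoImplicit false

namespace Cfsg.Agent.Omega.NO3S.WY.Tor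

open Subgroup Cfsg Cfsg.Agent.ZN Cfsg.Agent.ZN.ChoiceBase
open Cfsg.Agent.MinSimple.VModule (oddGen)

universe u

variable {G : Type u} [Group G] {ι : Type}

/-- **THEOREM TOR**, the glue. -/
theorem TY.false_of [Finite G] {S B Q M X L : Subgroup G} {V : ι → Subgroup G} {z : ι → G} {𝓦 : Set (Subgroup G)}
    {j : ι} {Y W F : Subgroup G} {z₀ : G} (c : Cx S B Q M X L V z) (o : Off S Q M X L 𝓦)
    (h : TY S B Q M X V z 𝓦 j Y W F) (p : Pr S M L V z z₀)
    (hne : ∃ i, i ≠ j)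
    (F_eq : (∀ g ∈ M, g ∈ normalizer (Q : Set G) → cj g (V j) = V j → cj g W ≤ W ⊔ L) → F = ⊥) : False := by
  have hk : KerY Q X Y := h.ker_all c
  have cVV := h.cent_VV c o hk
  have uni := UniB.uni c o h hne cVV
  have hF := F_eq uni
  have W3 := h.W_le_o2 c hF cVV
  have up : ∀ g ∈ M, g ∈ normalizer (Q : Set G) → cj g (V j) = V j → cj g W = W := fun g hg hQ hV =>
    TY.cj_W_eq c h hF cVV uni hg hQ hV
  exact h.false_end c hF p (fun s hs e => up s (c.SM hs) (c.SnQ hs) e) (FourTY.kc c o h hF hk cVV W3 up)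

end Cfsg.Agent.Omega.NO3S.WY.Tor

end

section


/-!
# THEOREM TOR: (2+) over the frame `Cx`, `TY` (helper491 #25169, helper613's `UniEq.eq_of_le`)

* `Cx.syl_VV` : `C_B(V_(j))` is a Sylow 2-subgroup of every `N*`, `C_B(V_(j)) ≤ N* ≤ C_G(V_(j))`;
* `TY.irr` : `W` is an irreducible `Y`-module (`F = 1`);
* `TY.WS_eq` : `W^g = W` for `g ∈ M ∩ N(Q) ∩ N(V_j)`, if `W^g ≤ W L` and `O²(Y)` centralises `V_(j)`.
-/

set_option autoImplicit false
set_option linter.unusedSectionVars false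

namespace Cfsg.Agent.Omega.NO3S.WY.Tor

open Subgroup Cfsg Cfsg.Agent.ZN Cfsg.Agent.ZN.ChoiceBase
open Cfsg.Agent.ZN.ChoiceSit (Syl syl_not_dvd syl_conj)
open Cfsg.Agent.MinSimple.MinParabolic (IsMinPar)
open Cfsg.Agent.MinSimple.VModule (oddGen mem_oddGen)

open scoped commutatorElement

universe u

variable {G : Type u} [Group G] {ι : Type}

namespace Cx

variable {S B Q M X L : Subgroup G} {V : ι → Subgroup G} {z : ι → G} (c : Cx S B Q M X L V z)
include c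

theorem Q_V {q v : G} {i : ι} (hq : q ∈ Q) (hv : v ∈ V i) : q * v = v * q := c.cQL q hq v (c.VLe i hv)

theorem wB2 : IsPGroup 2 B := c.S2.to_le c.BS

theorem wBV (i : ι) : B ≤ normalizer (V i : Set G) := by
  intro b hb
  rw [mem_normalizer_iff_cj]
  obtain ⟨m, hm⟩ := c.perm b (c.SnQ (c.BS hb)) i
  have h1 : z i ∈ V m := by
    rw [← hm]
    refine ⟨z i, c.zV i, ?_⟩
    show b * z i * b⁻¹ = z i
    rw [c.Bz b hb i]; group
  rw [hm, c.V_inj' (c.zV i) h1 (c.z1 i)]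

theorem wcj_VV {g : G} (hg : g ∈ normalizer (Q : Set G)) {i j : ι} (e : cj g (V i) = V j) :
    cj g (VV V i) = VV V j := by
  have key : ∀ {g : G} (_ : g ∈ normalizer (Q : Set G)) {i j : ι} (_ : cj g (V i) = V j),
      cj g (VV V i) ≤ VV V j := by
    intro g hg i j e
    rw [cj_le_iff]
    refine iSup₂_le fun l hl => ?_
    rw [← cj_le_iff]
    obtain ⟨m, hm⟩ := c.perm g hg l
    rw [hm]
    refine le_iSup₂_of_le (f := fun l (_ : l ≠ j) => V l) m ?_ le_rfl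
    rintro rfl
    have h1 : V l = V i := by rw [← cj_inv_cj g (V l), hm, ← e, cj_inv_cj]
    exact hl (c.V_inj' (c.zV i) (by rw [h1]; exact c.zV i) (c.z1 i))
  refine le_antisymm (key hg e) ?_
  have h1 : cj g⁻¹ (V j) = V i := by rw [← e, cj_inv_cj]
  have h2 := key (inv_mem hg) h1
  rwa [cj_le_iff, inv_inv] at h2

theorem wVV_L (j : ι) : VV V j ≤ L := iSup₂_le fun i _ => c.VLe i

theorem wL_eq (j : ι) : L = V j ⊔ VV V j := by
  refine le_antisymm ?_ (sup_le (c.VLe j) (c.wVV_L j))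
  rw [c.eL]
  refine iSup_le fun i => ?_
  by_cases e : i = j
  · rw [e]; exact le_sup_left
  · exact (le_iSup₂_of_le (f := fun l (_ : l ≠ j) => V l) i e le_rfl : V i ≤ VV V j).trans le_sup_right

/-- `C_B(V_(j))` is a Sylow 2-subgroup of `C_G(V_(j))` and of everything between. -/
theorem syl_VV [Finite G] (j : ι) {N : Subgroup G} (h1 : B ⊓ centralizer (VV V j : Set G) ≤ N)
    (h2 : N ≤ centralizer (VV V j : Set G)) : Syl (B ⊓ centralizer (VV V j : Set G)) N := by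
  refine ⟨h1, c.wB2.to_le inf_le_left, fun T hTN hT hBT => ?_⟩
  -- `H = C B`
  have hBC : B ≤ normalizer ((centralizer (VV V j : Set G) : Subgroup G) : Set G) := by
    intro b hb
    rw [mem_normalizer_iff_cj, cj_centralizer, c.wcj_VV (c.SnQ (c.BS hb)) (cj_eq_of_mem_normalizer (c.wBV j hb))]
  set H : Subgroup G := centralizer (VV V j : Set G) ⊔ B with hH
  have hHC : H ≤ normalizer ((centralizer (VV V j : Set G) : Subgroup G) : Set G) := sup_le le_normalizer hBC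
  have hBH : Syl B H := by
    refine ⟨le_sup_right, c.wB2, fun R hRH hR hBR => ?_⟩
    refine le_antisymm (c.sylB j R hR hBR fun i hi x hx => ?_) hBR
    have h3 : H ≤ centralizer ({z i} : Set G) := by
      refine sup_le (centralizer_le ?_) fun b hb => mem_centralizer_singleton_iff.2 (c.Bz b hb i)
      intro y hy
      rw [Set.mem_singleton_iff.1 hy]
      exact (le_iSup₂_of_le (f := fun l (_ : l ≠ j) => V l) i hi le_rfl : V i ≤ VV V j) (c.zV i)
    exact mem_centralizer_singleton_iff.1 (h3 (hRH hx))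
  obtain ⟨T', hT', hTT'⟩ := ChoiceSit.exists_syl hT ((hTN.trans h2).trans (le_sup_left : _ ≤ H))
  obtain ⟨x, hx, hx'⟩ := syl_conj hT' hBH
  have h3 : cj x T ≤ B ⊓ centralizer (VV V j : Set G) := by
    refine le_inf ((cj_mono x hTT').trans hx'.le) ?_
    have h4 := cj_mono x (hTN.trans h2)
    rwa [cj_eq_of_mem_normalizer (hHC hx)] at h4
  refine (Subgroup.eq_of_le_of_card_ge hBT ?_).symm
  rw [← card_cj x T]
  exact Subgroup.card_le_of_le h3

end Cx

namespace TY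

variable {S B Q M X L : Subgroup G} {V : ι → Subgroup G} {z : ι → G} {𝓦 : Set (Subgroup G)} {j : ι}
  {Y W F : Subgroup G}

/-- `W` is irreducible. -/
theorem irr [Finite G] (h : TY S B Q M X V z 𝓦 j Y W F) (c : Cx S B Q M X L V z) (hF : F = ⊥) {U : Subgroup G}
    (hU : U ≤ W) (hYU : Y ≤ normalizer (U : Set G)) (h1 : U ≠ ⊥) : W ≤ U := by
  subst hF
  have hBY : B ≤ Y := h.min.le
  obtain ⟨u, hu, hu1, huf⟩ := End.exists_fix (c.wB2) (c.S2.to_le (hU.trans (h.WX.trans c.XS))) h1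
    fun x hx v hv => (mem_normalizer_iff.1 (hYU (hBY hx)) v).1 hv
  have hc : ∀ b ∈ B, b * u = u * b := fun b hb => by
    calc b * u = b * u * b⁻¹ * b := by group
      _ = u * b := by rw [huf b hb]
  have huV : u ∈ V j := by
    have := h.cWQ u (hU hu) fun q hq => hc q (c.QB hq)
    rwa [sup_bot_eq] at this
  obtain ⟨t, ht, -, v, hv, hne⟩ := c.t j
  -- `u = z j`
  have huz : u = z j := by
    by_contra hne'
    apply hne
    have h4 := c.cV j
    have hfin : Finite (V j) := Nat.finite_of_card_ne_zero (by rw [h4]; norm_num)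
    -- the centraliser of `t` in `V j` contains `1, u, z j`
    have h5 : V j ≤ centralizer ({t} : Set G) := by
      have h6 : 2 < Nat.card ↥(V j ⊓ centralizer ({t} : Set G)) := by
        have hm1 : (1 : G) ∈ V j ⊓ centralizer ({t} : Set G) := one_mem _
        have hmu : u ∈ V j ⊓ centralizer ({t} : Set G) :=
          ⟨huV, mem_centralizer_singleton_iff.2 (hc t ht).symm⟩
        have hmz : z j ∈ V j ⊓ centralizer ({t} : Set G) :=
          ⟨c.zV j, mem_centralizer_singleton_iff.2 (c.Bz t ht j).symm⟩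
        classical
        have : Fintype ↥(V j ⊓ centralizer ({t} : Set G)) := Fintype.ofFinite _
        have h7 : ({⟨1, hm1⟩, ⟨u, hmu⟩, ⟨z j, hmz⟩} : Finset ↥(V j ⊓ centralizer ({t} : Set G))).card = 3 := by
          rw [Finset.card_eq_three]
          exact ⟨_, _, _, fun e => hu1 (congrArg Subtype.val e).symm, fun e => c.z1 j (congrArg Subtype.val e).symm,
            fun e => hne' (congrArg Subtype.val e), rfl⟩
        have h8 := Finset.card_le_univ ({⟨1, hm1⟩, ⟨u, hmu⟩, ⟨z j, hmz⟩} : Finset ↥(V j ⊓ centralizer ({t} : Set G)))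
        rw [h7, ← Nat.card_eq_fintype_card] at h8
        omega
      have h7 : Nat.card ↥(V j ⊓ centralizer ({t} : Set G)) ∣ 4 := by
        rw [← h4]; exact Subgroup.card_dvd_of_le inf_le_left
      have h8 : Nat.card ↥(V j ⊓ centralizer ({t} : Set G)) = 4 := by
        have := Nat.le_of_dvd (by norm_num) h7
        interval_cases hh : Nat.card ↥(V j ⊓ centralizer ({t} : Set G)) <;> omega
      exact inf_eq_left.1 (Subgroup.eq_of_le_of_card_ge inf_le_left (by rw [h4, h8]))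
    exact (mem_centralizer_singleton_iff.1 (h5 hv)).symm
  exact h.gen U (by rw [← huz]; exact hu) hYU

/-- `W = [W, O²(Y)]` -/
theorem w_le_comm [Finite G] (h : TY S B Q M X V z 𝓦 j Y W F) (c : Cx S B Q M X L V z) (hF : F = ⊥) :
    W ≤ ⁅W, oddGen Y⁆ := by
  have hKY := MinSimple.VModule.oddGen_le Y
  refine h.irr c hF ?_ ?_ ?_
  · rw [commutator_le]
    intro w hw k hk
    rw [commutatorElement_def, mul_assoc, mul_assoc]
    refine mul_mem hw ?_
    rw [← mul_assoc]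
    exact (mem_normalizer_iff.1 (h.YW (hKY hk)) _).1 (inv_mem hw)
  · intro y hy
    have h1 := cj_eq_of_mem_normalizer (h.YW hy)
    have h2 := cj_eq_of_mem_normalizer (MinSimple.VModule.le_normalizer_oddGen Y hy)
    rw [mem_normalizer_iff_cj, show cj y ⁅W, oddGen Y⁆ = ⁅cj y W, cj y (oddGen Y)⁆ from map_commutator _ _ _, h1, h2]
  · intro e
    obtain ⟨l, hl, v, hv, hlv⟩ := (h.n4 c hF).mv
    have h1 : oddGen Y ⊔ Q ≤ normalizer (V j : Set G) := by
      refine sup_le (fun k hk => ?_) (c.QB.trans (c.wBV j))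
      have h2 : k ∈ centralizer (W : Set G) := by
        rw [mem_centralizer_iff]
        intro w hw
        have h3 : ⁅w, k⁆ = 1 := by
          have : ⁅w, k⁆ ∈ ⁅W, oddGen Y⁆ := commutator_mem_commutator hw hk
          rwa [e, mem_bot] at this
        exact commutatorElement_eq_one_iff_mul_comm.1 h3
      exact centralizer_le_normalizer _ (centralizer_le h.VW h2)
    exact hlv ((mem_normalizer_iff.1 (h1 hl) v).1 hv)

theorem inf_VV (h : TY S B Q M X V z 𝓦 j Y W F) (c : Cx S B Q M X L V z) (hF : F = ⊥) : W ⊓ VV V j = ⊥ := by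
  subst hF
  rw [eq_bot_iff, ← c.ind j]
  rintro x ⟨hx, hx'⟩
  refine ⟨?_, hx'⟩
  have := h.cWQ x hx fun q hq => c.cQL q hq x (c.wVV_L j hx')
  rwa [sup_bot_eq] at this

/-- **(2+)** -/
theorem WS_eq [Finite G] (h : TY S B Q M X V z 𝓦 j Y W F) (c : Cx S B Q M X L V z) (hF : F = ⊥)
    (cV : oddGen Y ≤ centralizer (VV V j : Set G)) {g : G} (hQ : g ∈ normalizer (Q : Set G))
    (hV : cj g (V j) = V j) (uni : cj g W ≤ W ⊔ L) : cj g W = W := by
  have hVV := c.wcj_VV hQ hV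
  have hBY : B ≤ Y := h.min.le
  have hWV : W ⊔ VV V j ≤ X := sup_le h.WX ((c.wVV_L j).trans c.LX)
  have cV' : cj g (oddGen Y) ≤ centralizer (VV V j : Set G) := by
    have h1 := cj_mono g cV
    rwa [cj_centralizer, hVV] at h1
  have hn : oddGen Y ≤ normalizer (W : Set G) := (MinSimple.VModule.oddGen_le Y).trans h.YW
  refine UniEq.eq_of_le (W := W) (W₂ := cj g W) (Lam := VV V j) (K := oddGen Y) (K₂ := cj g (oddGen Y))
    (Bs := B ⊓ centralizer (VV V j : Set G)) (fun x hx y hy => c.Xc x (hWV hx) y (hWV hy))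
    (fun x hx => by rw [pow_two]; exact c.Xs x (hWV hx)) (h.inf_VV c hF) ?_ (card_cj _ _) ?_ cV cV' inf_le_right hn ?_
    (inf_le_left.trans (hBY.trans h.YW)) (h.w_le_comm c hF) ?_ ?_
  · refine uni.trans (sup_le le_sup_left ?_)
    rw [c.wL_eq j]
    exact sup_le_sup h.VW le_rfl
  · have h1 : cj g (W ⊓ VV V j) = ⊥ := by rw [h.inf_VV c hF]; exact Subgroup.map_bot _
    rwa [cj_inf, hVV] at h1
  · have h1 := cj_mono g hn
    rwa [cj_normalizer] at h1
  · have h1 := cj_mono g (h.w_le_comm c hF)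
    rwa [show cj g ⁅W, oddGen Y⁆ = ⁅cj g W, cj g (oddGen Y)⁆ from map_commutator _ _ _] at h1
  · refine syl_not_dvd (c.syl_VV j le_sup_right (sup_le (sup_le cV cV') inf_le_right))

end TY

end Cfsg.Agent.Omega.NO3S.WY.Tor

end
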