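import Cfsg.Agent.Mrg.Omega.NO3S.WY.Tor.CxOf
import Cfsg.Agent.Mrg.Omega.NO3S.WY.Tor.EndOf
import Cfsg.Agent.Mrg.Omega.NO3S.WY.FinDone

section


/-!
# THEOREM TOR (helper474 #25011): there is no weird `Y` of torus type over the frame `Cx`, `Off`, `TY`, `Pr`

Pieces: (0) 570, 491 (`TY.ker_all`); (1), (3) 150 (`TY.cent_VV`, `TY.W_le_o2`); (2) 822 (`UniB.uni`); (2F) 864
(`TY.F_eq`); (2+) 613 (`TY.cj_W_eq`); (4+) 594 (`FourTY.kc`); (Sig), (6) 839 (`TY.false_end`).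
-/

set_option autoImplicit false

namespace Cfsg.Agent.Omega.NO3S.WY.Tor

open Subgroup Cfsg Cfsg.Agent.ZN Cfsg.Agent.ZN.ChoiceBase

universe u

variable {G : Type u} [Group G] {ι : Type}

/-- **THEOREM TOR.** -/
theorem TY.false [Finite G] {S B Q M X L : Subgroup G} {V : ι → Subgroup G} {z : ι → G} {𝓦 : Set (Subgroup G)}
    {j : ι} {Y W F : Subgroup G} {z₀ : G} (c : Cx S B Q M X L V z) (o : Off S Q M X L 𝓦)
    (h : TY S B Q M X V z 𝓦 j Y W F) (p : Pr S M L V z z₀) (hne : ∃ i, i ≠ j) : False :=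
  h.false_of c o p hne (TY.F_eq c h)

end Cfsg.Agent.Omega.NO3S.WY.Tor

end

section


/-!
# THEOREM TOR over `TorP`

* **`torEnd : InfOf.TorEnd K`**.
-/

set_option autoImplicit false
set_option linter.dupNamespace false

namespace Cfsg.Agent.Omega.NO3S.WY.InfOf

open Cfsg.Agent.Omega.Frame (Cls)

universe u

/-- **`TorP` is impossible.** -/
theorem torEnd (K : Cls.{u}) : TorEnd K := by
  intro G _ _ _ S P B ZJ k L W Z C A hk j Y t
  have : Nontrivial (Fin k) := Fin.nontrivial_iff_two_le.2 hk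
  obtain ⟨V, z, 𝓦, W', F', z₀, c, o, h, p⟩ := Tor.exists_frame t
  exact h.false c o p (exists_ne j)

end Cfsg.Agent.Omega.NO3S.WY.InfOf

end
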