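import Cfsg.Agent.Mrg.Omega.NO3S.ThmB.End.NatIdx
import Cfsg.Agent.Mrg.Omega.FrameI
import Cfsg.Agent.MinSimple.VModule


/-!
# (TOR) for one `S₅`, the facts at `Y`: one natural `SL₂(4)`-block

`N : NatK F T Y V D 1`, `|F| = 4`, `T` Sylow in `Y`, `Y` a minimal parabolic over `T`, `D = C_V(O²(Y))`; `Q ≤ T` weakly
closed in `T` with respect to `Y`, every `x ∈ Q` acts as some `up b`, `Q` centralises `L ⊇ {v | e v 1 = 0}`;
`W ≤ V` is `Y`-invariant, `W ≰ D`.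

* `triv_o2` : `t ∈ T` trivial on `V / D` implies `t ∈ O₂(Y)`;
* `oddGen_acts` : `O²(Y)` acts as elements of `SL₂(F)`; `exists_oddGen` : it induces all of them;
* `T_up` : `t ∈ T ∩ O²(Y)` acts as some `up b`;
* `Hyp.full` : `Q` induces all `up b`; `Hyp.exists_h` : `h ∈ O²(Y) ∩ N(Q)` acts on the line as `l`, `l² + l + 1 = 0`;
* `Hyp.out` : the facts (a), (b) of #25227, in the letters of `Y5`.
-/

set_option autoImplicit false
set_option linter.unusedSectionVars false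

namespace Cfsg.Agent.Omega.NO3S.WY.Tor.NatOne

open Subgroup Cfsg Cfsg.Agent.ZN Cfsg.Agent.ZN.ChoiceBase Cfsg.Agent.ZN.ChoiceSit
open Cfsg.Agent.Omega.FFThm
open Cfsg.Agent.MinSimple.MinParabolic
open Cfsg.Agent.MinSimple.VModule (oddGen oddGen_le mem_oddGen le_normalizer_oddGen oddGen_le_of_sup)
open Cfsg.Agent.Omega.NatPair (ap ap_mul ap_one ap_inv_ap ap_ap_inv ap_inj ap_zero' ap_one' ext2 exists_ap)
open Cfsg.Agent.Lib.SL2Mat
open Cfsg.Agent.Omega.NO3S.ThmB.End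
open scoped commutatorElement

universe u

/-! ### The field of order 4 -/

section fld

variable {F : Type} [Field F]

theorem exists_lam (h4 : Nat.card F = 4) : ∃ l : F, l ≠ 0 ∧ l ≠ 1 ∧ l ^ 2 + l + 1 = 0 ∧
    ∀ x : F, x = 0 ∨ x = 1 ∨ x = l ∨ x = l ^ 2 := by
  classical
  have hf : Finite F := Nat.finite_of_card_ne_zero (by rw [h4]; norm_num)
  have := Fintype.ofFinite F
  have hc : Fintype.card F = 4 := by rw [← Nat.card_eq_fintype_card, h4]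
  have hpow : ∀ x : F, x ^ 4 = x := fun x => by
    have := FiniteField.pow_card x
    rwa [hc] at this
  have hfac : ∀ x : F, x ≠ 0 → x ≠ 1 → x ^ 2 + x + 1 = 0 := by
    intro x h0 h1
    have e : x * (x - 1) * (x ^ 2 + x + 1) = 0 := by linear_combination hpow x
    rcases mul_eq_zero.1 e with h | h
    · rcases mul_eq_zero.1 h with h | h
      · exact absurd h h0
      · exact absurd (sub_eq_zero.1 h) h1
    · exact h
  obtain ⟨l, hl⟩ : ∃ l : F, l ∉ ({0, 1} : Finset F) := by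
    by_contra hcon
    push Not at hcon
    have h1 : (Finset.univ : Finset F) ⊆ {0, 1} := fun x _ => hcon x
    have h2 := Finset.card_le_card h1
    rw [Finset.card_univ, hc] at h2
    have h3 : ({0, 1} : Finset F).card ≤ 2 := Finset.card_le_two
    omega
  rw [Finset.mem_insert, Finset.mem_singleton, not_or] at hl
  have hl2 := hfac l hl.1 hl.2
  refine ⟨l, hl.1, hl.2, hl2, fun x => ?_⟩
  by_cases h0 : x = 0
  · exact Or.inl h0
  by_cases h1 : x = 1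
  · exact Or.inr (Or.inl h1)
  have hx := hfac x h0 h1
  have e : (x - l) * (x - l ^ 2) = 0 := by
    have h3 : l ^ 3 = 1 := by linear_combination (l - 1) * hl2
    linear_combination hx - x * hl2 + h3
  rcases mul_eq_zero.1 e with h | h
  · exact Or.inr (Or.inr (Or.inl (sub_eq_zero.1 h)))
  · exact Or.inr (Or.inr (Or.inr (sub_eq_zero.1 h)))

end fld

/-! ### Powers -/

section pow

variable {G : Type u} [Group G]

theorem pow_odd [Finite G] {Y : Subgroup G} {g : G} (hg : g ∈ Y) : ∃ a : ℕ, g ^ (4 ^ a) ∈ oddGen Y := by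
  obtain ⟨a, m, hm, h⟩ := Nat.exists_eq_two_pow_mul_odd (n := orderOf g) (orderOf_pos g).ne'
  refine ⟨a, mem_oddGen (pow_mem hg _) ?_⟩
  have h1 : (g ^ (4 ^ a)) ^ m = 1 := by
    rw [← pow_mul, ← orderOf_dvd_iff_pow_eq_one, h]
    have h2 : (4 : ℕ) ^ a = 2 ^ a * 2 ^ a := by rw [← mul_pow]; norm_num
    rw [h2]
    exact ⟨2 ^ a, by ring⟩
  exact Odd.of_dvd_nat hm (orderOf_dvd_of_pow_eq_one h1)

theorem pow_four {H : Type*} [Monoid H] {x : H} (h : x ^ 3 = 1) (a : ℕ) : x ^ (4 ^ a) = x := by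
  have hc : ∃ c, 4 ^ a = 3 * c + 1 := by
    induction a with
    | zero => exact ⟨0, rfl⟩
    | succ a ih =>
      obtain ⟨c, hc⟩ := ih
      exact ⟨4 * c + 1, by rw [pow_succ, hc]; ring⟩
  obtain ⟨c, hc⟩ := hc
  rw [hc, pow_succ, pow_mul, h, one_pow, one_mul]

end pow

/-! ### One natural block -/

variable {G : Type u} [Group G] {F : Type} [Field F] {T Y V D : Subgroup G}

section basic

variable (N : NatK F T Y V D 1)

theorem e_zero {v : G} (hv : v ∈ V) : N.e v 0 = 0 ↔ v ∈ D := by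
  rw [← N.ker v hv]
  constructor
  · intro h
    funext i
    rw [Subsingleton.elim i 0, h]
    rfl
  · intro h
    rw [h]; rfl

theorem surj1 (x : Fin 2 → F) : ∃ v ∈ V, N.e v 0 = x := by
  obtain ⟨v, hv, h⟩ := N.surj fun _ => x
  exact ⟨v, hv, by rw [h]⟩

theorem mul1 {v w : G} (hv : v ∈ V) (hw : w ∈ V) : N.e (v * w) 0 = N.e v 0 + N.e w 0 := by
  rw [N.mul v hv w hw]; rfl

theorem one1 : N.e 1 0 = 0 := by
  have h := mul1 N (one_mem V) (one_mem V)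
  rw [mul_one] at h
  exact left_eq_add.1 h

theorem inv1 {v : G} (hv : v ∈ V) : N.e v⁻¹ 0 = -N.e v 0 := by
  have h := mul1 N (inv_mem hv) hv
  rw [inv_mul_cancel, one1] at h
  exact eq_neg_of_add_eq_zero_left h.symm

theorem div1 {v w : G} (hv : v ∈ V) (hw : w ∈ V) : v * w⁻¹ ∈ D ↔ N.e v 0 = N.e w 0 := by
  rw [← e_zero N (mul_mem hv (inv_mem hw)), mul1 N hv (inv_mem hw), inv1 N hw, ← sub_eq_add_neg, sub_eq_zero]

/-- `g` acts as `A` on `V / D` and centralises `D` -/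
abbrev Ac (g : G) (A : Matrix.SpecialLinearGroup (Fin 2) F) : Prop := ActsSL N.e V D g fun _ => A

variable {N}

theorem ac_mul (hV : Y ≤ normalizer (V : Set G)) {a b : G} (hb : b ∈ Y) {A B : Matrix.SpecialLinearGroup (Fin 2) F}
    (hA : Ac N a A) (hB : Ac N b B) : Ac N (a * b) (A * B) := NatIdx.acts_mul hV hb hA hB

theorem ac_one : Ac N 1 1 := NatIdx.acts_one

theorem ac_inv (hV : Y ≤ normalizer (V : Set G)) {a : G} (ha : a ∈ Y) {A : Matrix.SpecialLinearGroup (Fin 2) F}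
    (hA : Ac N a A) : Ac N a⁻¹ A⁻¹ := NatIdx.acts_inv hV ha hA

theorem ac_conj (hV : Y ≤ normalizer (V : Set G)) {a b : G} (ha : a ∈ Y) (hb : b ∈ Y)
    {A B : Matrix.SpecialLinearGroup (Fin 2) F} (hA : Ac N a A) (hB : Ac N b B) :
    Ac N (a * b * a⁻¹) (A * B * A⁻¹) :=
  ac_mul hV (inv_mem ha) (ac_mul hV hb hA hB) (ac_inv hV ha hA)

theorem ac_pow (hV : Y ≤ normalizer (V : Set G)) {a : G} (ha : a ∈ Y) {A : Matrix.SpecialLinearGroup (Fin 2) F}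
    (hA : Ac N a A) (n : ℕ) : Ac N (a ^ n) (A ^ n) := by
  induction n with
  | zero => rw [pow_zero, pow_zero]; exact ac_one
  | succ n ih => rw [pow_succ, pow_succ]; exact ac_mul hV ha ih hA

theorem ac_uniq {g : G} {A B : Matrix.SpecialLinearGroup (Fin 2) F} (hA : Ac N g A) (hB : Ac N g B) : A = B :=
  congrFun (NatIdx.acts_uniq N hA hB) 0

theorem ac_e {g v : G} {A : Matrix.SpecialLinearGroup (Fin 2) F} (h : Ac N g A) (hv : v ∈ V) :
    N.e (g * v * g⁻¹) 0 = ap A (N.e v 0) := h.1 v hv 0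

theorem lift1 (N : NatK F T Y V D 1) (A : Matrix.SpecialLinearGroup (Fin 2) F) : ∃ g ∈ Y, Ac N g A :=
  N.lift fun _ => A

end basic

section min

variable [Finite G] {N : NatK F T Y V D 1}

/-- the elements of order 3 are induced by `O²(Y)` -/
theorem exists_three (N : NatK F T Y V D 1) (hV : Y ≤ normalizer (V : Set G))
    {A : Matrix.SpecialLinearGroup (Fin 2) F} (hA : A ^ 3 = 1) : ∃ g ∈ oddGen Y, Ac N g A := by
  obtain ⟨g, hg, h⟩ := lift1 N A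
  obtain ⟨a, ha⟩ := pow_odd hg
  have h1 := ac_pow hV hg h (4 ^ a)
  rw [pow_four hA] at h1
  exact ⟨_, ha, h1⟩

/-- `[0 1; 1 1]` -/
def mB (F : Type) [Field F] [CharP F 2] : Matrix.SpecialLinearGroup (Fin 2) F :=
  mk 0 1 1 1 (by
    have h : (1 : F) + 1 = 0 := CharTwo.add_self_eq_zero 1
    linear_combination -h)

theorem mB_pow [CharP F 2] : mB F ^ 3 = 1 := by
  have h : (1 : F) + 1 = 0 := CharTwo.add_self_eq_zero 1
  rw [pow_succ, pow_two]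
  refine ext_ent ?_ ?_ ?_ ?_ <;> simp [mB, ent_mul, h]

theorem mB_up [CharP F 2] (b : F) : mB F * up b = lo b * mB F := by
  have h : b + b = 0 := CharTwo.add_self_eq_zero b
  refine ext_ent ?_ ?_ ?_ ?_ <;> simp [mB, ent_mul, add_comm]

theorem mB_conj [CharP F 2] (b : F) : mB F * up b * (mB F)⁻¹ = lo b := by
  rw [mB_up, mul_inv_cancel_right]

/-- the subgroup of `Y` which acts trivially on `V / D` -/
def tv (N : NatK F T Y V D 1) (hV : Y ≤ normalizer (V : Set G)) : Subgroup G where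
  carrier := {y | y ∈ Y ∧ ∀ v ∈ V, N.e (y * v * y⁻¹) 0 = N.e v 0}
  one_mem' := ⟨one_mem _, fun v _ => by rw [one_mul, inv_one, mul_one]⟩
  mul_mem' := by
    rintro a b ⟨ha, h1⟩ ⟨hb, h2⟩
    refine ⟨mul_mem ha hb, fun v hv => ?_⟩
    have e : a * b * v * (a * b)⁻¹ = a * (b * v * b⁻¹) * a⁻¹ := by group
    rw [e, h1 _ ((mem_normalizer_iff.1 (hV hb) v).1 hv), h2 v hv]
  inv_mem' := by
    rintro a ⟨ha, h1⟩
    refine ⟨inv_mem ha, fun v hv => ?_⟩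
    have h2 : a⁻¹ * v * a⁻¹⁻¹ ∈ V := (mem_normalizer_iff.1 (hV (inv_mem ha)) v).1 hv
    have h3 := h1 _ h2
    have e : a * (a⁻¹ * v * a⁻¹⁻¹) * a⁻¹ = v := by group
    rw [e] at h3
    exact h3.symm

theorem norm_tv (hV : Y ≤ normalizer (V : Set G)) (hD : Y ≤ normalizer (D : Set G)) :
    Y ≤ normalizer (tv N hV : Set G) := by
  intro x hx
  refine mem_normalizer_of_cj_le ?_
  rintro _ ⟨y, ⟨hy, h1⟩, rfl⟩
  change x * y * x⁻¹ ∈ tv N hV
  refine ⟨mul_mem (mul_mem hx hy) (inv_mem hx), fun v hv => ?_⟩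
  have hw : x⁻¹ * v * x ∈ V := by
    have := (mem_normalizer_iff.1 (hV (inv_mem hx)) v).1 hv
    rwa [inv_inv] at this
  have hyw : y * (x⁻¹ * v * x) * y⁻¹ ∈ V := (mem_normalizer_iff.1 (hV hy) _).1 hw
  have h2 : y * (x⁻¹ * v * x) * y⁻¹ * (x⁻¹ * v * x)⁻¹ ∈ D := (div1 N hyw hw).2 (h1 _ hw)
  have h3 : x * (y * (x⁻¹ * v * x) * y⁻¹ * (x⁻¹ * v * x)⁻¹) * x⁻¹ ∈ D := (mem_normalizer_iff.1 (hD hx) _).1 h2
  have hxv : x * y * x⁻¹ * v * (x * y * x⁻¹)⁻¹ ∈ V := by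
    have h4 := (mem_normalizer_iff.1 (hV (mul_mem (mul_mem hx hy) (inv_mem hx))) v).1 hv
    exact h4
  refine (div1 N hxv hv).1 ?_
  have e : x * y * x⁻¹ * v * (x * y * x⁻¹)⁻¹ * v⁻¹ =
      x * (y * (x⁻¹ * v * x) * y⁻¹ * (x⁻¹ * v * x)⁻¹) * x⁻¹ := by group
  rwa [e]

/-- `t ∈ T` trivial on `V / D` is in `O₂(Y)` -/
theorem triv_o2 [CharP F 2] (N : NatK F T Y V D 1) (hT : Syl T Y) (hmin : IsMinPar T Y)
    (hV : Y ≤ normalizer (V : Set G)) (hD : Y ≤ normalizer (D : Set G)) {t : G} (ht : t ∈ T)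
    (h : ∀ v ∈ V, N.e (t * v * t⁻¹) 0 = N.e v 0) : t ∈ o2 Y := by
  have : Fact (Nat.Prime 2) := ⟨Nat.prime_two⟩
  have hle : tv N hV ≤ Y := fun y hy => hy.1
  rcases hmin.sup_eq_or_inf_le hT.2.1 (syl_not_dvd hT) hle (norm_tv hV hD) with h1 | h1
  · exfalso
    have h2 : oddGen Y ≤ tv N hV := oddGen_le_of_sup (norm_tv hV hD) h1.ge hT.1 hle hT.2.1
    obtain ⟨g, hg, hgA⟩ := exists_three N hV (mB_pow (F := F))
    obtain ⟨v, hv, hev⟩ := surj1 N ![0, 1]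
    have h3 := (h2 hg).2 v hv
    rw [ac_e hgA hv, hev] at h3
    have h4 := congrFun h3 0
    rw [ap_zero'] at h4
    simp [mB] at h4
  · exact h1 ⟨ht, hT.1 ht, h⟩

/-- `O²(Y)` acts as elements of `SL₂(F)` -/
theorem oddGen_ac (N : NatK F T Y V D 1) (hT : Syl T Y) (hV : Y ≤ normalizer (V : Set G))
    (hD : Y ≤ normalizer (D : Set G)) {k : G} (hk : k ∈ oddGen Y) : ∃ A, Ac N k A := by
  have h1 : Y ≤ NatIdx.E N hV ⊔ T :=
    N.gen _ le_sup_right fun h hh A hA => mem_sup_left ⟨hh, A, hA⟩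
  have h2 : oddGen Y ≤ NatIdx.E N hV :=
    oddGen_le_of_sup (NatIdx.P_le_normalizer_E N hV hD) h1 hT.1 (fun y hy => hy.1) hT.2.1
  obtain ⟨-, A, hA⟩ := h2 hk
  refine ⟨A 0, ?_⟩
  have e : (fun _ : Fin 1 => A 0) = A := by
    funext i
    rw [Subsingleton.elim i 0]
  rw [Ac, e]
  exact hA

/-- `O²(Y)` induces `SL₂(F)` -/
theorem exists_oddGen [CharP F 2] (N : NatK F T Y V D 1) (hV : Y ≤ normalizer (V : Set G)) (f4 : Nat.card F = 4)
    (A : Matrix.SpecialLinearGroup (Fin 2) F) : ∃ k ∈ oddGen Y, Ac N k A := by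
  have hn : Y ≤ normalizer (oddGen Y : Set G) := le_normalizer_oddGen Y
  have hle : oddGen Y ≤ Y := oddGen_le Y
  obtain ⟨l, hl0, hl1, hl, -⟩ := exists_lam f4
  have hl3 : l ^ 3 = 1 := by linear_combination (l - 1) * hl
  have hli : l⁻¹ = l ^ 2 := by
    rw [inv_eq_iff_eq_inv]
    refine eq_inv_of_mul_eq_one_left ?_
    rw [← hl3]; ring
  have hll : l * l ^ 2 - 0 * 0 = 1 := by rw [← hl3]; ring
  -- the diagonal element
  have hd3 : (mk l 0 0 (l ^ 2) hll : Matrix.SpecialLinearGroup (Fin 2) F) ^ 3 = 1 := by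
    rw [pow_succ, pow_two]
    refine ext_ent ?_ ?_ ?_ ?_ <;> simp [ent_mul]
    · rw [← hl3]; ring
    · have : l ^ 2 * l ^ 2 * l ^ 2 = (l ^ 3) ^ 2 := by ring
      rw [this, hl3, one_pow]
  obtain ⟨d, hdY, hd⟩ := exists_three N hV hd3
  obtain ⟨g, hgY, hg⟩ := exists_three N hV (mB_pow (F := F))
  have h2 : (1 : F) - l ^ 2 ≠ 0 := by
    intro h
    have h3 : l ^ 2 = 1 := (sub_eq_zero.1 h).symm
    apply hl1
    have h4 : l ^ 3 = l ^ 2 * l := by ring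
    rw [hl3, h3, one_mul] at h4
    exact h4.symm
  have hup : ∀ b : F, ∃ k ∈ oddGen Y, Ac N k (up b) := by
    intro b
    obtain ⟨x, hx, hxa⟩ := lift1 N (up (b / (1 - l ^ 2)))
    refine ⟨x * d * x⁻¹ * d⁻¹, mul_mem ((mem_normalizer_iff.1 (hn hx) d).1 hdY) (inv_mem hdY), ?_⟩
    have h3 := ac_mul hV (inv_mem (hle hdY)) (ac_conj hV hx (hle hdY) hxa hd) (ac_inv hV (hle hdY) hd)
    have e : up (b / (1 - l ^ 2)) * mk l 0 0 (l ^ 2) hll * (up (b / (1 - l ^ 2)))⁻¹ * (mk l 0 0 (l ^ 2) hll)⁻¹ =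
        up b := by
      rw [mul_inv_eq_iff_eq_mul, mul_inv_eq_iff_eq_mul]
      refine ext_ent ?_ ?_ ?_ ?_ <;> simp [ent_mul]
      field_simp
      linear_combination b * hl3
    rwa [e] at h3
  have hlo : ∀ b : F, ∃ k ∈ oddGen Y, Ac N k (lo b) := by
    intro b
    obtain ⟨k, hk, hka⟩ := hup b
    refine ⟨g * k * g⁻¹, mul_mem (mul_mem hgY hk) (inv_mem hgY), ?_⟩
    have h3 := ac_conj hV (hle hgY) (hle hk) hg hka
    rwa [mB_conj] at h3
  obtain ⟨a, b, c, d', rfl⟩ := exists_up_lo A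
  obtain ⟨k1, hk1, e1⟩ := hup a
  obtain ⟨k2, hk2, e2⟩ := hlo b
  obtain ⟨k3, hk3, e3⟩ := hup c
  obtain ⟨k4, hk4, e4⟩ := hlo d'
  exact ⟨k1 * k2 * k3 * k4, mul_mem (mul_mem (mul_mem hk1 hk2) hk3) hk4,
    ac_mul hV (hle hk4) (ac_mul hV (hle hk3) (ac_mul hV (hle hk2) e1 e2) e3) e4⟩

/-- an element of `SL₂(F)` which fixes `(1, 0)` -/
theorem eq_up_of {A : Matrix.SpecialLinearGroup (Fin 2) F} (h0 : ent A 0 0 = 1) (h1 : ent A 1 0 = 0) :
    A = up (ent A 0 1) := by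
  have hd := det_eq A
  rw [h0, h1] at hd
  refine ext_ent h0 rfl h1 ?_
  rw [up_11]
  linear_combination hd

theorem pow_lower {A : Matrix.SpecialLinearGroup (Fin 2) F} (h1 : ent A 1 0 = 0) (n : ℕ) :
    ent (A ^ n) 0 0 = ent A 0 0 ^ n ∧ ent (A ^ n) 1 0 = 0 := by
  induction n with
  | zero => simp
  | succ n ih =>
    rw [pow_succ, ent_mul, ent_mul, ih.1, ih.2, h1]
    constructor
    · ring
    · ring

/-- `T` respects the line -/
theorem T_line (N : NatK F T Y V D 1) {t v : G} (ht : t ∈ T) (hv : v ∈ V) (h0 : N.e v 0 1 = 0) :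
    N.e (t * v * t⁻¹) 0 1 = 0 := by
  obtain ⟨σ, hσ⟩ := N.line t ht
  have h1 := (hσ v hv 0).2 h0
  rwa [Subsingleton.elim (σ 0) 0] at h1

/-- `t ∈ T ∩ O²(Y)` acts as some `up b` -/
theorem T_up [CharP F 2] (N : NatK F T Y V D 1) (hT : Syl T Y) (hV : Y ≤ normalizer (V : Set G))
    (hD : Y ≤ normalizer (D : Set G)) {t : G} (ht : t ∈ T) (hk : t ∈ oddGen Y) : ∃ b, Ac N t (up b) := by
  obtain ⟨A, hA⟩ := oddGen_ac N hT hV hD hk
  obtain ⟨v, hv, hev⟩ := surj1 N ![1, 0]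
  have h1 := T_line N ht hv (by rw [hev]; rfl)
  have h2 := ac_e hA hv
  rw [h2, hev, ap_one'] at h1
  have h10 : ent A 1 0 = 0 := by simpa using h1
  obtain ⟨n, hn⟩ := hT.2.1 (⟨t, ht⟩ : T)
  have hn' : t ^ 2 ^ n = 1 := congrArg Subtype.val hn
  have h3 := ac_pow hV (hT.1 ht) hA (2 ^ n)
  rw [hn'] at h3
  have h4 : A ^ 2 ^ n = 1 := ac_uniq h3 ac_one
  have h5 := (pow_lower h10 (2 ^ n)).1
  rw [h4, ent_one_00] at h5
  have h6 : (ent A 0 0 - 1) ^ 2 ^ n = 0 := by rw [sub_pow_char_pow, one_pow, ← h5, sub_self]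
  have h7 : ent A 0 0 = 1 := sub_eq_zero.1 (pow_eq_zero_iff (by positivity) |>.1 h6)
  refine ⟨ent A 0 1, ?_⟩
  rw [← eq_up_of h7 h10]
  exact hA

end min

/-! ### The situation -/

/-- one natural `SL₂(4)`-block, `Q` acts inside the root group of the line `V ∩ L`, `W ≤ V` is `Y`-invariant -/
structure Hyp (N : NatK F T Y V D 1) (Q L W : Subgroup G) : Prop where
  syl : Syl T Y
  min : IsMinPar T Y
  YV : Y ≤ normalizer (V : Set G)
  DE : V ⊓ centralizer (oddGen Y : Set G) = D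
  oV : o2 Y ≤ centralizer (V : Set G)
  f4 : Nat.card F = 4
  QT : Q ≤ T
  wc : ∀ y ∈ Y, cj y Q ≤ T → cj y Q = Q
  up : ∀ x ∈ Q, ∃ b : F, ActsSL N.e V D x fun _ => up b
  nQ : ¬ Q ≤ o2 Y
  hL : ∀ v ∈ V, N.e v 0 1 = 0 → v ∈ L
  QL : L ≤ centralizer (Q : Set G)
  WV : W ≤ V
  YW : Y ≤ normalizer (W : Set G)
  nW : ¬ W ≤ D

/-- the facts of `Y5` -/
structure Out (Q L K W F R : Subgroup G) (g h : G) : Prop where
  QW : Q ≤ normalizer (W : Set G)
  idx : (centralizer (W : Set G)).relIndex Q = 4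
  cW : ∀ x ∈ Q, x ∉ centralizer (W : Set G) → W ⊓ centralizer ({x} : Set G) ≤ L
  ix : L.relIndex W = 4
  KW : K ≤ normalizer (W : Set G)
  FW : F ≤ W
  KF : K ≤ normalizer (F : Set G)
  Fe : W ⊓ centralizer (Q : Set G) ⊓ centralizer (cj g Q : Set G) ≤ F
  iF : F.relIndex W = 16
  RK : R ≤ K ⊔ Q
  nR : K ⊔ Q ≤ normalizer (R : Set G)
  ER : Q ⊓ centralizer (W : Set G) ≤ R
  RW : ∀ r ∈ R, ∀ w ∈ W, r * w * r⁻¹ * w⁻¹ ∈ F
  gK : g ∈ K
  gn : K ≤ Q ⊔ cj g Q ⊔ R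
  hK : h ∈ K
  hQ : h ∈ normalizer (Q : Set G)
  hv : ∀ v ∈ W ⊓ L, h * v * h⁻¹ * v⁻¹ ∈ F → v ∈ F
  WK : ∀ A : Subgroup G, L ≤ A → K ≤ normalizer (A : Set G) → W ≤ A
  WC : ∀ v ∈ W ⊓ L, ∃ f ∈ F, v * f ∈ ⁅W, Q⁆

namespace Hyp

variable [Finite G] [CharP F 2] {N : NatK F T Y V D 1} {Q L W : Subgroup G} (H : Hyp N Q L W)
include H

theorem DV : D ≤ V := by
  rw [← H.DE]; exact inf_le_left

theorem YD : Y ≤ normalizer (D : Set G) := by
  intro y hy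
  rw [mem_normalizer_iff_cj, ← H.DE, cj_inf, cj_centralizer, cj_eq_of_mem_normalizer (H.YV hy),
    cj_eq_of_mem_normalizer (le_normalizer_oddGen Y hy)]

theorem TY : T ≤ Y := H.syl.1

theorem QY : Q ≤ Y := H.QT.trans H.TY

/-- an element of `Q` which acts as `1` centralises `V` -/
theorem cent_of {x : G} (hx : x ∈ Q) (h : Ac N x (Lib.SL2Mat.up 0)) : x ∈ centralizer (V : Set G) := by
  refine H.oV (triv_o2 N H.syl H.min H.YV H.YD (H.QT hx) fun v hv => ?_)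
  rw [ac_e h hv, up_zero, ap_one]

/-- the elements which act as elements of `SL₂(F)` and fix the line pointwise -/
def U1 : Subgroup G where
  carrier := {y | y ∈ Y ∧ ∃ b, Ac N y (Lib.SL2Mat.up b)}
  one_mem' := ⟨one_mem _, 0, by rw [up_zero]; exact ac_one⟩
  mul_mem' := by
    rintro a b ⟨ha, x, hx⟩ ⟨hb, y, hy⟩
    exact ⟨mul_mem ha hb, x + y, by rw [← up_mul]; exact ac_mul H.YV hb hx hy⟩
  inv_mem' := by
    rintro a ⟨ha, x, hx⟩
    exact ⟨inv_mem ha, -x, by rw [← up_inv]; exact ac_inv H.YV ha hx⟩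

theorem U1_le : H.U1 ≤ Y := fun _ hy => hy.1

/-- `y ∈ Y` which respects the line normalises `U1` -/
theorem norm_U1 {y : G} (hy : y ∈ Y) (hl : ∀ v ∈ V, N.e v 0 1 = 0 → N.e (y⁻¹ * v * y) 0 1 = 0) :
    y ∈ normalizer (H.U1 : Set G) := by
  refine mem_normalizer_of_cj_le ?_
  rintro _ ⟨x, ⟨hx, b, hb⟩, rfl⟩
  change y * x * y⁻¹ ∈ H.U1
  have hE : x ∈ NatIdx.E N H.YV := ⟨hx, _, hb⟩
  obtain ⟨-, C, hC⟩ := (mem_normalizer_iff.1 (NatIdx.P_le_normalizer_E N H.YV H.YD hy) x).1 hE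
  have e : (fun _ : Fin 1 => C 0) = C := by
    funext i
    rw [Subsingleton.elim i 0]
  have hC' : Ac N (y * x * y⁻¹) (C 0) := by rw [Ac, e]; exact hC
  refine ⟨mul_mem (mul_mem hy hx) (inv_mem hy), ent (C 0) 0 1, ?_⟩
  obtain ⟨v, hv, hev⟩ := surj1 N ![1, 0]
  have hw : y⁻¹ * v * y ∈ V := by
    have := (mem_normalizer_iff.1 (H.YV (inv_mem hy)) v).1 hv
    rwa [inv_inv] at this
  have hw1 := hl v hv (by rw [hev]; rfl)
  have hxw : x * (y⁻¹ * v * y) * x⁻¹ ∈ V := (mem_normalizer_iff.1 (H.YV hx) _).1 hw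
  have h2 : N.e (x * (y⁻¹ * v * y) * x⁻¹) 0 = N.e (y⁻¹ * v * y) 0 := by
    rw [ac_e hb hw]
    apply ext2
    · rw [ap_zero', hw1, up_00, up_01]; ring
    · rw [ap_one', hw1, up_10, up_11]; ring
  have h3 := (mem_normalizer_iff.1 (H.YD hy) _).1 ((div1 N hxw hw).2 h2)
  have hyv : y * x * y⁻¹ * v * (y * x * y⁻¹)⁻¹ ∈ V :=
    (mem_normalizer_iff.1 (H.YV (mul_mem (mul_mem hy hx) (inv_mem hy))) v).1 hv
  have h4 : N.e (y * x * y⁻¹ * v * (y * x * y⁻¹)⁻¹) 0 = N.e v 0 := by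
    refine (div1 N hyv hv).1 ?_
    have e : y * x * y⁻¹ * v * (y * x * y⁻¹)⁻¹ * v⁻¹ =
        y * (x * (y⁻¹ * v * y) * x⁻¹ * (y⁻¹ * v * y)⁻¹) * y⁻¹ := by group
    rwa [e]
  rw [ac_e hC' hv, hev] at h4
  have h5 := congrFun h4 0
  have h6 := congrFun h4 1
  rw [ap_zero'] at h5
  rw [ap_one'] at h6
  have h7 : ent (C 0) 0 0 = 1 := by simpa using h5
  have h8 : ent (C 0) 1 0 = 0 := by simpa using h6
  rw [← eq_up_of h7 h8]
  exact hC'

theorem T_norm_U1 : T ≤ normalizer (H.U1 : Set G) := by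
  intro t ht
  refine H.norm_U1 (H.TY ht) fun v hv h0 => ?_
  have h1 := T_line N (inv_mem ht) hv h0
  rwa [inv_inv] at h1

theorem syl_U1 : Syl (T ⊓ H.U1) H.U1 := by
  have hX : T ⊔ H.U1 ≤ Y := sup_le H.TY H.U1_le
  have hn : T ⊔ H.U1 ≤ normalizer (H.U1 : Set G) := sup_le H.T_norm_U1 le_normalizer
  refine ⟨inf_le_right, H.syl.2.1.to_le inf_le_left, ?_⟩
  intro R hR h2 hTR
  obtain ⟨S, hS, hRS⟩ := exists_syl h2 (hR.trans (le_sup_right : H.U1 ≤ T ⊔ H.U1))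
  have hTX : Syl T (T ⊔ H.U1) := ⟨le_sup_left, H.syl.2.1, fun Q' hQ' => H.syl.2.2 Q' (hQ'.trans hX)⟩
  obtain ⟨x, hx, e⟩ := syl_conj hS hTX
  have h1 : cj x R ≤ T ⊓ H.U1 := by
    refine le_inf ((cj_mono x hRS).trans e.le) ?_
    have := cj_mono x hR
    rwa [cj_eq_of_mem_normalizer (hn hx)] at this
  have h3 := Subgroup.card_le_of_le h1
  rw [card_cj] at h3
  exact (Subgroup.eq_of_le_of_card_ge hTR h3).symm

/-- Frattini: `y ∈ N_Y(U1)` is `u n` with `u ∈ U1`, `n ∈ N(Q)` -/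
theorem frattini_Q {y : G} (hy : y ∈ Y) (hn : y ∈ normalizer (H.U1 : Set G)) :
    ∃ u ∈ H.U1, u * y ∈ normalizer (Q : Set G) := by
  have h1 : Syl (cj y (T ⊓ H.U1)) H.U1 := by
    refine ⟨?_, isPGroup_cj y H.syl_U1.2.1, fun R hR hR2 hle => ?_⟩
    · have := cj_mono y (inf_le_right : T ⊓ H.U1 ≤ H.U1)
      rwa [cj_eq_of_mem_normalizer hn] at this
    · have h3 : cj y⁻¹ R = T ⊓ H.U1 := by
        refine H.syl_U1.2.2 (cj y⁻¹ R) ?_ (isPGroup_cj _ hR2) ?_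
        · have := cj_mono y⁻¹ hR
          rwa [cj_eq_of_mem_normalizer (inv_mem hn)] at this
        · have := cj_mono y⁻¹ hle
          rwa [cj_inv_cj] at this
      rw [← h3, cj_cj_inv]
  obtain ⟨u, hu, e⟩ := syl_conj h1 H.syl_U1
  refine ⟨u, hu, ?_⟩
  rw [mem_normalizer_iff_cj]
  refine H.wc _ (mul_mem (H.U1_le hu) hy) ?_
  have hQ : Q ≤ T ⊓ H.U1 := fun x hx => ⟨H.QT hx, H.QY hx, H.up x hx⟩
  have h2 := cj_mono (u * y) hQ
  rw [← cj_cj u y (T ⊓ H.U1), e] at h2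
  exact h2.trans inf_le_left

/-- `h ∈ O²(Y) ∩ N(Q)` which acts on the line as `l` -/
theorem exists_h {l : F} (hl0 : l ≠ 0) (hl : l ^ 2 + l + 1 = 0) :
    ∃ h ∈ oddGen Y, h ∈ normalizer (Q : Set G) ∧ ∃ b : F, Ac N h (Lib.SL2Mat.up b * dg l hl0) := by
  have hl3 : l ^ 3 = 1 := by linear_combination (l - 1) * hl
  obtain ⟨y, hy, hya⟩ := lift1 N (dg l hl0)
  have hn : y ∈ normalizer (H.U1 : Set G) := by
    refine H.norm_U1 hy fun v hv h0 => ?_
    have h1 := ac_e (ac_inv H.YV hy hya) hv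
    rw [inv_inv] at h1
    rw [h1, ap_one', h0, ent_inv, mk_10, mk_11, dg_10]
    ring
  obtain ⟨u, ⟨huY, b, hb⟩, hn2⟩ := H.frattini_Q hy hn
  have hc : Ac N (u * y) (Lib.SL2Mat.up b * dg l hl0) := ac_mul H.YV hy hb hya
  have huy : u * y ∈ Y := mul_mem huY hy
  obtain ⟨a, ha⟩ := pow_odd huy
  refine ⟨_, ha, pow_mem hn2 _, b, ?_⟩
  have h3 := ac_pow H.YV huy hc (4 ^ a)
  have h4 : (Lib.SL2Mat.up b * dg l hl0) ^ 3 = 1 := by
    have hli : l⁻¹ = l ^ 2 := by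
      rw [inv_eq_iff_eq_inv]
      refine eq_inv_of_mul_eq_one_left ?_
      rw [← hl3]; ring
    have e6 : l ^ 6 = 1 := by
      have : l ^ 6 = (l ^ 3) ^ 2 := by ring
      rw [this, hl3, one_pow]
    rw [pow_succ, pow_two]
    refine ext_ent ?_ ?_ ?_ ?_ <;> simp [ent_mul, hli]
    · rw [← hl3]; ring
    · linear_combination (b * l ^ 4) * hl
    · rw [← e6]; ring
  rwa [pow_four h4] at h3

/-- **`Q` induces the full root group.** -/
theorem full (b : F) : ∃ x ∈ Q, Ac N x (Lib.SL2Mat.up b) := by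
  obtain ⟨l, hl0, hl1, hl, hall⟩ := exists_lam H.f4
  obtain ⟨h, hh, hQ, b', hac⟩ := H.exists_h hl0 hl
  have hhY : h ∈ Y := oddGen_le Y hh
  -- conjugation by `h` multiplies by `l ^ 2`
  have hstep : ∀ c : F, (∃ x ∈ Q, Ac N x (Lib.SL2Mat.up c)) → ∃ x ∈ Q, Ac N x (Lib.SL2Mat.up (l ^ 2 * c)) := by
    rintro c ⟨x, hx, hxc⟩
    refine ⟨h * x * h⁻¹, (mem_normalizer_iff.1 hQ x).1 hx, ?_⟩
    have h1 := ac_conj H.YV hhY (H.QY hx) hac hxc
    have e : Lib.SL2Mat.up b' * dg l hl0 * Lib.SL2Mat.up c * (Lib.SL2Mat.up b' * dg l hl0)⁻¹ =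
        Lib.SL2Mat.up (l ^ 2 * c) := by
      rw [mul_inv_eq_iff_eq_mul, mul_assoc, dg_up, ← mul_assoc, up_mul, ← mul_assoc, up_mul, add_comm]
    rwa [e] at h1
  obtain ⟨x0, hx0, hx0'⟩ := SetLike.not_le_iff_exists.1 H.nQ
  obtain ⟨c, hc⟩ := H.up x0 hx0
  have hc0 : c ≠ 0 := by
    rintro rfl
    refine hx0' (triv_o2 N H.syl H.min H.YV H.YD (H.QT hx0) fun v hv => ?_)
    rw [ac_e hc hv, up_zero, ap_one]
  have h1 := hstep c ⟨x0, hx0, hc⟩
  have h2 := hstep _ h1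
  rcases hall (b / c) with h | h | h | h
  · rw [div_eq_zero_iff] at h
    rcases h with rfl | h
    · exact ⟨1, one_mem _, by rw [up_zero]; exact ac_one⟩
    · exact absurd h hc0
  · rw [div_eq_one_iff_eq hc0] at h
    rw [h]
    exact ⟨x0, hx0, hc⟩
  · rw [div_eq_iff hc0] at h
    have e : l ^ 2 * (l ^ 2 * c) = b := by
      have hl3 : l ^ 3 = 1 := by linear_combination (l - 1) * hl
      rw [h]
      linear_combination (l * c) * hl3
    rwa [e] at h2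
  · rw [div_eq_iff hc0] at h
    rwa [← h] at h1

/-- `v ∈ V ∩ L` iff `e v 1 = 0` -/
theorem mem_L {v : G} (hv : v ∈ V) : v ∈ L ↔ N.e v 0 1 = 0 := by
  refine ⟨fun h => ?_, H.hL v hv⟩
  obtain ⟨x, hx, hx1⟩ := H.full 1
  have h1 : x * v = v * x := mem_centralizer_iff.1 (H.QL h) x hx
  have h2 : x * v * x⁻¹ = v := by rw [h1, mul_inv_cancel_right]
  have h3 := ac_e hx1 hv
  rw [h2] at h3
  have h4 := congrFun h3 0
  rw [ap_zero', up_00, up_01, one_mul, one_mul] at h4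
  exact left_eq_add.1 h4

theorem DL : D ≤ L := fun d hd => H.hL d (H.DV hd) (by rw [(e_zero N (H.DV hd)).2 hd]; rfl)

/-- `W` covers `V / D` -/
theorem cover (x : Fin 2 → F) : ∃ w ∈ W, N.e w 0 = x := by
  obtain ⟨w0, hw0, hw0'⟩ := SetLike.not_le_iff_exists.1 H.nW
  have hne : N.e w0 0 ≠ 0 := fun h => hw0' ((e_zero N (H.WV hw0)).1 h)
  by_cases hx : x = 0
  · exact ⟨1, one_mem _, by rw [one1, hx]⟩
  obtain ⟨A, hA⟩ := exists_ap hne hx
  obtain ⟨g, hg, hgA⟩ := lift1 N A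
  exact ⟨g * w0 * g⁻¹, (mem_normalizer_iff.1 (H.YW hg) w0).1 hw0, by rw [ac_e hgA (H.WV hw0), hA]⟩

theorem QW : Q ≤ normalizer (W : Set G) := H.QY.trans H.YW

theorem KY : oddGen Y ≤ Y := oddGen_le Y

theorem mem_F {w : G} (hw : w ∈ W) : w ∈ W ⊓ centralizer (oddGen Y : Set G) ↔ N.e w 0 = 0 := by
  rw [e_zero N (H.WV hw), ← H.DE]
  exact ⟨fun h => ⟨H.WV h.1, h.2⟩, fun h => ⟨hw, h.2⟩⟩

/-- `w ↦ e w` on `W` -/
def eW : W →* Multiplicative (Fin 2 → F) where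
  toFun w := Multiplicative.ofAdd (N.e w 0)
  map_one' := by
    change Multiplicative.ofAdd (N.e 1 0) = 1
    rw [one1]; rfl
  map_mul' := fun v w => by
    change Multiplicative.ofAdd (N.e (v * w : G) 0) = _
    rw [mul1 N (H.WV v.2) (H.WV w.2)]; rfl

theorem iF : (W ⊓ centralizer (oddGen Y : Set G)).relIndex W = 16 := by
  have h1 : H.eW.ker = (W ⊓ centralizer (oddGen Y : Set G)).subgroupOf W := by
    ext w
    rw [MonoidHom.mem_ker, mem_subgroupOf, H.mem_F w.2]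
    exact Iff.rfl
  have h2 : Function.Surjective H.eW := fun x => by
    obtain ⟨w, hw, e⟩ := H.cover (Multiplicative.toAdd x)
    exact ⟨⟨w, hw⟩, congrArg Multiplicative.ofAdd e⟩
  rw [relIndex, ← h1, index_ker, MonoidHom.range_eq_top.2 h2, Subgroup.card_top]
  change Nat.card (Fin 2 → F) = 16
  rw [Nat.card_fun, H.f4, Nat.card_eq_fintype_card, Fintype.card_fin]
  rfl

/-- `w ↦ e w 1` on `W` -/
def eW1 : W →* Multiplicative F where
  toFun w := Multiplicative.ofAdd (N.e w 0 1)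
  map_one' := by
    change Multiplicative.ofAdd (N.e 1 0 1) = 1
    rw [one1]; rfl
  map_mul' := fun v w => by
    change Multiplicative.ofAdd (N.e (v * w : G) 0 1) = _
    rw [mul1 N (H.WV v.2) (H.WV w.2)]; rfl

theorem ix : L.relIndex W = 4 := by
  have h1 : H.eW1.ker = L.subgroupOf W := by
    ext w
    rw [MonoidHom.mem_ker, mem_subgroupOf, H.mem_L (H.WV w.2)]
    exact Iff.rfl
  have h2 : Function.Surjective H.eW1 := fun x => by
    obtain ⟨w, hw, e⟩ := H.cover ![0, Multiplicative.toAdd x]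
    refine ⟨⟨w, hw⟩, ?_⟩
    change Multiplicative.ofAdd (N.e w 0 1) = x
    rw [e]; rfl
  rw [relIndex, ← h1, index_ker, MonoidHom.range_eq_top.2 h2, Subgroup.card_top]
  exact H.f4

/-- `w ∈ W` with `e w 1 ≠ 0`: only `up 0` fixes it modulo `D` -/
theorem up_of_cent {x w : G} {b : F} (hb : Ac N x (Lib.SL2Mat.up b)) (hw : w ∈ V) (hw1 : N.e w 0 1 ≠ 0)
    (hc : x * w = w * x) : b = 0 := by
  have h2 : x * w * x⁻¹ = w := by rw [hc, mul_inv_cancel_right]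
  have h3 := ac_e hb hw
  rw [h2] at h3
  have h4 := congrFun h3 0
  rw [ap_zero', up_00, up_01, one_mul] at h4
  exact (mul_eq_zero.1 (left_eq_add.1 h4)).resolve_right hw1

theorem cW (x : G) (hx : x ∈ Q) (hn : x ∉ centralizer (W : Set G)) : W ⊓ centralizer ({x} : Set G) ≤ L := by
  rintro w ⟨hw, hc⟩
  rw [H.mem_L (H.WV hw)]
  by_contra hw1
  obtain ⟨b, hb⟩ := H.up x hx
  have h1 := H.up_of_cent hb (H.WV hw) hw1 (mem_centralizer_singleton_iff.1 hc).symm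
  rw [h1] at hb
  exact hn (centralizer_le H.WV (H.cent_of hx hb))

open Classical in
/-- `x ↦ b` on `Q` -/
noncomputable def bQ : Q →* Multiplicative F where
  toFun x := Multiplicative.ofAdd (H.up x x.2).choose
  map_one' := by
    have h1 : Ac N 1 (Lib.SL2Mat.up (H.up (1 : Q) (1 : Q).2).choose) := (H.up (1 : Q) (1 : Q).2).choose_spec
    have h2 := ac_uniq h1 ac_one
    rw [← up_zero] at h2
    exact congrArg Multiplicative.ofAdd (up_inj h2)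
  map_mul' := fun x y => by
    have h1 := (H.up _ (x * y).2).choose_spec
    have h2 := ac_mul H.YV (H.QY y.2) (H.up x x.2).choose_spec (H.up y y.2).choose_spec
    rw [up_mul] at h2
    exact congrArg Multiplicative.ofAdd (up_inj (ac_uniq h1 h2))

theorem idx : (centralizer (W : Set G)).relIndex Q = 4 := by
  have h1 : H.bQ.ker = (centralizer (W : Set G)).subgroupOf Q := by
    ext x
    rw [MonoidHom.mem_ker, mem_subgroupOf]
    have h2 := (H.up x x.2).choose_spec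
    constructor
    · intro h
      have h3 : (H.up x x.2).choose = 0 := h
      rw [h3] at h2
      exact centralizer_le H.WV (H.cent_of x.2 h2)
    · intro h
      obtain ⟨w, hw, e⟩ := H.cover ![0, 1]
      have h3 := H.up_of_cent h2 (H.WV hw) (by rw [e]; exact one_ne_zero) (mem_centralizer_iff.1 h w hw).symm
      exact h3
  have h2 : Function.Surjective H.bQ := fun c => by
    obtain ⟨x, hx, hxc⟩ := H.full (Multiplicative.toAdd c)
    refine ⟨⟨x, hx⟩, ?_⟩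
    exact congrArg Multiplicative.ofAdd (up_inj (ac_uniq (H.up x hx).choose_spec hxc))
  rw [relIndex, ← h1, index_ker, MonoidHom.range_eq_top.2 h2, Subgroup.card_top]
  exact H.f4

/-- the kernel of `K Q` on `W / F` -/
def RR : Subgroup G where
  carrier := {r | r ∈ oddGen Y ⊔ Q ∧ ∀ v ∈ V, N.e (r * v * r⁻¹) 0 = N.e v 0}
  one_mem' := ⟨one_mem _, fun v _ => by rw [one_mul, inv_one, mul_one]⟩
  mul_mem' := by
    rintro a b ⟨ha, h1⟩ ⟨hb, h2⟩
    refine ⟨mul_mem ha hb, fun v hv => ?_⟩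
    have e : a * b * v * (a * b)⁻¹ = a * (b * v * b⁻¹) * a⁻¹ := by group
    have hbY : b ∈ Y := sup_le (oddGen_le Y) H.QY hb
    rw [e, h1 _ ((mem_normalizer_iff.1 (H.YV hbY) v).1 hv), h2 v hv]
  inv_mem' := by
    rintro a ⟨ha, h1⟩
    refine ⟨inv_mem ha, fun v hv => ?_⟩
    have haY : a ∈ Y := sup_le (oddGen_le Y) H.QY ha
    have h2 : a⁻¹ * v * a⁻¹⁻¹ ∈ V := (mem_normalizer_iff.1 (H.YV (inv_mem haY)) v).1 hv
    have h3 := h1 _ h2
    have e : a * (a⁻¹ * v * a⁻¹⁻¹) * a⁻¹ = v := by group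
    rw [e] at h3
    exact h3.symm

theorem KQY : oddGen Y ⊔ Q ≤ Y := sup_le (oddGen_le Y) H.QY

theorem RR_eq : H.RR = (oddGen Y ⊔ Q) ⊓ tv N H.YV := by
  ext r
  exact ⟨fun h => ⟨h.1, H.KQY h.1, h.2⟩, fun h => ⟨h.1, h.2.2⟩⟩

theorem nR : oddGen Y ⊔ Q ≤ normalizer (H.RR : Set G) := by
  intro x hx
  rw [mem_normalizer_iff_cj, H.RR_eq, cj_inf, cj_eq_of_mem_normalizer (le_normalizer hx),
    cj_eq_of_mem_normalizer (norm_tv H.YV H.YD (H.KQY hx))]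

theorem RW (r : G) (hr : r ∈ H.RR) (w : G) (hw : w ∈ W) :
    r * w * r⁻¹ * w⁻¹ ∈ W ⊓ centralizer (oddGen Y : Set G) := by
  have h1 : r * w * r⁻¹ ∈ W := (mem_normalizer_iff.1 (H.YW (H.KQY hr.1)) w).1 hw
  have h2 := (div1 N (H.WV h1) (H.WV hw)).2 (hr.2 w (H.WV hw))
  rw [← H.DE] at h2
  exact ⟨W.mul_mem h1 (W.inv_mem hw), h2.2⟩

theorem ER : Q ⊓ centralizer (W : Set G) ≤ H.RR := by
  rintro x ⟨hx, hc⟩
  refine ⟨mem_sup_right hx, fun v hv => ?_⟩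
  obtain ⟨b, hb⟩ := H.up x hx
  obtain ⟨w, hw, e⟩ := H.cover ![0, 1]
  have h3 := H.up_of_cent hb (H.WV hw) (by rw [e]; exact one_ne_zero) (mem_centralizer_iff.1 hc w hw).symm
  rw [h3] at hb
  rw [ac_e hb hv, up_zero, ap_one]

/-- **The facts (a), (b) of #25227.** -/
theorem out : ∃ (R : Subgroup G) (g h : G), Out Q L (oddGen Y) W (W ⊓ centralizer (oddGen Y : Set G)) R g h := by
  obtain ⟨l, hl0, hl1, hl, -⟩ := exists_lam H.f4
  obtain ⟨h, hh, hQ, b', hac⟩ := H.exists_h hl0 hl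
  obtain ⟨g, hg, hgB⟩ := exists_three N H.YV (mB_pow (F := F))
  have hgY : g ∈ Y := oddGen_le Y hg
  have hlo : ∀ b : F, ∃ x ∈ cj g Q, x ∈ Y ∧ Ac N x (lo b) := fun b => by
    obtain ⟨x, hx, hxb⟩ := H.full b
    refine ⟨g * x * g⁻¹, mem_cj.2 (by
      have e : g⁻¹ * (g * x * g⁻¹) * g = x := by group
      rwa [e]), mul_mem (mul_mem hgY (H.QY hx)) (inv_mem hgY), ?_⟩
    have h1 := ac_conj H.YV hgY (H.QY hx) hgB hxb
    rwa [mB_conj] at h1
  have hcjK : cj g Q ≤ oddGen Y ⊔ Q := by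
    rintro x hx
    have h1 := mem_cj.1 hx
    have e : x = g * (g⁻¹ * x * g) * g⁻¹ := by group
    rw [e]
    exact mul_mem (mul_mem (mem_sup_left hg) (mem_sup_right h1)) (inv_mem (mem_sup_left hg))
  refine ⟨H.RR, g, h, {
    QW := H.QW
    idx := H.idx
    cW := H.cW
    ix := H.ix
    KW := (oddGen_le Y).trans H.YW
    FW := inf_le_left
    KF := ?_
    Fe := ?_
    iF := H.iF
    RK := fun r hr => hr.1
    nR := H.nR
    ER := H.ER
    RW := H.RW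
    gK := hg
    gn := ?_
    hK := hh
    hQ := hQ
    hv := ?_
    WK := ?_
    WC := ?_ }⟩
  · intro k hk
    rw [mem_normalizer_iff_cj, cj_inf, cj_centralizer, cj_eq_of_mem_normalizer (H.YW (oddGen_le Y hk)),
      cj_eq_of_mem_normalizer (le_normalizer_oddGen Y (oddGen_le Y hk))]
  · rintro w ⟨⟨hw, h1⟩, h2⟩
    rw [H.mem_F hw]
    obtain ⟨x, hx, hx1⟩ := H.full 1
    obtain ⟨y, hy, hyY, hy1⟩ := hlo 1
    have e1 : N.e w 0 1 = 0 := by
      by_contra h3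
      exact one_ne_zero (H.up_of_cent hx1 (H.WV hw) h3 (mem_centralizer_iff.1 h1 x hx))
    have h4 : y * w * y⁻¹ = w := by rw [mem_centralizer_iff.1 h2 y hy, mul_inv_cancel_right]
    have h5 := ac_e hy1 (H.WV hw)
    rw [h4] at h5
    have h6 := congrFun h5 1
    rw [ap_one', lo_10, lo_11, one_mul, one_mul] at h6
    exact ext2 (right_eq_add.1 h6) e1
  · intro k hk
    obtain ⟨A, hA⟩ := oddGen_ac N H.syl H.YV H.YD hk
    obtain ⟨a, b, c, d, rfl⟩ := exists_up_lo A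
    obtain ⟨x1, hx1, e1⟩ := H.full a
    obtain ⟨x2, hx2, hY2, e2⟩ := hlo b
    obtain ⟨x3, hx3, e3⟩ := H.full c
    obtain ⟨x4, hx4, hY4, e4⟩ := hlo d
    have hm := ac_mul H.YV hY4 (ac_mul H.YV (H.QY hx3) (ac_mul H.YV hY2 e1 e2) e3) e4
    have hmY : x1 * x2 * x3 * x4 ∈ Y := mul_mem (mul_mem (mul_mem (H.QY hx1) hY2) (H.QY hx3)) hY4
    have hr := ac_mul H.YV (oddGen_le Y hk) (ac_inv H.YV hmY hm) hA
    rw [inv_mul_cancel] at hr
    have hmK : x1 * x2 * x3 * x4 ∈ oddGen Y ⊔ Q :=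
      mul_mem (mul_mem (mul_mem (mem_sup_right hx1) (hcjK hx2)) (mem_sup_right hx3)) (hcjK hx4)
    have hrR : (x1 * x2 * x3 * x4)⁻¹ * k ∈ H.RR :=
      ⟨mul_mem (inv_mem hmK) (mem_sup_left hk), fun v hv => by rw [ac_e hr hv, ap_one]⟩
    have e : k = x1 * x2 * x3 * x4 * ((x1 * x2 * x3 * x4)⁻¹ * k) := by group
    rw [e]
    refine mul_mem (mem_sup_left ?_) (mem_sup_right hrR)
    exact mul_mem (mul_mem (mul_mem (mem_sup_left hx1) (mem_sup_right hx2)) (mem_sup_left hx3)) (mem_sup_right hx4)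
  · rintro v ⟨hv, hvL⟩ hF
    rw [H.mem_F hv]
    have h1 := (H.mem_L (H.WV hv)).1 hvL
    have h2 : h * v * h⁻¹ ∈ W := (mem_normalizer_iff.1 (H.YW (oddGen_le Y hh)) v).1 hv
    have h3 : h * v * h⁻¹ * v⁻¹ ∈ D := by
      rw [← H.DE]; exact ⟨H.WV hF.1, hF.2⟩
    have h4 := (div1 N (H.WV h2) (H.WV hv)).1 h3
    rw [ac_e hac (H.WV hv), ap_mul] at h4
    have h5 := congrFun h4 0
    rw [ap_zero', ap_zero', ap_one', h1] at h5
    simp only [up_00, up_01, dg_00, dg_01, dg_10, dg_11, one_mul, zero_mul, mul_zero, add_zero] at h5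
    have h6 : (l - 1) * N.e v 0 0 = 0 := by linear_combination h5
    exact ext2 ((mul_eq_zero.1 h6).resolve_left (sub_ne_zero.2 hl1)) h1
  · intro A hLA hKA w hw
    have hwV := H.WV hw
    obtain ⟨v1, hv1, e1⟩ := surj1 N ![N.e w 0 0, 0]
    obtain ⟨v2, hv2, e2⟩ := surj1 N ![N.e w 0 1, 0]
    have h1 : v1 ∈ A := hLA (H.hL v1 hv1 (by rw [e1]; rfl))
    have h2 : v2 ∈ A := hLA (H.hL v2 hv2 (by rw [e2]; rfl))
    have h3 : g * v2 * g⁻¹ ∈ A := (mem_normalizer_iff.1 (hKA hg) v2).1 h2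
    have h3V : g * v2 * g⁻¹ ∈ V := (mem_normalizer_iff.1 (H.YV hgY) v2).1 hv2
    have h4 : w * (v1 * (g * v2 * g⁻¹))⁻¹ ∈ D := by
      rw [div1 N hwV (mul_mem hv1 h3V), mul1 N hv1 h3V, ac_e hgB hv2, e1, e2]
      apply ext2
      · rw [Pi.add_apply, ap_zero']; simp [mB]
      · rw [Pi.add_apply, ap_one']; simp [mB]
    have e : w = w * (v1 * (g * v2 * g⁻¹))⁻¹ * (v1 * (g * v2 * g⁻¹)) := by group
    rw [e]
    exact mul_mem (hLA (H.DL h4)) (mul_mem h1 h3)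
  · rintro v ⟨hv, hvL⟩
    have h1 := (H.mem_L (H.WV hv)).1 hvL
    obtain ⟨w, hw, ew⟩ := H.cover ![0, 1]
    obtain ⟨x, hx, hxb⟩ := H.full (-(N.e v 0 0))
    have hc : ⁅w, x⁆ ∈ ⁅W, Q⁆ := commutator_mem_commutator hw hx
    have h2 : x * w⁻¹ * x⁻¹ ∈ W := (mem_normalizer_iff.1 (H.QW hx) _).1 (inv_mem hw)
    have h3 : ⁅w, x⁆ = w * (x * w⁻¹ * x⁻¹) := by rw [commutatorElement_def]; group
    have h4 : N.e ⁅w, x⁆ 0 = N.e v 0 := by
      rw [h3, mul1 N (H.WV hw) (H.WV h2), ac_e hxb (H.WV (inv_mem hw)), inv1 N (H.WV hw), ew]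
      apply ext2
      · rw [Pi.add_apply, ap_zero']; simp
      · rw [Pi.add_apply, ap_one', h1]; simp
    have h5 : ⁅w, x⁆ ∈ W := by rw [h3]; exact mul_mem hw h2
    refine ⟨v⁻¹ * ⁅w, x⁆, ?_, by rwa [mul_inv_cancel_left]⟩
    rw [H.mem_F (mul_mem (inv_mem hv) h5), mul1 N (H.WV (inv_mem hv)) (H.WV h5), inv1 N (H.WV hv), h4,
      neg_add_cancel]

end Hyp

end Cfsg.Agent.Omega.NO3S.WY.Tor.NatOne
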