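import Cfsg.Agent.Mrg.Omega.NO3S.WY.Tor.SFiveLet
import Cfsg.Agent.Mrg.Omega.NO3S.WY.Tor.Act
import Cfsg.Agent.Mrg.Omega.NO3S.WY.Tor.CxOf
import Cfsg.Agent.Mrg.Omega.CaseLQ.Crd

section


/-!
# The odd kernel lemma for one `S₅`

* `TorS.datKer` : helper570's `OddKer.Dat` for `Y`, `Q = O₂(P)`, `O₂(Y)` (the five lines of `zl T Y / cv T Y`);
* `TorS.ker0` : helper594's `Ker0` for a `Y`-invariant elementary abelian group on which `Q` is quadratic;
* `ker0_quad` : the same if `Q = A₁ (Q ∩ O₂(Y))`, `A₁` quadratic (`O₂(Y)` may move the group);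
* `TorS.ker0V` : **`Ker0` for `V ∩ O₂(C_G(nn p))`**, `V` the module of the family;
* `TorS.odd_ker` : sections.
-/

set_option autoImplicit false
set_option linter.unusedSectionVars false

namespace Cfsg.Agent.Omega.NO3S.WY.Tor.SFive

open Subgroup Cfsg Cfsg.Agent.ZN Cfsg.Agent.ZN.ChoiceBase Cfsg.Agent.ZN.ChoiceSit
open Cfsg.Agent.Omega.FFThm (OffM ElemM NatKM ActsSL)
open Cfsg.Agent.Omega.NatPair (ap ap_one)
open Cfsg.Agent.Lib.SL2Mat (up up_mul up_zero)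
open Cfsg.Agent.Omega.FrameFF (cv)
open Cfsg.Agent.Omega.NTwo (Std nn aa)
open Cfsg.Agent.Omega.NO3S.Sym.Light (FiveL)
open Cfsg.Agent.Omega.NO3S.RedC (GX DX)
open scoped commutatorElement

universe u

variable {G : Type u} [Group G] [Finite G] {S : Sylow 2 G} {P Y V A : Subgroup G} {𝓕 : Set (Subgroup G)}
  {p : Fin 5 → G}

local notation "TT" => Std.T (S : Subgroup G) p

/-- `Ker0` if `Q = A₁ (Q ∩ D)`, `A₁` quadratic on `A`: `D` may move `A`. -/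
theorem ker0_quad {Q D A A₁ : Subgroup G} {π : ↥Y →* Equiv.Perm (Fin 5)}
    (d : OddKer.Dat π (Q.subgroupOf Y) (D.subgroupOf Y)) (QY : Q ≤ Y) (DY : D ≤ Y)
    (DN : Y ≤ normalizer (D : Set G)) (DQ : D ≤ normalizer (Q : Set G)) (nA : Y ≤ normalizer (A : Set G))
    (cm : ∀ a ∈ A, ∀ b ∈ A, a * b = b * a) (sq : ∀ a ∈ A, a * a = 1) (h1 : A₁ ≤ Q)
    (h2 : ∀ q ∈ Q, ∃ a ∈ A₁, ∃ x ∈ D, a * x = q) (qd : Qd A A₁) : OddKer.Ker0 Y Q A := by
  intro N₁ hle hN v hv hvN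
  have hn : ∀ y ∈ Y, ∀ n ∈ N₁, y * n * y⁻¹ ∈ N₁ := fun y hy n hn => (mem_normalizer_iff.1 (hN hy) n).1 hn
  have hA : ∀ y ∈ Y, ∀ n ∈ A, y * n * y⁻¹ ∈ A := fun y hy n hn => (mem_normalizer_iff.1 (nA hy) n).1 hn
  let X : Subgroup G :=
    { carrier := {a | a ∈ A ∧ ∀ u ∈ D, u * a * u⁻¹ * a⁻¹ ∈ N₁}
      one_mem' := ⟨one_mem _, fun u _ => by simp⟩
      mul_mem' := by
        rintro a b ⟨ha, ha'⟩ ⟨hb, hb'⟩
        refine ⟨mul_mem ha hb, fun u hu => ?_⟩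
        have h3 := cm _ (mul_mem (hA u (DY hu) b hb) (inv_mem hb)) a⁻¹ (inv_mem ha)
        have e : u * (a * b) * u⁻¹ * (a * b)⁻¹ = u * a * u⁻¹ * a⁻¹ * (a * (u * b * u⁻¹ * b⁻¹ * a⁻¹)) := by group
        rw [e, h3, mul_inv_cancel_left]
        exact mul_mem (ha' u hu) (hb' u hu)
      inv_mem' := by
        rintro a ⟨ha, ha'⟩
        refine ⟨inv_mem ha, fun u hu => ?_⟩
        have h3 := cm _ (inv_mem (hA u (DY hu) a ha)) a ha
        have e : u * a⁻¹ * u⁻¹ * a⁻¹⁻¹ = (u * a * u⁻¹)⁻¹ * a := by group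
        rw [e, h3]
        have e2 : a * (u * a * u⁻¹)⁻¹ = (u * a * u⁻¹ * a⁻¹)⁻¹ := by group
        rw [e2]
        exact inv_mem (ha' u hu) }
  have hX : ∀ a, a ∈ X ↔ a ∈ A ∧ ∀ u ∈ D, u * a * u⁻¹ * a⁻¹ ∈ N₁ := fun _ => Iff.rfl
  have nX' : ∀ y ∈ Y, ∀ x ∈ X, y * x * y⁻¹ ∈ X := by
    rintro y hy x ⟨hx, hx'⟩
    refine ⟨hA y hy x hx, fun u hu => ?_⟩
    have h3 : y⁻¹ * u * y ∈ D := by
      have := (mem_normalizer_iff.1 (inv_mem (DN hy)) u).1 hu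
      rwa [inv_inv] at this
    have e : u * (y * x * y⁻¹) * u⁻¹ * (y * x * y⁻¹)⁻¹ =
        y * ((y⁻¹ * u * y) * x * (y⁻¹ * u * y)⁻¹ * x⁻¹) * y⁻¹ := by group
    rw [e]
    exact hn y hy _ (hx' _ h3)
  have nX : Y ≤ normalizer (X : Set G) := by
    intro y hy
    rw [mem_normalizer_iff]
    intro x
    refine ⟨nX' y hy x, fun hx => ?_⟩
    have := nX' y⁻¹ (inv_mem hy) _ hx
    have e : y⁻¹ * (y * x * y⁻¹) * y⁻¹⁻¹ = x := by group
    rwa [e] at this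
  have hsec : OddKer.Sec Y X N₁ :=
    { le := fun n hn' => ⟨hle hn', fun u hu => mul_mem (hn u (DY hu) n hn') (inv_mem hn')⟩
      nX := nX
      nX' := hN
      cm := fun a ha b hb => by
        rw [commutatorElement_eq_one_iff_mul_comm.2 (cm a ha.1 b hb.1)]; exact one_mem _
      sq := fun a ha => by rw [sq a ha.1]; exact one_mem _ }
  refine OddKer.sect d QY hsec (fun q hq q' hq' x hx => ?_) ⟨hv, fun u hu => hvN u (DY hu) (DQ hu)⟩ hvN
  obtain ⟨a, ha, u, hu, rfl⟩ := h2 q hq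
  obtain ⟨a', ha', u', hu', rfl⟩ := h2 q' hq'
  have haY := QY (h1 ha)
  have haY' := QY (h1 ha')
  have h4 := qd a' ha' a ha x hx.1
  have h5 : a' * x * a'⁻¹ * x⁻¹ ∈ X := mul_mem (nX' a' haY' x hx) (inv_mem hx)
  set y := a' * x * a'⁻¹ * x⁻¹ with hy
  set n := u' * x * u'⁻¹ * x⁻¹ with hn'
  set m := u * y * u⁻¹ * y⁻¹ with hm
  have e1 : ⁅a' * u', x⁆ = (a' * n * a'⁻¹) * y := by rw [commutatorElement_def, hy, hn']; group
  have e2 : ⁅a * u, (a' * n * a'⁻¹) * y⁆ =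
      ((a * u) * (a' * n * a'⁻¹) * (a * u)⁻¹) * (a * m * a⁻¹) * (a * y * a⁻¹ * y⁻¹) * (a' * n * a'⁻¹)⁻¹ := by
    rw [commutatorElement_def, hm]; group
  have e3 : a * y * a⁻¹ * y⁻¹ = 1 := by rw [← h4]; group
  rw [e1, e2, e3, mul_one]
  exact mul_mem (mul_mem (hn _ (mul_mem haY (DY hu)) _ (hn _ haY' _ (hx.2 u' hu'))) (hn _ haY _ (h5.2 u hu)))
    (inv_mem (hn _ haY' _ (hx.2 u' hu')))

namespace TorS

variable (t : TorS S P p Y)
include t

/-- `O₂(Y) ≤ T` -/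
theorem o2T : o2 Y ≤ Std.T (S : Subgroup G) p := ChoiceSit.o2_le_syl t.wy.syl

theorem Q_Y : o2 P ≤ Y := t.wy.toWQ.QT.trans t.TY

/-- `S` normalises `O₂(P)` -/
theorem S_nQ : (S : Subgroup G) ≤ normalizer (o2 P : Set G) := by
  rw [← t.wy.toWQ.cl.M0_eq]
  exact Level.S_le_M0 _

/-- **helper570's data** -/
theorem datKer : ∃ π : ↥Y →* Equiv.Perm (Fin 5), OddKer.Dat π ((o2 P).subgroupOf Y) ((o2 Y).subgroupOf Y) := by
  obtain ⟨F, _, _, _, M, h4, -, hN⟩ := t.nat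
  have hfull := fun b : F => t.full M b
  let N := M.toNatK
  have HV : Y ≤ normalizer (zl TT Y : Set G) := ZN.le_normalizer_zl _ _
  have TH : TT ≤ Y := t.TY
  obtain ⟨ε, hε⟩ := Act.exists_lab h4
  obtain ⟨π, hπ⟩ := Act.exists_pi N HV TH ε
  have hpi : ∀ (y : ↥Y) a o, ChoiceBase.cj (y : G) (Act.LL N (ε a)) = Act.LL N o → ε (π y a) = o := fun y a o h =>
    Act.LL_inj N (by rw [← hπ, h])
  -- trivial elements
  have hone : ∀ y : ↥Y, (∀ v ∈ zl TT Y, (y : G) * v * (y : G)⁻¹ = v) → π y = 1 := by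
    intro y hy
    ext a
    have h1 : ε (π y a) = ε a := hpi y a (ε a) (by
      refine Act.cj_eq_of N HV y.2 (A := 1) (fun v hv => by rw [ap_one, hy v hv]) fun x hx => ?_
      rw [ap_one]
      exact hx)
    rw [ε.injective h1]; rfl
  have hDk : ∀ d : ↥Y, (d : G) ∈ o2 Y → π d = 1 := by
    intro d hd
    refine hone d fun v hv => ?_
    have h1 := mem_centralizer_iff.1 (t.cent_zl hd) v hv
    rw [← h1]; group
  have hDle : (o2 Y).subgroupOf Y ≤ π.ker := fun d hd => hDk d (mem_subgroupOf.1 hd)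
  have hA := Act.alt_range N HV hε hπ
  have hk : ∀ y : ↥Y, π y = 1 → ∀ v ∈ zl TT Y, (y : G) * v * (y : G)⁻¹ * v⁻¹ ∈ cv TT Y := by
    intro y hy v hv
    have h1 : ∀ o, ChoiceBase.cj (y : G) (Act.LL N o) = Act.LL N o := by
      intro o
      obtain ⟨a, rfl⟩ := ε.surjective o
      rw [hπ, hy]; rfl
    have h2 := Act.ker_triv N HV TH t.T2 y.2 h1 hv
    have h3 : (y : G) * v * (y : G)⁻¹ ∈ zl TT Y := (mem_normalizer_iff.1 (HV y.2) v).1 hv
    refine (Act.mem_D N (mul_mem h3 (inv_mem hv))).2 ?_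
    rw [Act.e_mul N h3 (inv_mem hv), Act.e_inv N hv, Pi.neg_apply, h2, add_neg_cancel]
  have hQY : o2 P ≤ Y := t.Q_Y
  have hq0 : ∀ q : ↥Y, (q : G) ∈ o2 P → π q 0 = 0 := by
    intro q hq
    apply ε.injective
    rw [hε]
    refine hpi q 0 none ?_
    rw [hε]
    exact Act.T_none N HV TH (t.wy.toWQ.QT hq)
  have hq2 : ∀ q : ↥Y, (q : G) ∈ o2 P → π q * π q = 1 := by
    intro q hq
    obtain ⟨b, hb⟩ := hN q hq
    have hb' : Act.Acts N (q : G) (up b) := Act.Acts.of N hb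
    rw [← map_mul]
    ext a
    have h1 : ε (π (q * q) a) = ε a := hpi (q * q) a (ε a) (by
      refine Act.cj_eq_of N HV (mul_mem q.2 q.2) (hb'.mul hb' (HV q.2)) fun x hx => ?_
      rw [up_mul, CharTwo.add_self_eq_zero, up_zero, ap_one]
      exact hx)
    rw [ε.injective h1]; rfl
  have hqt : ∀ i : Fin 5, i ≠ 0 → ∀ k : Fin 5, k ≠ 0 → ∃ q : ↥Y, (q : G) ∈ o2 P ∧ π q i = k := by
    intro i hi k hk
    obtain ⟨c, hc⟩ : ∃ c, ε i = some c := by
      cases h : ε i with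
      | none => exact absurd (ε.injective (h.trans hε.symm)) hi
      | some c => exact ⟨c, rfl⟩
    obtain ⟨d, hd⟩ : ∃ d, ε k = some d := by
      cases h : ε k with
      | none => exact absurd (ε.injective (h.trans hε.symm)) hk
      | some c => exact ⟨c, rfl⟩
    obtain ⟨g, hg, hA⟩ := hfull (d - c)
    have hA' : Act.Acts N g (up (d - c)) := Act.Acts.of N hA
    refine ⟨⟨g, hQY hg⟩, hg, ε.injective ?_⟩
    rw [hd]
    refine hpi ⟨g, hQY hg⟩ i _ ?_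
    rw [hc]
    refine Act.cj_eq_of N HV (hQY hg) hA' fun x hx => ?_
    have := Act.up_some (b := d - c) hx
    rwa [add_sub_cancel] at this
  -- the index of `O₂(Y)` in the kernel is odd
  have hko : Odd (((o2 Y).subgroupOf Y).relIndex π.ker) := by
    have h2 : (TT).subgroupOf Y ⊓ π.ker ≤ (o2 Y).subgroupOf Y := by
      rintro b ⟨hb, hbk⟩
      rw [mem_subgroupOf]
      exact t.ker (mem_subgroupOf.1 hb) (hk b hbk)
    have h3 : ¬ 2 ∣ ((TT).subgroupOf Y).index := ChoiceSit.syl_not_dvd t.wy.syl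
    have h4 : ((TT).subgroupOf Y).relIndex (π.ker ⊔ (TT).subgroupOf Y) * (π.ker ⊔ (TT).subgroupOf Y).index =
        ((TT).subgroupOf Y).index := relIndex_mul_index le_sup_right
    have h5 : ((TT).subgroupOf Y).relIndex (π.ker ⊔ (TT).subgroupOf Y) = ((TT).subgroupOf Y).relIndex π.ker :=
      relIndex_sup_normal _ _
    have h6 : ((TT).subgroupOf Y ⊓ π.ker).relIndex π.ker = ((TT).subgroupOf Y).relIndex π.ker := inf_relIndex_right _ _
    have h7 : ((TT).subgroupOf Y ⊓ π.ker).relIndex ((o2 Y).subgroupOf Y) * ((o2 Y).subgroupOf Y).relIndex π.ker =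
        ((TT).subgroupOf Y ⊓ π.ker).relIndex π.ker := relIndex_mul_relIndex _ _ _ h2 hDle
    rw [← Nat.not_even_iff_odd, even_iff_two_dvd]
    intro h8
    apply h3
    rw [← h4, h5, ← h6, ← h7]
    exact Dvd.dvd.mul_right (Dvd.dvd.mul_left h8 _) _
  -- the kernel is solvable
  have hsol : Group.IsSolvable ↥π.ker := by
    obtain ⟨M₀, hM₀, hmax⟩ := t.wy.min.exists_max
    have hnD : ((o2 Y).subgroupOf Y).Normal := normal_subgroupOf_of_le_normalizer (ChoiceSit.le_normalizer_o2 Y)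
    have hB' : IsPGroup 2 ((TT).subgroupOf Y) := t.T2.comap_of_injective Y.subtype Y.subtype_injective
    have hD' : IsPGroup 2 ((o2 Y).subgroupOf Y) :=
      (ChoiceSit.isPGroup_o2 Y).comap_of_injective Y.subtype Y.subtype_injective
    refine sol_of_min (M := M₀.subgroupOf Y) hnD hD' hB' ?_ (fun X' hX' hne' => ?_) hDle hko ?_
    · intro e
      rw [subgroupOf_eq_top] at e
      exact hM₀.not_ge e
    · have h1 : X'.map Y.subtype ≤ M₀ := by
        refine hmax _ ?_ (lt_of_le_of_ne (map_subtype_le _) fun e => hne' ?_)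
        · intro b hb
          exact ⟨⟨b, TH hb⟩, hX' (mem_subgroupOf.2 hb), rfl⟩
        · rw [eq_top_iff]
          rintro ⟨x, hx⟩ -
          have hx2 : x ∈ X'.map Y.subtype := e.ge hx
          obtain ⟨x', hx', e'⟩ := hx2
          have : x' = ⟨x, hx⟩ := Subtype.ext e'
          rwa [← this]
      intro x hx
      exact mem_subgroupOf.2 (h1 ⟨x, hx, rfl⟩)
    · intro e
      refine not_two_alt (hB'.map π) (hA.trans ?_)
      have h1 : (π.ker ⊔ (TT).subgroupOf Y).map π = ((TT).subgroupOf Y).map π := by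
        rw [Subgroup.map_sup, (π.ker.map_eq_bot_iff (f := π)).2 le_rfl, bot_sup_eq]
      rw [← h1, e, MonoidHom.range_eq_map]
  refine ⟨π, OddKer.Dat.of π hQY (ChoiceSit.o2_le Y) (ChoiceSit.le_normalizer_o2 Y) (ChoiceSit.isPGroup_o2 Y)
    (ChoiceSit.isPGroup_o2 P) hDk hko hsol ?_ hq0 hq2 hqt (t.wy.toWQ.o2Y_le.trans t.S_nQ) ?_⟩
  · have h1 : (Equiv.swap (0 : Fin 5) 1 * Equiv.swap 1 2) ∈ alternatingGroup (Fin 5) := by
      rw [Equiv.Perm.mem_alternatingGroup]; decide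
    obtain ⟨g, hg⟩ := hA h1
    refine ⟨g, ?_⟩
    rw [hg]; decide
  · intro y hy hyn
    have h1 : ChoiceBase.cj y (o2 P) ≤ (S : Subgroup G) := by
      have h2 : ChoiceBase.cj y (o2 P) ≤ ChoiceBase.cj y (o2 P ⊔ o2 Y) := cj_mono y le_sup_left
      rw [cj_eq_of_mem_normalizer hyn] at h2
      exact h2.trans (sup_le t.wy.toWQ.o2P_le t.wy.toWQ.o2Y_le)
    rw [mem_normalizer_iff_cj]
    exact t.wy.toWQ.cl.wc.eq y h1

/-- sections -/
theorem odd_ker {X X' : Subgroup G} (h : OddKer.Sec Y X X')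
    (qd : ∀ q ∈ o2 P, ∀ q' ∈ o2 P, ∀ x ∈ X, ⁅q, ⁅q', x⁆⁆ ∈ X') {v : G} (hv : v ∈ X)
    (hf : ∀ g ∈ Y, g ∈ normalizer (o2 P : Set G) → ⁅g, v⁆ ∈ X') : ∀ y ∈ Y, ⁅y, v⁆ ∈ X' := by
  obtain ⟨π, d⟩ := t.datKer
  exact OddKer.sect d t.Q_Y h qd hv hf

/-- helper594's `Ker0` -/
theorem ker0 {A : Subgroup G} (nA : Y ≤ normalizer (A : Set G)) (cm : ∀ a ∈ A, ∀ b ∈ A, a * b = b * a)
    (sq : ∀ a ∈ A, a * a = 1) (qd : ∀ q ∈ o2 P, ∀ q' ∈ o2 P, ∀ x ∈ A, ⁅q, ⁅q', x⁆⁆ = 1) :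
    OddKer.Ker0 Y (o2 P) A := by
  obtain ⟨π, d⟩ := t.datKer
  exact OddKer.ker0 d t.Q_Y nA cm sq qd

/-- **the odd kernel lemma on `V ∩ O₂(C_G(nn p))`**, `V` the module of the family -/
theorem ker0V (fm : FamT S P Y V 𝓕) :
    OddKer.Ker0 Y (o2 P) (V ⊓ o2 (centralizer ({nn p} : Set G)) : Subgroup G) := by
  obtain ⟨π, d⟩ := t.datKer
  obtain ⟨A₁, hA₁, h1, h2⟩ := fm.act
  have hn : nn p ∈ zl (S : Subgroup G) P := t.five.toFive.n_mem
  have hD : zpowers (nn p) ≤ ChoiceBase.cj 1 (zl (S : Subgroup G) P) := by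
    rw [cj_one, zpowers_le]
    exact hn
  have hne : zpowers (nn p) ≠ ⊥ := by
    rw [Ne, zpowers_eq_bot]
    exact t.five.std.n_ne_one
  have h3 := (fm.her A₁ hA₁ (h1.trans t.wy.toWQ.o2P_le) 1 (one_mem _) (zpowers (nn p))
    (V ⊓ o2 (centralizer ({nn p} : Set G))) hne hD inf_le_left (by rw [cent_zpowers]; exact inf_le_right)).2
  rw [cj_one] at h3
  have hV := t.wy.toWQ.Vc fm.md
  refine ker0_quad d t.Q_Y (ChoiceSit.o2_le Y) (ChoiceSit.le_normalizer_o2 Y)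
    (t.wy.toWQ.o2Y_le.trans t.S_nQ) ?_ (fun a ha b hb => (mem_centralizer_iff.1 (hV ha.1) b hb.1).symm)
    (fun a ha => ?_) h1 (fun q hq => ?_) h3
  · intro y hy
    rw [mem_normalizer_iff_cj, cj_inf, cj_eq_of_mem_normalizer (fm.md.norm (t.wy.toWQ.Y_le hy)),
      cj_eq_of_mem_normalizer (ZN.le_normalizer_o2 _ (t.cen hy))]
  · rw [← sq]
    exact t.wy.toWQ.V_sq a (fm.md.le ha.1)
  · obtain ⟨a, ha, x, hx, e⟩ := t.QW fm hA₁ h1 h2 hq
    exact ⟨a, ha, x, hx.2, e⟩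

end TorS

end Cfsg.Agent.Omega.NO3S.WY.Tor.SFive

end

section


/-!
# (TOR') for one `S₅`: `O²(Y)` centralises `V*_τ`

* `TorS.p0_comm` : `[Y, p 0] ≤ ⟨nn p⟩`: the odd kernel lemma, since `N_Y(O₂(P))` permutes `p 0`, `p 1`;
* `TorS.K0`, `TorS.K1` : `O²(Y)` centralises `p 0`, `p 1`.
-/

set_option autoImplicit false
set_option linter.unusedSectionVars false

namespace Cfsg.Agent.Omega.NO3S.WY.Tor.SFive

open Subgroup Cfsg Cfsg.Agent.ZN Cfsg.Agent.ZN.ChoiceBase Cfsg.Agent.ZN.ChoiceSit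
open Cfsg.Agent.MinSimple.VModule (oddGen oddGen_def mem_oddGen oddGen_le)
open Cfsg.Agent.Omega.NTwo (Std nn aa Fv cm)
open Cfsg.Agent.Omega.NO3S.Sym.Light (FiveL)
open Cfsg.Agent.Omega.NO3S.RedC (GX DX)
open scoped commutatorElement

universe u

variable {G : Type u} [Group G] [Finite G] {S : Sylow 2 G} {P Y : Subgroup G} {p : Fin 5 → G}

namespace TorS

variable (t : TorS S P p Y)
include t

/-- `Y` centralises `nn p` -/
theorem Ynn {y : G} (hy : y ∈ Y) : y * nn p = nn p * y := mem_centralizer_singleton_iff.1 (t.cen hy)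

/-- an element of `C(nn p)` which normalises `O₂(P)` maps `p 0` to `p 0` or `p 1` -/
theorem mv_p0 {g : G} (hg : g * nn p = nn p * g) (hQ : g ∈ normalizer (o2 P : Set G)) :
    g * p 0 * g⁻¹ = p 0 ∨ g * p 0 * g⁻¹ = p 1 := by
  obtain ⟨σ, hσ⟩ := CaseLQ.FiveFacts.act t.five (t.wy.toWQ.cl.norm_o2_le hQ)
  have h1 : g * (p 0 * p 1) * g⁻¹ = p 0 * p 1 := by
    change g * nn p * g⁻¹ = nn p
    rw [hg, mul_inv_cancel_right]
  rw [cm, hσ, hσ] at h1
  rw [hσ]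
  have h2 := t.five.std.toFv.pair_inj (fun e => absurd (σ.injective e) (by decide)) (by decide) h1
  rcases h2 with ⟨a, -⟩ | ⟨a, -⟩
  · left; rw [a]
  · right; rw [a]

/-- **`[Y, p 0] ≤ ⟨nn p⟩`** -/
theorem p0_comm : ∀ y ∈ Y, y * p 0 * y⁻¹ * (p 0)⁻¹ ∈ zpowers (nn p) := by
  obtain ⟨V, 𝓕, fm⟩ := t.fam
  have hL : zl (S : Subgroup G) P ≤ V ⊓ o2 (centralizer ({nn p} : Set G)) :=
    le_inf (t.wy.toWQ.L_le_zl.trans fm.md.ge) t.five.V_le_o2
  refine t.ker0V fm (zpowers (nn p)) ((zpowers_le.2 t.five.toFive.n_mem).trans hL) (fun y hy => ?_) (p 0)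
    (hL (t.five.toFive.p_mem 0)) fun g hg hQ => ?_
  · have h2 := t.cen hy
    rw [← cent_zpowers] at h2
    exact centralizer_le_normalizer _ h2
  · rw [commutatorElement_def]
    rcases t.mv_p0 (t.Ynn hg) hQ with h | h
    · rw [h, mul_inv_cancel]; exact one_mem _
    · rw [h, t.five.std.toFv.pinv, t.five.std.comm 1 0]; exact mem_zpowers _

/-- **`O²(Y)` centralises `p 0`** -/
theorem K0 : ∀ k ∈ oddGen Y, k * p 0 = p 0 * k := by
  have h1 : oddGen Y ≤ centralizer ({p 0} : Set G) := by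
    rw [oddGen_def, closure_le]
    rintro k ⟨hk, ho⟩
    rw [SetLike.mem_coe, mem_centralizer_singleton_iff]
    refine SFiveB.comm_of_odd (A := zl (S : Subgroup G) P) (Λ := zpowers (nn p)) (fun a ha => ?_) ho (t.p0_comm k hk)
      (fun z hz => ?_) (zpowers_le.2 t.five.toFive.n_mem)
    · rw [← sq]
      exact (ChoiceBase.mem_zc.1 (t.wy.toWQ.L_le ha)).2.1
    · have h2 := t.cen hk
      rw [← cent_zpowers] at h2
      exact (mem_centralizer_iff.1 h2 z hz).symm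
  exact fun k hk => mem_centralizer_singleton_iff.1 (h1 hk)

/-- **`O²(Y)` centralises `p 1`** -/
theorem K1 : ∀ k ∈ oddGen Y, k * p 1 = p 1 * k := by
  intro k hk
  have e : p 1 = nn p * p 0 := by
    change p 1 = p 0 * p 1 * p 0
    rw [t.five.std.comm 0 1, mul_assoc, t.five.std.sq, mul_one]
  have h1 := t.Ynn (oddGen_le Y hk)
  have h2 := t.K0 k hk
  calc k * p 1 = k * nn p * p 0 := by rw [e]; group
    _ = nn p * (k * p 0) := by rw [h1]; group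
    _ = nn p * p 0 * k := by rw [h2]; group
    _ = p 1 * k := by rw [← e]

end TorS

end Cfsg.Agent.Omega.NO3S.WY.Tor.SFive

end
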