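import Cfsg.Agent.Mrg.Omega.NO3S.WY.Tor.SFiveLet
import Cfsg.Agent.Mrg.Omega.NO3S.WY.Tor.Act
import Cfsg.Agent.Mrg.Omega.NO3S.WY.Tor.SFiveK
import Cfsg.Agent.Mrg.Omega.NO3S.WY.Tor.NatOne

section


/-!
# (TOR) for ONE `S₅`: the facts at `Y`

`t : TorS S P p Y`, `T = Std.T S p`, `Q = O₂(P)`, `L = V_P`, `N : NatKM F T Y (zl T Y) (cv T Y) 1` (the `N` of `t.nat`).

* `line_up` : an element of `T` which is trivial on the line modulo `cv T Y` acts as some `up b`;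
* `exists_b` : some `b ∈ O₂(Y)` acts on `L` as `(0 1)`;
* `cv_eq` : `C_V(O²(Y)) = ⟨nn p⟩`;
* `K_p0` : `[Y, p 0] ≤ ⟨nn p⟩`; `KE`, `syl`.
-/

set_option autoImplicit false
set_option linter.unusedSectionVars false
set_option linter.dupNamespace false

namespace Cfsg.Agent.Omega.NO3S.WY.Tor.SFiveI

open Subgroup Cfsg Cfsg.Agent.ZN Cfsg.Agent.ZN.ChoiceBase
open Cfsg.Agent.ZN.ChoiceSit (Syl exists_syl syl_conj)
open Cfsg.Agent.Omega.MinPar (IsParS)
open Cfsg.Agent.Omega.NO3S.RedC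
open Cfsg.Agent.Omega.NO3S.Level (Lev)
open Cfsg.Agent.Omega.FFThm (OffM ElemM NatK NatKM ActsSL)
open Cfsg.Agent.Omega.NatPair (ap ap_mul ap_one ap_zero' ap_one' ext2)
open Cfsg.Agent.Lib.SL2Mat
open Cfsg.Agent.Omega.FrameFF (cv)
open Cfsg.Agent.Omega.NTwo (Std nn aa mem_cent cm cc)
open Cfsg.Agent.Omega.NO3S.Sym.Light (FiveL)
open Cfsg.Agent.MinSimple.VModule (oddGen oddGen_def oddGen_le le_normalizer_oddGen)
open Cfsg.Agent.Omega.NO3b.EZero (cl cl_le le_cl cj_le_cl le_normalizer_cl oddGen_sup_syl)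
open Cfsg.Agent.Omega.SQ1.Bau (mem_sup_comm)
open Cfsg.Agent.Omega.NO3S.WY.Tor.SFive (TorS Y5)
open Cfsg.Agent.Omega.NO3S.WY.Tor.NatOne (Ac ac_e ac_pow exists_lam pow_four pow_lower T_up)
open scoped commutatorElement

universe u

variable {G : Type u} [Group G] [Finite G] {S : Sylow 2 G} {P Y V : Subgroup G} {p : Fin 5 → G}
  {𝓕 : Set (Subgroup G)}

/-- `V_τ`, `τ = {2, 3, 4}` -/
abbrev Vt (p : Fin 5 → G) : Subgroup G := closure {p 2 * p 3, p 2 * p 4}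

/-- `Λ = ⟨nn p⟩` -/
abbrev Lm (p : Fin 5 → G) : Subgroup G := zpowers (nn p)

section basic

variable (t : TorS S P p Y)
include t

theorem Y_nn {y : G} (hy : y ∈ Y) : y * nn p * y⁻¹ = nn p := mem_cent.1 (t.cen hy)

theorem Y_nn' {y : G} (hy : y ∈ Y) : y * nn p = nn p * y := by
  have := Y_nn t hy
  rwa [mul_inv_eq_iff_eq_mul] at this

theorem Q_T : o2 P ≤ Std.T (S : Subgroup G) p := t.wy.QT

theorem Q_Y : o2 P ≤ Y := (Q_T t).trans t.wy.T_Y

theorem Q_L : o2 P ≤ centralizer (zl (S : Subgroup G) P : Set G) := by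
  rw [← t.wy.cl.zc_eq]
  exact Level.le_centralizer_zc _

theorem S_L : (S : Subgroup G) ⊓ centralizer (zl (S : Subgroup G) P : Set G) ≤ o2 P :=
  (IsParS.inf_centralizer S t.wy.hG t.wy.parP).le

/-- `N_Y(Q)` acts on the letters -/
theorem NQ_act {g : G} (hg : g ∈ normalizer (o2 P : Set G)) : ∃ σ : Equiv.Perm (Fin 5), ∀ i, g * p i * g⁻¹ = p (σ i) :=
  act t.five (t.wy.cl.norm_o2_le hg)

theorem T_act {g : G} (hg : g ∈ Std.T (S : Subgroup G) p) :
    ∃ σ : Equiv.Perm (Fin 5), ∀ i, g * p i * g⁻¹ = p (σ i) :=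
  t.five.std.perm g (t.five.std.le (Std.T_le hg))

theorem V0_le : zl (Std.T (S : Subgroup G) p) Y ≤ zc (DX (S : Subgroup G) P Y) :=
  ZN.zl_le t.wy.zcT_le_V (t.wy.Y_le.trans (GX_norm _ _ _))

theorem V0_comm {v w : G} (hv : v ∈ zl (Std.T (S : Subgroup G) p) Y) (hw : w ∈ zl (Std.T (S : Subgroup G) p) Y) :
    v * w = w * v := Lev.zc_comm (V0_le t hv) (V0_le t hw)

theorem V0_sq {v : G} (hv : v ∈ zl (Std.T (S : Subgroup G) p) Y) : v * v = 1 := by
  rw [← pow_two]; exact t.wy.V_sq v (V0_le t hv)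

theorem Y_V0 : Y ≤ normalizer (zl (Std.T (S : Subgroup G) p) Y : Set G) := ZN.le_normalizer_zl _ _

theorem Y_cv : Y ≤ normalizer (cv (Std.T (S : Subgroup G) p) Y : Set G) := by
  intro y hy
  rw [mem_normalizer_iff_cj, cv, cj_inf, cj_centralizer, cj_eq_of_mem_normalizer (Y_V0 t hy),
    cj_eq_of_mem_normalizer (le_normalizer_oddGen Y hy)]

theorem cmem {y v : G} (hy : y ∈ Y) (hv : v ∈ zl (Std.T (S : Subgroup G) p) Y) :
    y * v * y⁻¹ ∈ zl (Std.T (S : Subgroup G) p) Y := (mem_normalizer_iff.1 (Y_V0 t hy) v).1 hv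

theorem ccv {y v : G} (hy : y ∈ Y) (hv : v ∈ cv (Std.T (S : Subgroup G) p) Y) :
    y * v * y⁻¹ ∈ cv (Std.T (S : Subgroup G) p) Y := (mem_normalizer_iff.1 (Y_cv t hy) v).1 hv

theorem nn_zc : nn p ∈ zc (Std.T (S : Subgroup G) p) := t.five.std.mem_zcT.2 (Or.inr (Or.inl rfl))

theorem aa_zc : aa p ∈ zc (Std.T (S : Subgroup G) p) := t.five.std.mem_zcT.2 (Or.inr (Or.inr (Or.inl rfl)))

theorem zcT_V0 : zc (Std.T (S : Subgroup G) p) ≤ zl (Std.T (S : Subgroup G) p) Y := ZN.zc_le_zl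

theorem nn_V0 : nn p ∈ zl (Std.T (S : Subgroup G) p) Y := zcT_V0 t (nn_zc t)

theorem aa_V0 : aa p ∈ zl (Std.T (S : Subgroup G) p) Y := zcT_V0 t (aa_zc t)

theorem nn_cv : nn p ∈ cv (Std.T (S : Subgroup G) p) Y :=
  ⟨nn_V0 t, mem_centralizer_iff.2 fun _ hk => Y_nn' t (oddGen_le Y hk)⟩

theorem Lm_cv : Lm p ≤ cv (Std.T (S : Subgroup G) p) Y := zpowers_le.2 (nn_cv t)

theorem W_V0 : cl (zpowers (aa p)) Y ≤ zl (Std.T (S : Subgroup G) p) Y := cl_le fun y hy => by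
  rw [← cj_eq_of_mem_normalizer (Y_V0 t hy)]
  exact cj_mono y (zpowers_le.2 (aa_V0 t))

theorem Y_Lm : Y ≤ centralizer (Lm p : Set G) := fun y hy => mem_centralizer_iff.2 fun x hx => by
  obtain ⟨n, rfl⟩ := mem_zpowers_iff.1 hx
  exact ((Commute.zpow_right (show Commute y (nn p) from Y_nn' t hy) n)).eq.symm

/-- `V₀ = W Λ` -/
theorem V0_le_W : zl (Std.T (S : Subgroup G) p) Y ≤ cl (zpowers (aa p)) Y ⊔ Lm p := by
  have hn : nn p ∈ cl (zpowers (aa p)) Y ⊔ Lm p := mem_sup_right (mem_zpowers _)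
  have ha : aa p ∈ cl (zpowers (aa p)) Y ⊔ Lm p := mem_sup_left (le_cl _ Y (mem_zpowers _))
  refine ZN.zl_le (fun x hx => ?_) ?_
  · rcases t.five.std.mem_zcT.1 hx with rfl | rfl | rfl | rfl
    · exact one_mem _
    · exact hn
    · exact ha
    · rw [← t.five.std.na]; exact mul_mem hn ha
  · intro y hy
    have h1 : cj y (Lm p) = Lm p := cj_eq_of_mem_normalizer (centralizer_le_normalizer _ (Y_Lm t hy))
    have h2 : cj y (cl (zpowers (aa p)) Y) = cl (zpowers (aa p)) Y := cj_eq_of_mem_normalizer (le_normalizer_cl _ _ hy)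
    rw [mem_normalizer_iff_cj, show cj y (cl (zpowers (aa p)) Y ⊔ Lm p) =
      cj y (cl (zpowers (aa p)) Y) ⊔ cj y (Lm p) from Subgroup.map_sup _ _ _, h1, h2]

end basic

section nat

variable {F : Type} [Field F] (t : TorS S P p Y)
  (N : NatKM F (Std.T (S : Subgroup G) p) Y (zl (Std.T (S : Subgroup G) p) Y) (cv (Std.T (S : Subgroup G) p) Y) 1)

omit [Finite G] in
theorem f_mul {T V D : Subgroup G} (N : NatKM F T Y V D 1) {v w : G} (hv : v ∈ V) (hw : w ∈ V) :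
    N.e (v * w) 0 = N.e v 0 + N.e w 0 := by rw [N.mul v hv w hw]; rfl

omit [Finite G] in
theorem f_one {T V D : Subgroup G} (N : NatKM F T Y V D 1) : N.e 1 0 = 0 := by
  have h := f_mul N (one_mem V) (one_mem V)
  rw [one_mul] at h
  exact left_eq_add.1 h

omit [Finite G] in
theorem f_inv {T V D : Subgroup G} (N : NatKM F T Y V D 1) {v : G} (hv : v ∈ V) : N.e v⁻¹ 0 = - N.e v 0 := by
  have h := f_mul N hv (inv_mem hv)
  rw [mul_inv_cancel, f_one] at h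
  exact (neg_eq_of_add_eq_zero_right h.symm).symm

omit [Finite G] in
theorem f_ker {T V D : Subgroup G} (N : NatKM F T Y V D 1) {v : G} (hv : v ∈ V) : N.e v 0 = 0 ↔ v ∈ D := by
  rw [← N.ker v hv]
  constructor
  · intro h; funext i; rw [Subsingleton.elim i 0, h]; rfl
  · intro h; rw [h]; rfl

omit [Finite G] in
theorem f_surj {T V D : Subgroup G} (N : NatKM F T Y V D 1) (x : Fin 2 → F) : ∃ v ∈ V, N.e v 0 = x := by
  obtain ⟨v, hv, h⟩ := N.surj fun _ => x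
  exact ⟨v, hv, by rw [h]⟩

omit [Finite G] in
theorem f_eq {T V D : Subgroup G} (N : NatKM F T Y V D 1) {v w : G} (hv : v ∈ V) (hw : w ∈ V) :
    N.e v 0 = N.e w 0 ↔ v * w⁻¹ ∈ D := by
  rw [← f_ker N (mul_mem hv (inv_mem hw)), f_mul N hv (inv_mem hw), f_inv N hw, ← sub_eq_add_neg, sub_eq_zero]

include t N

/-- `C_V(O²(Y)) ≠ V₀` -/
theorem aa_not_cv : aa p ∉ cv (Std.T (S : Subgroup G) p) Y := by
  intro ha
  have h1 : zl (Std.T (S : Subgroup G) p) Y ≤ cv (Std.T (S : Subgroup G) p) Y := by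
    refine ZN.zl_le (fun x hx => ?_) (Y_cv t)
    rcases t.five.std.mem_zcT.1 hx with rfl | rfl | rfl | rfl
    · exact one_mem _
    · exact nn_cv t
    · exact ha
    · rw [← t.five.std.na]; exact mul_mem (nn_cv t) ha
  obtain ⟨v, hv, h2⟩ := f_surj N ![1, 0]
  rw [(f_ker N hv).2 (h1 hv)] at h2
  have := congrFun h2 0
  simp at this

/-- An element of `T` which is trivial on the line modulo `cv T Y` acts as some `up b`. -/
theorem line_up [CharP F 2] {x : G} (hx : x ∈ Std.T (S : Subgroup G) p)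
    (hx' : ∀ v ∈ zl (Std.T (S : Subgroup G) p) Y, N.e v 0 1 = 0 →
      x * v * x⁻¹ * v⁻¹ ∈ cv (Std.T (S : Subgroup G) p) Y) :
    ∃ b, ∀ v ∈ zl (Std.T (S : Subgroup G) p) Y, N.e (x * v * x⁻¹) 0 = ap (up b) (N.e v 0) := by
  have hxY : x ∈ Y := t.wy.T_Y hx
  choose s hsV hs using f_surj N
  let φ : (Fin 2 → F) → Fin 2 → F := fun y => N.e (x * s y * x⁻¹) 0
  have key : ∀ v ∈ zl (Std.T (S : Subgroup G) p) Y, N.e (x * v * x⁻¹) 0 = φ (N.e v 0) := by
    intro v hv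
    change N.e (x * v * x⁻¹) 0 = N.e (x * s (N.e v 0) * x⁻¹) 0
    rw [f_eq N (cmem t hxY hv) (cmem t hxY (hsV _))]
    have h1 := (f_eq N hv (hsV (N.e v 0))).1 (hs _).symm
    have e : x * v * x⁻¹ * (x * s (N.e v 0) * x⁻¹)⁻¹ = x * (v * (s (N.e v 0))⁻¹) * x⁻¹ := by group
    rw [e]
    exact ccv t hxY h1
  suffices h0 : ∃ b, ∀ x, φ x = ap (up b) x by
    obtain ⟨b, hb⟩ := h0
    exact ⟨b, fun v hv => by rw [key v hv, hb]⟩
  refine exists_up φ ?_ ?_ ?_ ?_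
  · intro y z
    have h1 := key _ (mul_mem (hsV y) (hsV z))
    rw [f_mul N (hsV y) (hsV z), hs, hs] at h1
    rw [← h1]
    have e : x * (s y * s z) * x⁻¹ = (x * s y * x⁻¹) * (x * s z * x⁻¹) := by group
    rw [e, f_mul N (cmem t hxY (hsV y)) (cmem t hxY (hsV z))]
  · intro a
    change N.e (x * s ![a, 0] * x⁻¹) 0 = ![a, 0]
    have h1 := hx' _ (hsV ![a, 0]) (by rw [hs]; rfl)
    rw [(f_eq N (cmem t hxY (hsV _)) (hsV _)).2 h1, hs]
  · intro A
    obtain ⟨g, hg, hA, -⟩ := N.lift fun _ => A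
    obtain ⟨B, hB⟩ := N.norm x hxY g hg (fun _ => A) hA
    refine ⟨B 0, fun y => ?_⟩
    have h1 := key _ (cmem t hg (hsV y))
    rw [hA _ (hsV y) 0, hs] at h1
    rw [← h1]
    have e : x * (g * s y * g⁻¹) * x⁻¹ = x * g * x⁻¹ * (x * s y * x⁻¹) * (x * g * x⁻¹)⁻¹ := by group
    rw [e, hB _ (cmem t hxY (hsV y)) 0]
  · obtain ⟨n, hn⟩ := t.wy.T2 ⟨x, hx⟩
    have hn' : x ^ 2 ^ n = 1 := congrArg Subtype.val hn
    refine ⟨n, fun y => ?_⟩
    have h1 : ∀ k : ℕ, φ^[k] y = N.e (x ^ k * s y * (x ^ k)⁻¹) 0 := by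
      intro k
      induction k with
      | zero => simp [hs]
      | succ k ih =>
        have e : x * (x ^ k * s y * (x ^ k)⁻¹) * x⁻¹ = x ^ (k + 1) * s y * (x ^ (k + 1))⁻¹ := by
          rw [pow_succ']; group
        rw [Function.iterate_succ_apply', ih, ← key _ (cmem t (pow_mem hxY k) (hsV y)), e]
    rw [h1, hn', one_mul, inv_one, mul_one, hs]

end nat

section pair

omit [Finite G] in
theorem pair_cases {x y z : G} (hx : x * x = 1) (hy : y * y = 1) (hz : z * z = 1) (hxy : x * y = z) (hyx : y * x = z)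
    {v : G} (hv : v ∈ closure ({x, y} : Set G)) : v = 1 ∨ v = x ∨ v = y ∨ v = z := by
  have hxz : x * z = y := by rw [← hxy, ← mul_assoc, hx, one_mul]
  have hzx : z * x = y := by rw [← hyx, mul_assoc, hx, mul_one]
  have hyz : y * z = x := by rw [← hyx, ← mul_assoc, hy, one_mul]
  have hzy : z * y = x := by rw [← hxy, mul_assoc, hy, mul_one]
  let K : Subgroup G :=
    { carrier := {v | v = 1 ∨ v = x ∨ v = y ∨ v = z}
      one_mem' := Or.inl rfl
      mul_mem' := by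
        rintro a b (rfl | rfl | rfl | rfl) (rfl | rfl | rfl | rfl) <;>
          simp [hx, hy, hz, hxy, hyx, hxz, hzx, hyz, hzy]
      inv_mem' := by
        rintro a (rfl | rfl | rfl | rfl)
        · exact Or.inl inv_one
        · exact Or.inr (Or.inl (inv_eq_of_mul_eq_one_left hx))
        · exact Or.inr (Or.inr (Or.inl (inv_eq_of_mul_eq_one_left hy)))
        · exact Or.inr (Or.inr (Or.inr (inv_eq_of_mul_eq_one_left hz))) }
  have h1 : closure ({x, y} : Set G) ≤ K := by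
    rw [closure_le]
    rintro a (rfl | ha)
    · exact Or.inr (Or.inl rfl)
    · rw [Set.mem_singleton_iff] at ha
      rw [ha]
      exact Or.inr (Or.inr (Or.inl rfl))
  exact h1 hv

end pair

section letters

variable (t : TorS S P p Y)
include t

theorem sq2 (i j : Fin 5) : p i * p j * (p i * p j) = 1 := by
  have h := t.five.std
  rw [mul_assoc, ← mul_assoc (p j), h.comm j i, mul_assoc (p i), h.sq, mul_one, h.sq]

theorem e2324 : p 2 * p 3 * (p 2 * p 4) = p 3 * p 4 := by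
  have h := t.five.std
  rw [h.comm 2 3, mul_assoc, ← mul_assoc (p 2), h.sq, one_mul]

theorem e2423 : p 2 * p 4 * (p 2 * p 3) = p 3 * p 4 := by
  have h := t.five.std
  rw [h.comm 2 4, mul_assoc, ← mul_assoc (p 2), h.sq, one_mul, h.comm]

theorem vt_four {v : G} (hv : v ∈ Vt p) : v = 1 ∨ v = p 2 * p 3 ∨ v = p 2 * p 4 ∨ v = p 3 * p 4 :=
  pair_cases (sq2 t 2 3) (sq2 t 2 4) (sq2 t 3 4) (e2324 t) (e2423 t) hv

theorem Vt_L : Vt p ≤ zl (S : Subgroup G) P := by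
  rw [closure_le]
  rintro a (rfl | ha)
  · exact mul_mem (t.five.toFive.p_mem _) (t.five.toFive.p_mem _)
  · rw [Set.mem_singleton_iff] at ha
    rw [ha]
    exact mul_mem (t.five.toFive.p_mem _) (t.five.toFive.p_mem _)

/-- an element which centralises `p 0`, `nn p`, `V_τ` centralises `L` -/
theorem cent_L_of {x : G} (h0 : x * p 0 = p 0 * x) (hn : x * nn p = nn p * x)
    (ha : x * (p 2 * p 3) = p 2 * p 3 * x) (hb : x * (p 2 * p 4) = p 2 * p 4 * x) :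
    x ∈ centralizer (zl (S : Subgroup G) P : Set G) := by
  have h := t.five.std
  have c0 : Commute x (p 0) := h0
  have cn : Commute x (nn p) := hn
  have ca : Commute x (p 2 * p 3) := ha
  have cb : Commute x (p 2 * p 4) := hb
  have e1 : p 1 = p 0 * nn p := by rw [nn, ← mul_assoc, h.sq, one_mul]
  have e4 : p 4 = nn p * (p 2 * p 3) := h.na.symm
  have c1 : Commute x (p 1) := by rw [e1]; exact c0.mul_right cn
  have c4 : Commute x (p 4) := by rw [e4]; exact cn.mul_right ca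
  have e2 : p 2 = p 2 * p 4 * p 4 := by rw [mul_assoc, h.sq, mul_one]
  have c2 : Commute x (p 2) := by rw [e2]; exact cb.mul_right c4
  have e3 : p 3 = p 2 * (p 2 * p 3) := by rw [← mul_assoc, h.sq, one_mul]
  have c3 : Commute x (p 3) := by rw [e3]; exact c2.mul_right ca
  have h1 : zl (S : Subgroup G) P ≤ centralizer ({x} : Set G) := by
    rw [t.five.gen, closure_le]
    rintro _ ⟨i, rfl⟩
    rw [SetLike.mem_coe, mem_centralizer_singleton_iff]
    fin_cases i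
    · exact c0.eq.symm
    · exact c1.eq.symm
    · exact c2.eq.symm
    · exact c3.eq.symm
    · exact c4.eq.symm
  exact mem_centralizer_iff.2 fun l hl => mem_centralizer_singleton_iff.1 (h1 hl)

end letters

section main

variable {F : Type} [Field F] [Finite F] [CharP F 2] (t : TorS S P p Y)
  (N : NatKM F (Std.T (S : Subgroup G) p) Y (zl (Std.T (S : Subgroup G) p) Y) (cv (Std.T (S : Subgroup G) p) Y) 1)
  (f4 : Nat.card F = 4)
  (hl : ∀ v ∈ zl (Std.T (S : Subgroup G) p) Y, N.e v 0 1 = 0 ↔ v ∈ Vt p ⊔ cv (Std.T (S : Subgroup G) p) Y)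
  (hu : ∀ x ∈ o2 P, ∃ b : F,
    ActsSL N.e (zl (Std.T (S : Subgroup G) p) Y) (cv (Std.T (S : Subgroup G) p) Y) x fun _ => up b)
include t N f4 hl hu

omit f4 hl in
theorem cv_L : cv (Std.T (S : Subgroup G) p) Y ≤ zl (S : Subgroup G) P := by
  rw [← t.wy.cvQ]
  refine fun d hd => ⟨V0_le t hd.1, mem_centralizer_iff.2 fun q hq => ?_⟩
  obtain ⟨b, hb⟩ := hu q hq
  exact hb.2 d hd

/-- 255's situation -/
theorem hyp : NatOne.Hyp N.toNatK (o2 P) (zl (S : Subgroup G) P) (cl (zpowers (aa p)) Y) where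
  syl := t.wy.syl
  min := t.wy.min
  YV := Y_V0 t
  DE := rfl
  oV := t.cent_zl
  f4 := f4
  QT := t.wy.QT
  wc := fun y _ h => t.wy.cl.wc.eq y (h.trans Std.T_le)
  up := hu
  nQ := t.wy.nQ
  hL := fun v hv h0 => (sup_le (Vt_L t) (cv_L t N hu)) ((hl v hv).1 h0)
  QL := by
    rw [le_centralizer_iff]
    exact Q_L t
  WV := W_V0 t
  YW := le_normalizer_cl _ _
  nW := fun h => aa_not_cv t N (h (le_cl _ Y (mem_zpowers _)))

/-- `h ∈ O²(Y) ∩ N(Q)` of odd order which moves `aa p` -/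
theorem exists_h : ∃ h ∈ oddGen Y, h ∈ normalizer (o2 P : Set G) ∧ Odd (orderOf h) ∧ h * aa p * h⁻¹ ≠ aa p := by
  obtain ⟨l, hl0, hl1, hl2, -⟩ := exists_lam f4
  have hl3 : l ^ 3 = 1 := by linear_combination (l - 1) * hl2
  have H := hyp t N f4 hl hu
  obtain ⟨h, hh, hQ, b, hac⟩ := H.exists_h hl0 hl2
  have hY := oddGen_le Y hh
  obtain ⟨a, m, hm, hn⟩ := Nat.exists_eq_two_pow_mul_odd (n := orderOf h) (orderOf_pos h).ne'
  have h1 : (h ^ (4 ^ a)) ^ m = 1 := by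
    rw [← pow_mul, ← orderOf_dvd_iff_pow_eq_one, hn]
    have h2 : (4 : ℕ) ^ a = 2 ^ a * 2 ^ a := by rw [← mul_pow]; norm_num
    rw [h2]
    exact ⟨2 ^ a, by ring⟩
  refine ⟨h ^ (4 ^ a), pow_mem hh _, pow_mem hQ _, Odd.of_dvd_nat hm (orderOf_dvd_of_pow_eq_one h1), fun e => ?_⟩
  have h3 := ac_pow (Y_V0 t) hY hac (4 ^ a)
  have h4 := ac_e h3 (aa_V0 t)
  rw [e] at h4
  have h5 : ent (up b * dg l hl0) 1 0 = 0 := by rw [ent_mul]; simp
  have h6 : ent (up b * dg l hl0) 0 0 = l := by rw [ent_mul]; simp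
  obtain ⟨h7, h8⟩ := pow_lower h5 (4 ^ a)
  rw [h6, pow_four hl3] at h7
  have ha1 : N.e (aa p) 0 1 = 0 := (hl _ (aa_V0 t)).2 (mem_sup_left (subset_closure (Set.mem_insert _ _)))
  have h9 := congrFun h4 0
  rw [ap_zero', h7, ha1, mul_zero, add_zero] at h9
  have h10 : N.e (aa p) 0 0 = 0 := by
    have : (1 - l) * N.e (aa p) 0 0 = 0 := by linear_combination h9
    rcases mul_eq_zero.1 this with h11 | h11
    · exact absurd (sub_eq_zero.1 h11).symm hl1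
    · exact h11
  exact aa_not_cv t N ((f_ker N (aa_V0 t)).1 (ext2 h10 ha1))

/-- the letters of `h` -/
theorem exists_h3 : ∃ h ∈ oddGen Y, h ∈ normalizer (o2 P : Set G) ∧ ∃ σ : Equiv.Perm (Fin 5),
    (∀ i, h * p i * h⁻¹ = p (σ i)) ∧ ((σ 0 = 0 ∧ σ 1 = 1 ∧ σ 2 = 3 ∧ σ 3 = 4 ∧ σ 4 = 2) ∨
      (σ 0 = 0 ∧ σ 1 = 1 ∧ σ 2 = 4 ∧ σ 3 = 2 ∧ σ 4 = 3)) := by
  obtain ⟨h, hh, hQ, ho, hne⟩ := exists_h t N f4 hl hu
  obtain ⟨σ, hσ⟩ := NQ_act t hQ
  refine ⟨h, hh, hQ, σ, hσ, (perm_odd t.five.std hσ (Y_nn t (oddGen_le Y hh)) ho).resolve_left fun h1 => hne ?_⟩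
  rw [aa, cm, hσ, hσ, h1, h1]

/-- `p 2 p 4 ∈ W` -/
theorem mem24 : p 2 * p 4 ∈ cl (zpowers (aa p)) Y := by
  obtain ⟨h, hh, -, σ, hσ, h1⟩ := exists_h3 t N f4 hl hu
  have ha : aa p ∈ cl (zpowers (aa p)) Y := le_cl _ Y (mem_zpowers _)
  have h2 : h * aa p * h⁻¹ ∈ cl (zpowers (aa p)) Y :=
    (mem_normalizer_iff.1 (le_normalizer_cl (zpowers (aa p)) Y (oddGen_le Y hh)) _).1 ha
  rw [aa, cm, hσ, hσ] at h2
  rcases h1 with ⟨-, -, e2, e3, -⟩ | ⟨-, -, e2, e3, -⟩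
  · rw [e2, e3] at h2
    have h3 := mul_mem ha h2
    have e : aa p * (p 3 * p 4) = p 2 * p 4 := by
      have h := t.five.std
      rw [aa, mul_assoc, ← mul_assoc (p 3), h.sq, one_mul]
    rwa [e] at h3
  · rw [e2, e3, t.five.std.comm 4 2] at h2
    exact h2

/-- some `b ∈ O₂(Y)` acts on `L` as `(0 1)` -/
theorem exists_b : ∃ b ∈ o2 Y, ∀ i, b * p i * b⁻¹ = p (Equiv.swap 0 1 i) := by
  obtain ⟨x, hx, hx1⟩ := exists_t01 t.five
  have hxY := t.TY hx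
  have hxVt : ∀ v ∈ Vt p, x * v * x⁻¹ = v := by
    have h1 : Vt p ≤ centralizer ({x} : Set G) := by
      have h2 : x * p 2 * x⁻¹ = p 2 := by rw [hx1]; rfl
      have h3 : x * p 3 * x⁻¹ = p 3 := by rw [hx1]; rfl
      have h4 : x * p 4 * x⁻¹ = p 4 := by rw [hx1]; rfl
      rw [closure_le]
      rintro a (rfl | ha)
      · rw [SetLike.mem_coe, mem_centralizer_singleton_iff]
        exact (mul_inv_eq_iff_eq_mul.1 (by rw [cm, h2, h3] : x * (p 2 * p 3) * x⁻¹ = p 2 * p 3)).symm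
      · rw [Set.mem_singleton_iff] at ha
        rw [ha, SetLike.mem_coe, mem_centralizer_singleton_iff]
        exact (mul_inv_eq_iff_eq_mul.1 (by rw [cm, h2, h4] : x * (p 2 * p 4) * x⁻¹ = p 2 * p 4)).symm
    intro v hv
    exact mul_inv_eq_iff_eq_mul.2 (mem_centralizer_singleton_iff.1 (h1 hv)).symm
  have hLc : ∀ v ∈ Vt p, ∀ w ∈ cv (Std.T (S : Subgroup G) p) Y, v * w = w * v := fun v hv w hw =>
    t.five.toFive.V_comm (Vt_L t hv) (cv_L t N hu hw)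
  obtain ⟨β, hβ⟩ := line_up t N hx fun v hv h0 => by
    obtain ⟨c, hc, d, hd, rfl⟩ := mem_sup_comm hLc ((hl v hv).1 h0)
    have h1 := ccv t hxY hd
    have h2 : x * (c * d) * x⁻¹ * (c * d)⁻¹ = c * (x * d * x⁻¹ * d⁻¹) * c⁻¹ := by
      rw [cm, hxVt c hc]; group
    have h3 : x * d * x⁻¹ * d⁻¹ ∈ cv (Std.T (S : Subgroup G) p) Y := mul_mem h1 (inv_mem hd)
    rw [h2, hLc c hc _ h3, mul_inv_cancel_right]
    exact h3
  obtain ⟨q, hq, hqb⟩ := t.full N β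
  have hqY : q ∈ Y := Q_Y t hq
  have hqi := ac_pow (N := N.toNatK) (Y_V0 t) hqY hqb 1
  refine ⟨q⁻¹ * x, t.ker (mul_mem (inv_mem (Q_T t hq)) hx) fun v hv => ?_, fun i => ?_⟩
  · rw [← f_eq N (cmem t (mul_mem (inv_mem hqY) hxY) hv) hv]
    have h1 := NatOne.ac_inv (N := N.toNatK) (Y_V0 t) hqY hqb
    have h2 := ac_e h1 (cmem t hxY hv)
    have e : q⁻¹ * x * v * (q⁻¹ * x)⁻¹ = q⁻¹ * (x * v * x⁻¹) * q⁻¹⁻¹ := by group
    rw [e]
    refine h2.trans ?_
    rw [hβ v hv, ← ap_mul, inv_mul_cancel, ap_one]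
  · have h1 : q * p (Equiv.swap 0 1 i) = p (Equiv.swap 0 1 i) * q :=
      (mem_centralizer_iff.1 (Q_L t hq) _ (t.five.toFive.p_mem _)).symm
    have e : q⁻¹ * x * p i * (q⁻¹ * x)⁻¹ = q⁻¹ * (x * p i * x⁻¹) * q := by group
    rw [e, hx1, mul_assoc, ← h1]
    group

/-- **`C_V(O²(Y)) = ⟨nn p⟩`** -/
theorem cv_eq {d : G} (hd : d ∈ cv (Std.T (S : Subgroup G) p) Y) : d = 1 ∨ d = nn p := by
  have h := t.five.std
  obtain ⟨k, hk, -, σ, hσ, h1⟩ := exists_h3 t N f4 hl hu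
  obtain ⟨b, hb, hb1⟩ := exists_b t N f4 hl hu
  have kd : k * d * k⁻¹ = d := by
    have := mem_centralizer_iff.1 hd.2 k hk
    rw [this]; group
  have bd : b * d * b⁻¹ = d := by
    have := mem_centralizer_iff.1 (t.cent_zl hb) d hd.1
    rw [← this]; group
  rcases t.five.toFive.elts (cv_L t N hu hd) with h2 | ⟨i, rfl⟩ | ⟨i, j, hij, rfl⟩
  · exact Or.inl h2
  · exfalso
    have h3 : σ i = i := h.inj (by rw [← hσ, kd])
    have h4 : Equiv.swap 0 1 i = i := h.inj (by rw [← hb1, bd])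
    revert h3 h4
    rcases h1 with ⟨e0, e1, e2, e3, e4⟩ | ⟨e0, e1, e2, e3, e4⟩
    · fin_cases i <;> simp_all
    · fin_cases i <;> simp_all
  · right
    rw [cm, hσ, hσ] at kd
    have h3 := h.pair_inj (fun e => hij (σ.injective e)) hij kd
    have h5 : (i = 0 ∧ j = 1) ∨ (i = 1 ∧ j = 0) := by
      revert h3 hij
      rcases h1 with ⟨e0, e1, e2, e3, e4⟩ | ⟨e0, e1, e2, e3, e4⟩
      · fin_cases i <;> fin_cases j <;> simp_all
      · fin_cases i <;> fin_cases j <;> simp_all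
    rcases h5 with ⟨rfl, rfl⟩ | ⟨rfl, rfl⟩
    · rfl
    · exact h.comm _ _

end main

end Cfsg.Agent.Omega.NO3S.WY.Tor.SFiveI

end

section


/-!
# (TOR) for ONE `S₅`: `TorS` gives the facts `Y5`

* `K0_of` : `[Y, p 0] ≤ ⟨nn p⟩` implies `O²(Y) ≤ C(p 0)`;
* `WL_of`; **`y5_of`**.
-/

set_option autoImplicit false
set_option linter.unusedSectionVars false
set_option linter.dupNamespace false

namespace Cfsg.Agent.Omega.NO3S.WY.Tor.SFiveI

open Subgroup Cfsg Cfsg.Agent.ZN Cfsg.Agent.ZN.ChoiceBase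
open Cfsg.Agent.ZN.ChoiceSit (Syl exists_syl syl_conj)
open Cfsg.Agent.Omega.FFThm (OffM ElemM NatK NatKM ActsSL)
open Cfsg.Agent.Lib.SL2Mat
open Cfsg.Agent.Omega.FrameFF (cv)
open Cfsg.Agent.Omega.NTwo (Std nn aa mem_cent cm cc)
open Cfsg.Agent.MinSimple.VModule (oddGen oddGen_def oddGen_le le_normalizer_oddGen)
open Cfsg.Agent.Omega.NO3b.EZero (cl cl_le le_cl cj_le_cl le_normalizer_cl oddGen_sup_syl)
open Cfsg.Agent.Omega.SQ1.Bau (mem_sup_comm)
open Cfsg.Agent.Omega.NO3S.WY.Tor.SFive (TorS Y5)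

universe u

variable {G : Type u} [Group G] [Finite G] {S : Sylow 2 G} {P Y : Subgroup G} {p : Fin 5 → G}

/-- `O²(Y)` centralises `p 0` -/
theorem K0_of (t : TorS S P p Y) (hp : ∀ y ∈ Y, y * p 0 * y⁻¹ * (p 0)⁻¹ ∈ zpowers (nn p)) :
    ∀ k ∈ oddGen Y, k * p 0 = p 0 * k := by
  have h1 : oddGen Y ≤ centralizer ({p 0} : Set G) := by
    rw [oddGen_def, closure_le]
    rintro g ⟨hg, ho⟩
    rw [SetLike.mem_coe, mem_centralizer_singleton_iff]
    refine SFiveB.comm_of_odd (A := Lm p) (Λ := Lm p) (fun a ha => ?_) ho (hp g hg) (fun z hz => ?_) le_rfl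
    · obtain ⟨n, rfl⟩ := mem_zpowers_iff.1 ha
      rw [← (Commute.refl (nn p)).mul_zpow, t.five.std.nsq, one_zpow]
    · exact (mem_centralizer_iff.1 (Y_Lm t hg) z hz).symm
  exact fun k hk => mem_centralizer_singleton_iff.1 (h1 hk)

theorem K1_of (t : TorS S P p Y) (K0 : ∀ k ∈ oddGen Y, k * p 0 = p 0 * k) : ∀ k ∈ oddGen Y, k * p 1 = p 1 * k := by
  intro k hk
  have e1 : p 1 = p 0 * nn p := by rw [nn, ← mul_assoc, t.five.std.sq, one_mul]
  rw [e1]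
  exact ((show Commute k (p 0) from K0 k hk).mul_right (show Commute k (nn p) from Y_nn' t (oddGen_le Y hk))).eq

section main

variable {F : Type} [Field F] [Finite F] [CharP F 2] (t : TorS S P p Y)
  (N : NatKM F (Std.T (S : Subgroup G) p) Y (zl (Std.T (S : Subgroup G) p) Y) (cv (Std.T (S : Subgroup G) p) Y) 1)
  (f4 : Nat.card F = 4)
  (hl : ∀ v ∈ zl (Std.T (S : Subgroup G) p) Y, N.e v 0 1 = 0 ↔ v ∈ Vt p ⊔ cv (Std.T (S : Subgroup G) p) Y)
  (hu : ∀ x ∈ o2 P, ∃ b : F,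
    ActsSL N.e (zl (Std.T (S : Subgroup G) p) Y) (cv (Std.T (S : Subgroup G) p) Y) x fun _ => up b)
include t N f4 hl hu

theorem Vt_W : Vt p ≤ cl (zpowers (aa p)) Y := by
  rw [closure_le]
  rintro a (rfl | ha)
  · exact le_cl _ Y (mem_zpowers _)
  · rw [Set.mem_singleton_iff] at ha
    rw [ha]
    exact mem24 t N f4 hl hu

theorem WL_of {w : G} (hw : w ∈ cl (zpowers (aa p)) Y ⊓ zl (S : Subgroup G) P) :
    ∃ f ∈ cl (zpowers (aa p)) Y ⊓ centralizer (oddGen Y : Set G),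
      w = f ∨ w = p 2 * p 3 * f ∨ w = p 2 * p 4 * f ∨ w = p 3 * p 4 * f := by
  have H := hyp t N f4 hl hu
  have hV := W_V0 t hw.1
  have h0 := (H.mem_L hV).1 hw.2
  have hLc : ∀ v ∈ Vt p, ∀ w ∈ cv (Std.T (S : Subgroup G) p) Y, v * w = w * v := fun v hv w hw =>
    t.five.toFive.V_comm (Vt_L t hv) (cv_L t N hu hw)
  obtain ⟨v, hv, d, hd, rfl⟩ := mem_sup_comm hLc ((hl _ hV).1 h0)
  have hdW : d ∈ cl (zpowers (aa p)) Y := by
    have := mul_mem (inv_mem (Vt_W t N f4 hl hu hv)) hw.1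
    rwa [inv_mul_cancel_left] at this
  refine ⟨d, ⟨hdW, hd.2⟩, ?_⟩
  rcases vt_four t hv with rfl | rfl | rfl | rfl
  · left; rw [one_mul]
  · right; left; rfl
  · right; right; left; rfl
  · right; right; right; rfl

theorem Fq_of {f : G} (hf : f ∈ cl (zpowers (aa p)) Y ⊓ centralizer (oddGen Y : Set G)) : f = 1 ∨ f = p 0 * p 1 :=
  cv_eq t N f4 hl hu ⟨W_V0 t hf.1, hf.2⟩

/-- **`TorS` gives `Y5`.** -/
theorem y5_of (K0 : ∀ k ∈ oddGen Y, k * p 0 = p 0 * k)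
    (KE : oddGen Y ≤ normalizer ((o2 P ⊓ centralizer (cl (zpowers (p 2 * p 3)) Y : Set G) : Subgroup G) : Set G))
    (syl : Syl (o2 P) (oddGen Y ⊔ o2 P)) :
    ∃ (K W F R : Subgroup G) (g h : G), K ≤ Y ∧ Y5 (o2 P) (zl (S : Subgroup G) P) K W F R g h p ∧
      ∀ A ≤ o2 P, ¬ A ≤ o2 Y → ¬ A ≤ centralizer (W : Set G) := by
  have H := hyp t N f4 hl hu
  obtain ⟨R, g, h, o⟩ := H.out
  exact ⟨oddGen Y, cl (zpowers (aa p)) Y, _, R, g, h, oddGen_le Y,
    { QW := o.QW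
      idx := o.idx
      cW := o.cW
      ix := o.ix
      KW := o.KW
      KE := KE
      syl := syl
      FW := o.FW
      KF := o.KF
      Fe := o.Fe
      iF := o.iF
      RK := o.RK
      nR := o.nR
      ER := o.ER
      RW := o.RW
      gK := o.gK
      gn := o.gn
      hK := o.hK
      hQ := o.hQ
      hv := o.hv
      WK := o.WK
      WC := o.WC
      K0 := K0
      K1 := K1_of t K0
      Fq := fun f hf => Fq_of t N f4 hl hu hf
      V3 := le_cl _ Y (mem_zpowers _)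
      V4 := mem24 t N f4 hl hu
      WL := fun w hw => WL_of t N f4 hl hu hw }, fun A hA hAY => t.mvW hA hAY⟩

end main

end Cfsg.Agent.Omega.NO3S.WY.Tor.SFiveI

end
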