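import Cfsg.Agent.Mrg.Omega.NO3S.WY.Tor.LitS
import Cfsg.Agent.Mrg.Omega.NO3S.WY.Tor.Act

section


/-!
# (TOR) for ONE `S₅`: the letters

`FiveL S P p`, `T = Std.T S p`.

* `act` : `N_G(V_P)` permutes the five heavy vectors `p i`;
* `exists_t01` : some `t ∈ T` acts as the transposition `(0 1)`;
* `perm_nn`, `perm_T`, `perm_odd` : elements which centralise `nn p`; elements of `T`; elements of odd order;
* `exists_up` : an additive map of `F²` which fixes the line `{(x, 0)}` pointwise, normalises `SL₂(F)` and has 2-power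
  order is an `up b`.
-/

set_option autoImplicit false
set_option linter.unusedSectionVars false

namespace Cfsg.Agent.Omega.NO3S.WY.Tor.SFiveI

open Subgroup Cfsg Cfsg.Agent.ZN Cfsg.Agent.ZN.ChoiceBase
open Cfsg.Agent.Omega.NatPair (ap ap_zero' ap_one' ext2)
open Cfsg.Agent.Lib.SL2Mat
open Cfsg.Agent.Omega.NTwo (Std nn aa mem_cent cm cc)
open Cfsg.Agent.Omega.NO3S.Sym.Light (FiveL)

universe u

section lin

variable {F : Type} [Field F]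

/-- An additive map of `F²` which fixes the line `{(x, 0)}` pointwise, normalises `SL₂(F)` and has 2-power order. -/
theorem exists_up [CharP F 2] (φ : (Fin 2 → F) → Fin 2 → F) (hadd : ∀ x y, φ (x + y) = φ x + φ y)
    (hfix : ∀ x : F, φ ![x, 0] = ![x, 0])
    (hnorm : ∀ A : Matrix.SpecialLinearGroup (Fin 2) F, ∃ B : Matrix.SpecialLinearGroup (Fin 2) F,
      ∀ x, φ (ap A x) = ap B (φ x))
    (h2 : ∃ n : ℕ, ∀ x, φ^[2 ^ n] x = x) : ∃ b, ∀ x, φ x = ap (up b) x := by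
  obtain ⟨B, hB⟩ := hnorm (wm 1 one_ne_zero)
  -- `φ (0, x) = x (c₀, c₁)`
  have hw : ∀ x : F, ap (wm (1 : F) one_ne_zero) ![x, 0] = ![0, -x] := by
    intro x
    apply ext2
    · rw [ap_zero', wm_00, wm_01]; simp
    · rw [ap_one', wm_10, wm_11]; simp
  have h0 : ∀ x : F, φ ![0, -x] = ![ent B 0 0 * x, ent B 1 0 * x] := by
    intro x
    have h := hB ![x, 0]
    rw [hw, hfix] at h
    rw [h]
    apply ext2
    · rw [ap_zero']; simp
    · rw [ap_one']; simp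
  set c₀ : F := - ent B 0 0 with hc₀
  set c₁ : F := - ent B 1 0 with hc₁
  have h1 : ∀ x : F, φ ![0, x] = ![c₀ * x, c₁ * x] := by
    intro x
    have h := h0 (-x)
    rw [neg_neg] at h
    rw [h, hc₀, hc₁]
    apply ext2
    · simp
    · simp
  have h3 : ∀ x, φ x = ![x 0 + c₀ * x 1, c₁ * x 1] := by
    intro x
    have e : x = ![x 0, 0] + ![0, x 1] := by
      apply ext2
      · simp
      · simp
    conv_lhs => rw [e, hadd, hfix, h1]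
    apply ext2
    · simp
    · simp
  have h4 : ∀ n : ℕ, ∀ x, φ^[n] x 1 = c₁ ^ n * x 1 := by
    intro n
    induction n with
    | zero => intro x; simp
    | succ n ih =>
      intro x
      rw [Function.iterate_succ_apply', h3]
      change c₁ * (φ^[n] x 1) = _
      rw [ih x, pow_succ]
      ring
  have hd1 : c₁ = 1 := by
    obtain ⟨n, hn⟩ := h2
    have h5 := h4 (2 ^ n) ![0, 1]
    rw [hn] at h5
    have h6 : c₁ ^ 2 ^ n = 1 := by simpa using h5.symm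
    have h7 : (c₁ - 1) ^ 2 ^ n = 0 := by
      rw [sub_pow_char_pow, one_pow, h6, sub_self]
    have h8 := eq_zero_of_pow_eq_zero h7
    exact sub_eq_zero.mp h8
  refine ⟨c₀, fun x => ?_⟩
  rw [h3, hd1]
  apply ext2
  · rw [ap_zero', up_00, up_01]; simp
  · rw [ap_one', up_10, up_11]; simp

end lin

section perms

theorem dec_nn : ∀ σ : Equiv.Perm (Fin 5), (σ 2 = 2 ∧ σ 3 = 3 ∧ σ 4 = 4) →
    (∀ i, σ i = i) ∨ ∀ i, σ i = Equiv.swap 0 1 i := by decide +kernel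

theorem dec_T : ∀ σ : Equiv.Perm (Fin 5), σ 4 = 4 → ((σ 0 = 0 ∧ σ 1 = 1) ∨ (σ 0 = 1 ∧ σ 1 = 0)) →
    ((σ 2 = 2 ∧ σ 3 = 3) ∨ (σ 2 = 3 ∧ σ 3 = 2)) := by decide +kernel

theorem dec_conj : ∀ σ : Equiv.Perm (Fin 5), (σ * Equiv.swap 0 1 * σ⁻¹ : Equiv.Perm (Fin 5)) 4 = 4 →
    (((σ * Equiv.swap 0 1 * σ⁻¹ : Equiv.Perm (Fin 5)) 0 = 0 ∧ (σ * Equiv.swap 0 1 * σ⁻¹ : Equiv.Perm (Fin 5)) 1 = 1) ∨
      ((σ * Equiv.swap 0 1 * σ⁻¹ : Equiv.Perm (Fin 5)) 0 = 1 ∧ (σ * Equiv.swap 0 1 * σ⁻¹ : Equiv.Perm (Fin 5)) 1 = 0) ∨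
      ((σ * Equiv.swap 0 1 * σ⁻¹ : Equiv.Perm (Fin 5)) 0 = 2 ∧ (σ * Equiv.swap 0 1 * σ⁻¹ : Equiv.Perm (Fin 5)) 1 = 3) ∨
      ((σ * Equiv.swap 0 1 * σ⁻¹ : Equiv.Perm (Fin 5)) 0 = 3 ∧ (σ * Equiv.swap 0 1 * σ⁻¹ : Equiv.Perm (Fin 5)) 1 = 2)) →
    (∀ i, (σ * Equiv.swap 0 1 * σ⁻¹ : Equiv.Perm (Fin 5)) i = Equiv.swap 0 1 i) ∨
      ∀ i, (σ * Equiv.swap 0 1 * σ⁻¹ : Equiv.Perm (Fin 5)) i = Equiv.swap 2 3 i := by decide +kernel

theorem dec_tau : ∀ σ : Equiv.Perm (Fin 5), ((σ 0 = 2 ∧ σ 1 = 3) ∨ (σ 0 = 3 ∧ σ 1 = 2)) →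
    ∀ i, (σ⁻¹ * Equiv.swap 2 3 * σ : Equiv.Perm (Fin 5)) i = Equiv.swap 0 1 i := by decide +kernel

theorem dec_odd : ∀ σ : Equiv.Perm (Fin 5), σ ^ 15 = 1 → ((σ 0 = 0 ∧ σ 1 = 1) ∨ (σ 0 = 1 ∧ σ 1 = 0)) →
    (∀ i, σ i = i) ∨ (σ 0 = 0 ∧ σ 1 = 1 ∧ σ 2 = 3 ∧ σ 3 = 4 ∧ σ 4 = 2) ∨
      (σ 0 = 0 ∧ σ 1 = 1 ∧ σ 2 = 4 ∧ σ 3 = 2 ∧ σ 4 = 3) := by decide +kernel

theorem pow_fifteen {σ : Equiv.Perm (Fin 5)} {m : ℕ} (hm : Odd m) (h : σ ^ m = 1) : σ ^ 15 = 1 := by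
  rw [← orderOf_dvd_iff_pow_eq_one] at h ⊢
  have h1 : orderOf σ ∣ 8 * 15 := by
    have := orderOf_dvd_card (x := σ)
    rw [Fintype.card_perm, Fintype.card_fin] at this
    exact this
  have h2 : Nat.Coprime (orderOf σ) 8 := by
    have : Odd (orderOf σ) := hm.of_dvd_nat h
    exact (Nat.Coprime.pow_right 3 (Nat.coprime_two_right.2 this) : Nat.Coprime (orderOf σ) (2 ^ 3))
  exact h2.dvd_of_dvd_mul_left h1

end perms

variable {G : Type u} [Group G] {p : Fin 5 → G}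

theorem act_pow {g : G} {σ : Equiv.Perm (Fin 5)} (h : ∀ i, g * p i * g⁻¹ = p (σ i)) (n : ℕ) :
    ∀ i, g ^ n * p i * (g ^ n)⁻¹ = p ((σ ^ n) i) := by
  induction n with
  | zero => intro i; simp
  | succ n ih =>
    intro i
    have e : g ^ (n + 1) * p i * (g ^ (n + 1))⁻¹ = g * (g ^ n * p i * (g ^ n)⁻¹) * g⁻¹ := by
      rw [pow_succ']; group
    rw [e, ih, h, pow_succ']
    rfl

theorem act_mul {g k : G} {σ τ : Equiv.Perm (Fin 5)} (h : ∀ i, g * p i * g⁻¹ = p (σ i))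
    (h' : ∀ i, k * p i * k⁻¹ = p (τ i)) : ∀ i, g * k * p i * (g * k)⁻¹ = p ((σ * τ) i) := by
  intro i
  have e : g * k * p i * (g * k)⁻¹ = g * (k * p i * k⁻¹) * g⁻¹ := by group
  rw [e, h', h]
  rfl

theorem act_inv {g : G} {σ : Equiv.Perm (Fin 5)} (h : ∀ i, g * p i * g⁻¹ = p (σ i)) :
    ∀ i, g⁻¹ * p i * g⁻¹⁻¹ = p (σ⁻¹ i) := by
  intro i
  have e := h (σ⁻¹ i)
  rw [show σ (σ⁻¹ i) = i from σ.apply_symm_apply i] at e
  rw [← e]
  group

variable [Finite G] {S : Sylow 2 G} {P : Subgroup G}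

/-- `N_G(V_P)` permutes the five heavy vectors. -/
theorem act (h : FiveL S P p) {g : G} (hg : g ∈ normalizer (zl (S : Subgroup G) P : Set G)) :
    ∃ σ : Equiv.Perm (Fin 5), ∀ i, g * p i * g⁻¹ = p (σ i) := by
  have key : ∀ i, ∃ j, g * p i * g⁻¹ = p j := by
    intro i
    have h1 : g * p i * g⁻¹ ∈ zl (S : Subgroup G) P := (mem_normalizer_iff.1 hg _).1 (h.toFive.p_mem i)
    rcases h.toFive.elts h1 with h2 | ⟨j, h2⟩ | ⟨j, k, hjk, h2⟩
    · exfalso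
      refine h.std.ne i ?_
      calc p i = g⁻¹ * (g * p i * g⁻¹) * g := by group
        _ = 1 := by rw [h2]; group
    · exact ⟨j, h2⟩
    · exfalso
      obtain ⟨k1, hk1, e1⟩ := h.toFive.heavy i
      obtain ⟨k2, hk2, e2⟩ := h.toFive.lights hjk
      refine h.not_conj (k2⁻¹ * g * k1) ?_
      calc k2⁻¹ * g * k1 * p 4 * (k2⁻¹ * g * k1)⁻¹ = k2⁻¹ * (g * (k1 * p 4 * k1⁻¹) * g⁻¹) * k2 := by group
        _ = k2⁻¹ * (k2 * nn p * k2⁻¹) * k2 := by rw [e1, h2, e2]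
        _ = nn p := by group
  choose f hf using key
  have hinj : Function.Injective f := by
    intro i j hij
    apply h.std.inj
    have h1 := hf i
    rw [hij, ← hf j] at h1
    exact mul_left_cancel (mul_right_cancel h1)
  exact ⟨Equiv.ofBijective f (Finite.injective_iff_bijective.1 hinj), fun i => hf i⟩

/-- the permutation of an element which centralises `nn p` -/
theorem perm_nn (h : Std (S : Subgroup G) P p) {g : G} {σ : Equiv.Perm (Fin 5)} (hσ : ∀ i, g * p i * g⁻¹ = p (σ i))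
    (hn : g * nn p * g⁻¹ = nn p) : (σ 0 = 0 ∧ σ 1 = 1) ∨ (σ 0 = 1 ∧ σ 1 = 0) := by
  rw [nn, cm, hσ, hσ] at hn
  exact h.pair_inj (fun e => absurd (σ.injective e) (by decide)) (by decide) hn

theorem perm_T (h : Std (S : Subgroup G) P p) {g : G} {σ : Equiv.Perm (Fin 5)} (hσ : ∀ i, g * p i * g⁻¹ = p (σ i))
    (hg : g ∈ Std.T (S : Subgroup G) p) : σ 4 = 4 ∧ ((σ 0 = 0 ∧ σ 1 = 1) ∨ (σ 0 = 1 ∧ σ 1 = 0)) ∧
      ((σ 2 = 2 ∧ σ 3 = 3) ∨ (σ 2 = 3 ∧ σ 3 = 2)) := by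
  obtain ⟨h1, h2⟩ := Std.mem_T.1 hg
  have h4 : σ 4 = 4 := h.inj (by rw [← hσ, h.fix g h1])
  have h3 := perm_nn h hσ h2
  exact ⟨h4, h3, dec_T σ h4 h3⟩

/-- the permutation of an element of odd order which centralises `nn p` -/
theorem perm_odd (h : Std (S : Subgroup G) P p) {g : G} {σ : Equiv.Perm (Fin 5)} (hσ : ∀ i, g * p i * g⁻¹ = p (σ i))
    (hn : g * nn p * g⁻¹ = nn p) (ho : Odd (orderOf g)) :
    (∀ i, σ i = i) ∨ (σ 0 = 0 ∧ σ 1 = 1 ∧ σ 2 = 3 ∧ σ 3 = 4 ∧ σ 4 = 2) ∨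
      (σ 0 = 0 ∧ σ 1 = 1 ∧ σ 2 = 4 ∧ σ 3 = 2 ∧ σ 4 = 3) := by
  refine dec_odd σ (pow_fifteen ho ?_) (perm_nn h hσ hn)
  ext i
  have h1 := act_pow hσ (orderOf g) i
  rw [pow_orderOf_eq_one, one_mul, inv_one, mul_one] at h1
  exact congrArg _ (h.inj h1).symm

/-- **some `t ∈ T` acts as `(0 1)`** -/
theorem exists_t01 (h : FiveL S P p) :
    ∃ t ∈ Std.T (S : Subgroup G) p, ∀ i, t * p i * t⁻¹ = p (Equiv.swap 0 1 i) := by
  have hs := h.std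
  obtain ⟨g, hg, h1⟩ := hs.full (Equiv.swap 0 1)
  have hn0 : orderOf g ≠ 0 := (orderOf_pos g).ne'
  obtain ⟨s, m, hm, hnm⟩ := Nat.exists_eq_two_pow_mul_odd hn0
  have h2 : ∀ i, g ^ m * p i * (g ^ m)⁻¹ = p (Equiv.swap 0 1 i) := by
    intro i
    rw [act_pow h1]
    obtain ⟨r, hr⟩ := hm
    have e : (Equiv.swap (0 : Fin 5) 1) ^ m = Equiv.swap 0 1 := by
      rw [hr, pow_succ, pow_mul, pow_two, Equiv.swap_mul_self, one_pow, one_mul]
    rw [e]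
  have h3 : IsPGroup 2 (zpowers (g ^ m)) := by
    refine IsPGroup.of_card (n := s) ?_
    rw [Nat.card_zpowers, orderOf_pow_of_dvd (Nat.pos_of_ne_zero (by rintro rfl; simp at hm)).ne' ⟨2 ^ s, by
      rw [hnm, mul_comm]⟩, hnm]
    exact Nat.mul_div_cancel _ (Nat.pos_of_ne_zero (by rintro rfl; simp at hm))
  obtain ⟨x, hx, hxS⟩ := Cfsg.Agent.Omega.FFThm.exists_conj_le S hs.le h3 (zpowers_le.2 (pow_mem hg m))
  obtain ⟨σ, hσ⟩ := hs.perm x hx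
  set y := x * g ^ m * x⁻¹ with hy
  have hyS : y ∈ (S : Subgroup G) := hxS ⟨g ^ m, mem_zpowers _, rfl⟩
  have hρ : ∀ i, y * p i * y⁻¹ = p ((σ * Equiv.swap 0 1 * σ⁻¹ : Equiv.Perm (Fin 5)) i) :=
    act_mul (act_mul hσ h2) (act_inv hσ)
  have h4 : (σ * Equiv.swap 0 1 * σ⁻¹ : Equiv.Perm (Fin 5)) 4 = 4 := hs.inj (by rw [← hρ, hs.fix y hyS])
  have h5 : ((σ * Equiv.swap 0 1 * σ⁻¹ : Equiv.Perm (Fin 5)) 0 = 0 ∧ (σ * Equiv.swap 0 1 * σ⁻¹ : Equiv.Perm (Fin 5)) 1 = 1) ∨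
      ((σ * Equiv.swap 0 1 * σ⁻¹ : Equiv.Perm (Fin 5)) 0 = 1 ∧ (σ * Equiv.swap 0 1 * σ⁻¹ : Equiv.Perm (Fin 5)) 1 = 0) ∨
      ((σ * Equiv.swap 0 1 * σ⁻¹ : Equiv.Perm (Fin 5)) 0 = 2 ∧ (σ * Equiv.swap 0 1 * σ⁻¹ : Equiv.Perm (Fin 5)) 1 = 3) ∨
      ((σ * Equiv.swap 0 1 * σ⁻¹ : Equiv.Perm (Fin 5)) 0 = 3 ∧ (σ * Equiv.swap 0 1 * σ⁻¹ : Equiv.Perm (Fin 5)) 1 = 2) := by
    have hne : (σ * Equiv.swap 0 1 * σ⁻¹ : Equiv.Perm (Fin 5)) 0 ≠ (σ * Equiv.swap 0 1 * σ⁻¹ : Equiv.Perm (Fin 5)) 1 := fun e =>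
      absurd ((σ * Equiv.swap 0 1 * σ⁻¹ : Equiv.Perm (Fin 5)).injective e) (by decide)
    rcases hs.part y hyS with h6 | h6
    · rw [cm, hρ, hρ] at h6
      rcases hs.pair_inj hne (by decide) h6 with h7 | h7
      · exact Or.inl h7
      · exact Or.inr (Or.inl h7)
    · rw [cm, hρ, hρ] at h6
      rcases hs.pair_inj hne (by decide) h6 with h7 | h7
      · exact Or.inr (Or.inr (Or.inl h7))
      · exact Or.inr (Or.inr (Or.inr h7))
  have key : ∃ t ∈ (S : Subgroup G), ∀ i, t * p i * t⁻¹ = p (Equiv.swap 0 1 i) := by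
    rcases dec_conj σ h4 h5 with h6 | h6
    · exact ⟨y, hyS, fun i => by rw [hρ, h6]⟩
    · obtain ⟨τ, hτ, h7⟩ := hs.tau
      obtain ⟨ρ, hρ'⟩ := hs.perm τ (hs.le hτ)
      have h8 : (ρ 0 = 2 ∧ ρ 1 = 3) ∨ (ρ 0 = 3 ∧ ρ 1 = 2) := by
        rw [cm, hρ', hρ'] at h7
        exact hs.pair_inj (fun e => absurd (ρ.injective e) (by decide)) (by decide) h7
      have h9 : ∀ i, y * p i * y⁻¹ = p (Equiv.swap 2 3 i) := fun i => by rw [hρ, h6]
      refine ⟨τ⁻¹ * y * τ, mul_mem (mul_mem (inv_mem hτ) hyS) hτ, fun i => ?_⟩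
      rw [act_mul (act_mul (act_inv hρ') h9) hρ', dec_tau ρ h8]
  obtain ⟨t, ht, h6⟩ := key
  refine ⟨t, Std.mem_T.2 ⟨ht, ?_⟩, h6⟩
  rw [nn, cm, h6, h6, Equiv.swap_apply_left, Equiv.swap_apply_right, hs.comm]

end Cfsg.Agent.Omega.NO3S.WY.Tor.SFiveI

end

section


/-!
# (TOR') for one `S₅`: the action of `O₂(P)` on `zl T Y`

`T = Std.T S p`, `t : TorS S P p Y`, `N` any natural structure on `zl T Y / cv T Y`.

* `TorS.ker` : an element of `T` which acts trivially on `zl T Y / cv T Y` lies in `O₂(Y)`;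
* `TorS.cent_zl` : `O₂(Y)` centralises `zl T Y`;
* `TorS.fullA`, `TorS.full` : a member `A` of the family, `A ≤ O₂(P)`, `A ≰ O₂(Y)`, induces the full root group;
* `TorS.QW` : `O₂(P) = A (O₂(P) ∩ O₂(Y))`;
* `TorS.mvW` : `A ≤ O₂(P)`, `A ≰ O₂(Y)` ⟹ `A` moves `W = ⟨aa p ^ Y⟩`.
-/

set_option autoImplicit false
set_option linter.unusedSectionVars false

namespace Cfsg.Agent.Omega.NO3S.WY.Tor.SFive

open Subgroup Cfsg Cfsg.Agent.ZN Cfsg.Agent.ZN.ChoiceBase Cfsg.Agent.ZN.ChoiceSit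
open Cfsg.Agent.MinSimple.VModule (oddGen oddGen_def mem_oddGen oddGen_le)
open Cfsg.Agent.Omega.FFThm (OffM ElemM NatKM ActsSL)
open Cfsg.Agent.Omega.NatPair (ap)
open Cfsg.Agent.Lib.SL2Mat (up)
open Cfsg.Agent.Omega.FrameFF (cv)
open Cfsg.Agent.Omega.NO3b.EZero (cl cl_le le_cl cj_le_cl le_normalizer_cl cent_symm)
open Cfsg.Agent.Omega.NTwo (Std nn aa Fv)
open Cfsg.Agent.Omega.NO3S.Sym.Light (FiveL)
open Cfsg.Agent.Omega.NO3S.RedC (GX DX)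

universe u

variable {G : Type u} [Group G] [Finite G] {S : Sylow 2 G} {P Y V A : Subgroup G} {𝓕 : Set (Subgroup G)}
  {p : Fin 5 → G}

theorem cent_zpowers (x : G) : centralizer (zpowers x : Set G) = centralizer ({x} : Set G) := by
  refine le_antisymm (centralizer_le (Set.singleton_subset_iff.2 (mem_zpowers x))) fun y hy => ?_
  have h1 : zpowers x ≤ centralizer ({y} : Set G) := by
    rw [zpowers_le, mem_centralizer_singleton_iff]
    exact (mem_centralizer_singleton_iff.1 hy).symm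
  exact mem_centralizer_iff.2 fun z hz => mem_centralizer_singleton_iff.1 (h1 hz)

namespace TorS

variable (t : TorS S P p Y)
include t

theorem TY : Std.T (S : Subgroup G) p ≤ Y := t.wy.syl.1

theorem T2 : IsPGroup 2 (Std.T (S : Subgroup G) p) := t.wy.syl.2.1

theorem Tn : ¬ 2 ∣ (Std.T (S : Subgroup G) p).relIndex Y := syl_not_dvd t.wy.syl

theorem zl_sq : ∀ x ∈ zl (Std.T (S : Subgroup G) p) Y, x * x = 1 := fun x hx => by
  rw [← sq]
  exact MinSimple.VModule.zl_sq t.TY t.T2 t.Tn t.wy.c2 x hx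

theorem zl_comm : ∀ x ∈ zl (Std.T (S : Subgroup G) p) Y, ∀ y ∈ zl (Std.T (S : Subgroup G) p) Y, x * y = y * x :=
  MinSimple.VModule.zl_comm t.TY t.T2 t.Tn t.wy.c2

/-- (2) `O₂(Y)` centralises `zl T Y` -/
theorem cent_zl : o2 Y ≤ centralizer (zl (Std.T (S : Subgroup G) p) Y : Set G) :=
  MinSimple.VModule.o2_le_centralizer_zl t.TY t.T2 t.Tn t.wy.c2

omit t [Finite G] in
theorem Yzl : Y ≤ normalizer (zl (Std.T (S : Subgroup G) p) Y : Set G) := ZN.le_normalizer_zl _ _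

/-- `zl T Y / cv T Y ≠ 1` -/
theorem exists_not_cv : ∃ v ∈ zl (Std.T (S : Subgroup G) p) Y, v ∉ cv (Std.T (S : Subgroup G) p) Y := by
  obtain ⟨F, _, _, _, N, -⟩ := t.nat
  obtain ⟨v, hv, hve⟩ := N.surj fun _ _ => 1
  refine ⟨v, hv, fun h1 => ?_⟩
  have h2 := (N.ker v hv).2 h1
  rw [hve] at h2
  exact one_ne_zero (congrFun (congrFun h2 0) 0)

/-- (1) -/
theorem ker {x : G} (hx : x ∈ Std.T (S : Subgroup G) p)
    (h : ∀ v ∈ zl (Std.T (S : Subgroup G) p) Y, x * v * x⁻¹ * v⁻¹ ∈ cv (Std.T (S : Subgroup G) p) Y) : x ∈ o2 Y := by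
  have h1 : Y ≤ normalizer (zl (Std.T (S : Subgroup G) p) Y : Set G) := ZN.le_normalizer_zl _ _
  have h2 : Y ≤ normalizer (cv (Std.T (S : Subgroup G) p) Y : Set G) := fun y hy => by
    rw [mem_normalizer_iff_cj, FrameFF.cv, cj_inf, cj_centralizer, cj_eq_of_mem_normalizer (h1 hy),
      cj_eq_of_mem_normalizer (MinSimple.VModule.le_normalizer_oddGen Y hy)]
  rcases NO3b.K0.min_or t.wy.syl t.wy.min (K := Fld.kmod Y _ _ h1 h2) Fld.kmod_le (Fld.norm_kmod h1 h2) with h3 | h3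
  · exfalso
    obtain ⟨v, hv, hvc⟩ := t.exists_not_cv
    apply hvc
    refine ⟨hv, ?_⟩
    have h4 : oddGen Y ≤ centralizer ({v} : Set G) := by
      rw [oddGen_def, closure_le]
      rintro k ⟨hk, ho⟩
      have hk' : k ∈ oddGen Y := mem_oddGen hk ho
      have h5 := SFiveB.comm_of_odd t.zl_sq ho ((Fld.mem_kmod.1 (h3 hk')).2 v hv)
        (fun z hz => (mem_centralizer_iff.1 hz.2 k hk')) inf_le_left
      exact mem_centralizer_singleton_iff.2 h5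
    exact mem_centralizer_iff.2 fun k hk => mem_centralizer_singleton_iff.1 (h4 hk)
  · exact h3 ⟨hx, Fld.mem_kmod.2 ⟨t.TY hx, h⟩⟩

/-- the part of `V` : `zl T Y ≤ V` -/
theorem zl_le_V (fm : FamT S P Y V 𝓕) : zl (Std.T (S : Subgroup G) p) Y ≤ V := by
  have h1 : zc (Std.T (S : Subgroup G) p) ≤ zl (S : Subgroup G) (GX (S : Subgroup G) P Y) :=
    t.wy.toWQ.zcT_le.trans t.wy.toWQ.L_le_zl
  refine (ZN.zl_le h1 ?_).trans fm.md.ge
  exact t.wy.toWQ.Y_le.trans (ZN.le_normalizer_zl _ _)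

/-- `zl T Y ≤ O₂(C_G(nn p))` -/
theorem zl_low : zl (Std.T (S : Subgroup G) p) Y ≤ o2 (centralizer ({nn p} : Set G)) :=
  ZN.zl_le (t.wy.toWQ.zcT_le.trans t.five.V_le_o2) (t.cen.trans (ZN.le_normalizer_o2 _))

/-- a member of the family in `O₂(P)` which is not in `O₂(Y)` is an offender on `zl T Y` -/
theorem offM (fm : FamT S P Y V 𝓕) (hA : A ∈ 𝓕) (hAQ : A ≤ o2 P) (hAY : ¬ A ≤ o2 Y) :
    OffM (zl (Std.T (S : Subgroup G) p) Y) A := by
  have hn : nn p ∈ zl (S : Subgroup G) P := t.five.toFive.n_mem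
  have hD : zpowers (nn p) ≤ ChoiceBase.cj 1 (zl (S : Subgroup G) P) := by
    rw [cj_one, zpowers_le]
    exact hn
  have hne : zpowers (nn p) ≠ ⊥ := by
    rw [Ne, zpowers_eq_bot]
    exact t.five.std.n_ne_one
  have h1 := (fm.her A hA (hAQ.trans t.wy.toWQ.o2P_le) 1 (one_mem _) (zpowers (nn p)) _ hne hD (t.zl_le_V fm)
    (by rw [cent_zpowers]; exact t.zl_low)).1
  rw [cj_one] at h1
  refine ⟨h1.toElemM, fun h2 => hAY fun a ha => t.ker (t.wy.toWQ.QT (hAQ ha)) fun v hv => ?_, ?_⟩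
  · have h3 := mem_centralizer_iff.1 (h2 ha) v hv
    have e : a * v * a⁻¹ * v⁻¹ = 1 := by rw [← h3]; group
    rw [e]
    exact one_mem _
  · have h3 := h1.max (A ⊓ centralizer (zl (Std.T (S : Subgroup G) p) Y : Set G)) inf_le_left le_rfl
    have h4 : zl (Std.T (S : Subgroup G) p) Y ⊓
        centralizer ((A ⊓ centralizer (zl (Std.T (S : Subgroup G) p) Y : Set G) : Subgroup G) : Set G) =
          zl (Std.T (S : Subgroup G) p) Y := inf_eq_left.2 (cent_symm inf_le_right)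
    rw [h4, mul_comm] at h3
    exact h3

/-- (3) **the full root group** -/
theorem fullA (fm : FamT S P Y V 𝓕) (hA : A ∈ 𝓕) (hAQ : A ≤ o2 P) (hAY : ¬ A ≤ o2 Y) {F : Type} [Field F] [Finite F]
    [CharP F 2] (N : NatKM F (Std.T (S : Subgroup G) p) Y (zl (Std.T (S : Subgroup G) p) Y)
      (cv (Std.T (S : Subgroup G) p) Y) 1) (b : F) :
    ∃ x ∈ A, ActsSL N.e (zl (Std.T (S : Subgroup G) p) Y) (cv (Std.T (S : Subgroup G) p) Y) x fun _ => up b := by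
  have hAT : A ≤ Std.T (S : Subgroup G) p := hAQ.trans t.wy.toWQ.QT
  obtain ⟨I, h1, h2⟩ := N.offM A hAT (t.offM fm hA hAQ hAY)
  by_cases hI : (0 : Fin 1) ∈ I
  · obtain ⟨x, hx, h3⟩ := h2 (fun _ => b) fun i hi => absurd (by rwa [Subsingleton.elim i 0]) hi
    exact ⟨x, hx, h3⟩
  · exfalso
    apply hAY
    intro a ha
    obtain ⟨c, hc, h3⟩ := h1 a ha
    refine t.ker (hAT ha) fun v hv => ?_
    have h4 := h3.1 v hv
    have hav : a * v * a⁻¹ ∈ zl (Std.T (S : Subgroup G) p) Y :=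
      (mem_normalizer_iff.1 (ZN.le_normalizer_zl _ _ (t.TY (hAT ha))) v).1 hv
    have e1 : v⁻¹ = v := inv_eq_of_mul_eq_one_left (t.zl_sq v hv)
    rw [← N.ker _ (mul_mem hav (inv_mem hv)), e1, N.mul _ hav _ hv]
    funext i j
    have hi : i = 0 := Subsingleton.elim _ _
    subst hi
    have h5 : c 0 = 0 := hc 0 hI
    have h6 : N.e (a * v * a⁻¹) 0 j = ap (up (c 0)) (N.e v 0) j := congrFun (h4 0) j
    rw [h5, Lib.SL2Mat.up_zero] at h6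
    rw [Pi.add_apply, Pi.add_apply, h6]
    have h7 : ap (1 : Matrix.SpecialLinearGroup (Fin 2) F) (N.e v 0) j = N.e v 0 j := by
      fin_cases j
      · change 1 * _ + 0 * _ = _
        simp
      · change 0 * _ + 1 * _ = _
        simp
    rw [h7]
    exact CharTwo.add_self_eq_zero _

theorem full {F : Type} [Field F] [Finite F]
    [CharP F 2] (N : NatKM F (Std.T (S : Subgroup G) p) Y (zl (Std.T (S : Subgroup G) p) Y)
      (cv (Std.T (S : Subgroup G) p) Y) 1) (b : F) :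
    ∃ x ∈ o2 P, ActsSL N.e (zl (Std.T (S : Subgroup G) p) Y) (cv (Std.T (S : Subgroup G) p) Y) x fun _ => up b := by
  obtain ⟨V, 𝓕, fm⟩ := t.fam
  obtain ⟨A, hA, hAQ, hAY⟩ := fm.act
  obtain ⟨x, hx, h⟩ := t.fullA fm hA hAQ hAY N b
  exact ⟨x, hAQ hx, h⟩

/-- two elements of `T` which act by the same `up b` agree modulo `O₂(Y)` -/
theorem mem_of_up {F : Type} [Field F] [Finite F]
    [CharP F 2] (N : NatKM F (Std.T (S : Subgroup G) p) Y (zl (Std.T (S : Subgroup G) p) Y)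
      (cv (Std.T (S : Subgroup G) p) Y) 1) {b : F} {a x : G} (ha : a ∈ Std.T (S : Subgroup G) p)
    (hx : x ∈ Std.T (S : Subgroup G) p)
    (h1 : ActsSL N.e (zl (Std.T (S : Subgroup G) p) Y) (cv (Std.T (S : Subgroup G) p) Y) a fun _ => up b)
    (h2 : ActsSL N.e (zl (Std.T (S : Subgroup G) p) Y) (cv (Std.T (S : Subgroup G) p) Y) x fun _ => up b) :
    a⁻¹ * x ∈ o2 Y := by
  have hm := mul_mem (inv_mem ha) hx
  refine t.ker hm fun v hv => ?_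
  have hY : ∀ y ∈ Std.T (S : Subgroup G) p, ∀ v ∈ zl (Std.T (S : Subgroup G) p) Y, y * v * y⁻¹ ∈
      zl (Std.T (S : Subgroup G) p) Y := fun y hy v hv =>
    (mem_normalizer_iff.1 (ZN.le_normalizer_zl _ _ (t.TY hy)) v).1 hv
  set w := a⁻¹ * x * v * (a⁻¹ * x)⁻¹ with hw
  have hwV : w ∈ zl (Std.T (S : Subgroup G) p) Y := hY _ hm v hv
  have e1 : a * w * a⁻¹ = x * v * x⁻¹ := by rw [hw]; group
  have h3 := h1.1 w hwV 0
  rw [e1, h2.1 v hv 0] at h3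
  have h4 : N.e w 0 1 = N.e v 0 1 := by
    have h5 := congrFun h3 1
    change 0 * N.e v 0 0 + 1 * N.e v 0 1 = 0 * N.e w 0 0 + 1 * N.e w 0 1 at h5
    simpa using h5.symm
  have h6 : N.e w 0 0 = N.e v 0 0 := by
    have h5 := congrFun h3 0
    change 1 * N.e v 0 0 + b * N.e v 0 1 = 1 * N.e w 0 0 + b * N.e w 0 1 at h5
    rw [h4] at h5
    simpa using h5.symm
  have e2 : v⁻¹ = v := inv_eq_of_mul_eq_one_left (t.zl_sq v hv)
  rw [← N.ker _ (mul_mem hwV (inv_mem hv)), e2, N.mul _ hwV _ hv]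
  funext i j
  have hi : i = 0 := Subsingleton.elim _ _
  subst hi
  rw [Pi.add_apply, Pi.add_apply]
  fin_cases j
  · change N.e w 0 0 + N.e v 0 0 = 0
    rw [h6]
    exact CharTwo.add_self_eq_zero _
  · change N.e w 0 1 + N.e v 0 1 = 0
    rw [h4]
    exact CharTwo.add_self_eq_zero _

/-- (4) `O₂(P) = A (O₂(P) ∩ O₂(Y))` -/
theorem QW (fm : FamT S P Y V 𝓕) (hA : A ∈ 𝓕) (hAQ : A ≤ o2 P) (hAY : ¬ A ≤ o2 Y) {q : G} (hq : q ∈ o2 P) :
    ∃ a ∈ A, ∃ x ∈ o2 P ⊓ o2 Y, a * x = q := by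
  obtain ⟨F, _, _, _, N, -, -, hN⟩ := t.nat
  obtain ⟨b, hb⟩ := hN q hq
  obtain ⟨a, ha, h1⟩ := t.fullA fm hA hAQ hAY N b
  have h2 := t.mem_of_up N (t.wy.toWQ.QT (hAQ ha)) (t.wy.toWQ.QT hq) h1 hb
  exact ⟨a, ha, a⁻¹ * q, mem_inf.2 ⟨mul_mem (inv_mem (hAQ ha)) hq, h2⟩, by group⟩

/-- `zl T Y ≤ ⟨aa p ^ Y⟩ ⟨nn p⟩` -/
theorem zl_le_W : zl (Std.T (S : Subgroup G) p) Y ≤ cl (zpowers (p 2 * p 3)) Y ⊔ zpowers (nn p) := by
  refine ZN.zl_le (fun x hx => ?_) fun y hy => ?_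
  · have h0 : aa p ∈ cl (zpowers (p 2 * p 3)) Y ⊔ zpowers (nn p) :=
      mem_sup_left (le_cl _ _ (mem_zpowers (p 2 * p 3)))
    have h1 : nn p ∈ cl (zpowers (p 2 * p 3)) Y ⊔ zpowers (nn p) := mem_sup_right (mem_zpowers _)
    rcases t.five.std.mem_zcT.1 hx with rfl | rfl | rfl | rfl
    · exact one_mem _
    · exact h1
    · exact h0
    · rw [← t.five.std.na]
      exact mul_mem h1 h0
  · rw [mem_normalizer_iff_cj, cj_sup, cj_eq_of_mem_normalizer (le_normalizer_cl _ _ hy)]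
    have h1 : y ∈ normalizer (zpowers (nn p) : Set G) := by
      have h2 := t.cen hy
      rw [← cent_zpowers] at h2
      exact centralizer_le_normalizer _ h2
    rw [cj_eq_of_mem_normalizer h1]

/-- (5) -/
theorem mvW (hAQ : A ≤ o2 P) (hAY : ¬ A ≤ o2 Y) : ¬ A ≤ centralizer (cl (zpowers (p 2 * p 3)) Y : Set G) := by
  intro h
  apply hAY
  intro a ha
  have haT : a ∈ Std.T (S : Subgroup G) p := t.wy.toWQ.QT (hAQ ha)
  refine t.ker haT fun v hv => ?_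
  have h1 : cl (zpowers (p 2 * p 3)) Y ⊔ zpowers (nn p) ≤ centralizer ({a} : Set G) := by
    refine sup_le (fun w hw => ?_) ?_
    · rw [mem_centralizer_singleton_iff]
      exact mem_centralizer_iff.1 (h ha) w hw
    · rw [zpowers_le, mem_centralizer_singleton_iff]
      exact (mem_centralizer_singleton_iff.1 (t.cen (t.TY haT))).symm
  have h2 := mem_centralizer_singleton_iff.1 (h1 (t.zl_le_W hv))
  have e : a * v * a⁻¹ * v⁻¹ = 1 := by rw [← h2]; group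
  rw [e]
  exact one_mem _

end TorS

end Cfsg.Agent.Omega.NO3S.WY.Tor.SFive

end
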